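import Cfsg.Agent.Lib.Spor.HSLocal.Words

/-!
The forced relation and the reduction of the theorem to the pieces of the recognition.
-/

set_option autoImplicit false

namespace CfsgLib.Spor.HSLocal

universe u

variable {G : Type u} [Group G]

/-- inverse letters of the seven letters of `Data.mRels` -/
def minv : Fin 7 → Fin 7 := ![0, 1, 2, 3, 4, 6, 5]

/-- the seven letters in the six generators -/
def msub : Fin 7 → List (Fin 6) := ![[5], [2], [3], [4], [0, 2, 4, 2, 4, 0], [0, 1], [1, 0]]

/-- the four relations involving `h` only -/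
def hRels : List (List (Fin 6)) :=
  [[0, 2, 3, 0, 3, 2], [0, 2, 0, 2], [0, 4, 0, 4, 0, 4, 1, 0], [0, 3, 0, 3]]

theorem rels_origin : ∀ r ∈ Data.rels, r ∈ hRels ∨
    ∃ w ∈ Data.mRels, cred id (w.flatMap msub) = r := by
  decide +kernel

theorem commute_conj {x y z : G} (h : x⁻¹ * y * x * z = z * (x⁻¹ * y * x)) :
    y * (x * z * x⁻¹) = x * z * x⁻¹ * y := by
  calc y * (x * z * x⁻¹) = x * (x⁻¹ * y * x * z) * x⁻¹ := by group
    _ = x * (z * (x⁻¹ * y * x)) * x⁻¹ := by rw [h]
    _ = x * z * x⁻¹ * y := by group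

section

variable {S : Setup G} {a b e h : G}

/-- the six generators -/
def sixGens (a b e h : G) : Fin 6 → G := ![h, h * e, gs a b, gq a b, gx a b e, a]

theorem mlet_inv (M : MGens S a b e) : ∀ x, mlet a b e x * mlet a b e (minv x) = 1 := by
  intro x
  fin_cases x
  · exact M.a_sq
  · exact M.s_sq
  · exact M.q_sq
  · exact M.x_sq
  · exact M.w_sq
  · exact mul_inv_cancel e
  · exact inv_mul_cancel e

theorem mrel (M : MGens S a b e) (l : List (Fin 7)) (hl : cred minv l ∈ Data.mRels) :
    ev (mlet a b e) l = 1 :=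
  (ev_cred minv (mlet_inv M) l).1 (M.rels _ hl)

theorem b_eq (M : MGens S a b e) : b = gs a b * gq a b := by
  rw [gq, ← mul_assoc, M.s_sq, one_mul]

theorem binv_eq (M : MGens S a b e) : b⁻¹ = gq a b * gs a b := by
  refine inv_eq_of_mul_eq_one_right ?_
  conv_lhs => arg 1; rw [b_eq M]
  calc gs a b * gq a b * (gq a b * gs a b) = gs a b * (gq a b * gq a b) * gs a b := by group
    _ = 1 := by rw [M.q_sq, mul_one, M.s_sq]

theorem he_sq (K : HElt S a b e h) : h * e * (h * e) = 1 := by
  rw [show h * e * (h * e) = h * e * h * e by group, K.inv_e, inv_mul_cancel]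

theorem six (M : MGens S a b e) (K : HElt S a b e h) : Six (sixGens a b e h) := by
  have hsq : ∀ i, sixGens a b e h i * sixGens a b e h i = 1 := by
    intro i
    fin_cases i
    · exact K.sq
    · exact he_sq K
    · exact M.s_sq
    · exact M.q_sq
    · exact M.x_sq
    · exact M.a_sq
  refine ⟨hsq, fun r hr => ?_⟩
  rcases rels_origin r hr with hh | ⟨w, hw, rfl⟩
  · have hsq' : gs a b * gq a b = b := (b_eq M).symm
    have hqs : gq a b * gs a b = b⁻¹ := (binv_eq M).symm
    simp only [hRels, List.mem_cons, List.not_mem_nil, or_false] at hh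
    rcases hh with rfl | rfl | rfl | rfl <;>
      simp only [ev, List.map_cons, List.map_nil, List.prod_cons, List.prod_nil, mul_one,
        sixGens, Matrix.cons_val_zero, Matrix.cons_val_one, Matrix.cons_val]
    · rw [hqs, ← mul_assoc (gs a b), hsq', show h * (b * (h * b⁻¹)) = h * b * h * b⁻¹ by group,
        K.comm_b, mul_assoc b, K.sq, mul_one, mul_inv_cancel]
    · simpa only [mul_assoc] using K.hs
    · have e1 : h * (gx a b e * (h * (gx a b e * (h * (gx a b e * (h * e * h)))))) =
          h * gx a b e * (h * gx a b e) * (h * gx a b e) * (h * e * h) := by group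
      rw [e1, K.hx, K.inv_e, mul_inv_cancel]
    · have hsbs : gs a b * b * gs a b = b⁻¹ := by
        refine eq_inv_of_mul_eq_one_left ?_
        have := M.q_sq; rw [gq] at this; simpa only [mul_assoc] using this
      have e1 : h * (gq a b * (h * gq a b)) = h * gs a b * (b * h) * gs a b * b := by
        rw [gq]; group
      have e2 : h * gs a b * (h * b) * gs a b * b
          = h * gs a b * (h * gs a b) * ((gs a b)⁻¹ * b * gs a b) * b := by group
      rw [e1, ← K.comm_b, e2, K.hs, one_mul, inv_eq_of_mul_eq_one_right M.s_sq, hsbs,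
        inv_mul_cancel]
  · rw [ev_cred id (fun x => hsq x), ev_flatMap msub (mlet a b e), M.rels w hw]
    intro x
    have e4 : h * (gs a b * (gx a b e * (gs a b * (gx a b e * h)))) = gw a b := by
      rw [← K.conj_v, M.v_eq]; group
    have e5 : h * (h * e) = e := by rw [← mul_assoc, K.sq, one_mul]
    fin_cases x <;> simp [ev, msub, sixGens, mlet, e4, e5, K.inv_e]

/-- `b⁻¹ v b` -/
theorem vb_word (M : MGens S a b e) :
    ev (mlet a b e) [2, 1, 3, 1, 3, 1, 1, 2] = (b⁻¹ * gv a b e * b)⁻¹ := by
  have e1 : b⁻¹ * gv a b e * b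
      = gq a b * gs a b * (gs a b * gx a b e * (gs a b * gx a b e)) * (gs a b * gq a b) := by
    rw [← binv_eq M, ← b_eq M, M.v_eq]
  rw [e1]
  simp only [ev, List.map_cons, List.map_nil, List.prod_cons, List.prod_nil, mul_one, mlet,
    Matrix.cons_val_zero, Matrix.cons_val_one, Matrix.cons_val, mul_inv_rev,
    inv_eq_of_mul_eq_one_right M.s_sq, inv_eq_of_mul_eq_one_right M.q_sq,
    inv_eq_of_mul_eq_one_right M.x_sq, mul_assoc]

theorem forced (M : MGens S a b e) (K : HElt S a b e h) :
    cbc (sixGens a b e h) ∈ S.H ∧ cbc (sixGens a b e h) ≠ 1 ∧ cbc (sixGens a b e h) ^ 3 = 1 ∧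
      cbc (sixGens a b e h) * (gs a b * gq a b * gs a b)
        = gs a b * gq a b * gs a b * cbc (sixGens a b e h) := by
  set s := gs a b
  set q := gq a b
  set x := gx a b e
  set t := S.t with ht
  have hT : t = e * e := M.t_eq
  have hc : ∀ g ∈ S.H, t * g = g * t := fun g hg => by
    rw [S.hH, Subgroup.mem_centralizer_singleton_iff] at hg
    exact hg.symm
  have hxH : x ∈ S.H := by
    have : x ∈ S.H ⊓ S.M := by
      rw [M.meet]; exact Subgroup.subset_closure (by simp [x])
    exact this.1
  set vb := b⁻¹ * gv a b e * b with hvb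
  set wb := b⁻¹ * gw a b * b with hwb
  have hwb' : q * s * gw a b * (s * q) = wb := by rw [hwb, binv_eq M]; nth_rw 5 [b_eq M]
  have hconj : h * vb * h = wb := by
    have hb : h * b⁻¹ = b⁻¹ * h := (Commute.inv_right K.comm_b).eq
    rw [hvb, hwb, ← K.conj_v]
    calc h * (b⁻¹ * gv a b e * b) * h = h * b⁻¹ * gv a b e * (b * h) := by group
      _ = b⁻¹ * h * gv a b e * (h * b) := by rw [hb, K.comm_b]
      _ = b⁻¹ * (h * gv a b e * h) * b := by group
  have h1 : a * t * a = vb := by
    have h0 := mrel M ([0, 5, 5, 0] ++ [2, 1, 3, 1, 3, 1, 1, 2]) (by decide +kernel)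
    rw [ev_append, vb_word M, mul_inv_eq_one] at h0
    rw [hT, ← hvb] at *
    rw [← h0]
    simp [ev, mlet, mul_assoc]
  have h2 : q * x * s * a * wb * (a * s * x * q) = x := by
    have h0 := mrel M [2, 3, 1, 0, 2, 1, 4, 1, 2, 0, 1, 3, 2, 3] (by decide +kernel)
    simp only [ev, List.map_cons, List.map_nil, List.prod_cons, List.prod_nil, mul_one, mlet,
      Matrix.cons_val_zero, Matrix.cons_val_one, Matrix.cons_val] at h0
    rw [← hwb']
    refine (mul_eq_one_iff_eq_inv.1 ?_).trans (inv_eq_of_mul_eq_one_right M.x_sq)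
    simpa only [mul_assoc] using h0
  have h3 : a * s * x * q * t * (q * x * s * a) = vb := by
    have h0 := mrel M ([0, 1, 3, 2, 5, 5, 2, 3, 1, 0] ++ [2, 1, 3, 1, 3, 1, 1, 2])
      (by decide +kernel)
    rw [ev_append, vb_word M, mul_inv_eq_one] at h0
    rw [← hvb] at h0
    rw [hT, ← h0]
    simp [ev, mlet, mul_assoc, s, q, x]
  have h4 : a * wb * a = s * q * s := by
    have h0 := mrel M [0, 2, 1, 4, 1, 2, 0, 1, 2, 1] (by decide +kernel)
    simp only [ev, List.map_cons, List.map_nil, List.prod_cons, List.prod_nil, mul_one, mlet,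
      Matrix.cons_val_zero, Matrix.cons_val_one, Matrix.cons_val] at h0
    rw [← hwb']
    have hi : (s * q * s)⁻¹ = s * q * s := by
      simp [s, q, inv_eq_of_mul_eq_one_right M.s_sq, inv_eq_of_mul_eq_one_right M.q_sq, mul_assoc]
    refine (mul_eq_one_iff_eq_inv.1 ?_).trans hi
    simpa only [mul_assoc] using h0
  have hi : ∀ y : G, y * y = 1 → y⁻¹ = y := fun y hy => inv_eq_of_mul_eq_one_right hy
  set W := ev (sixGens a b e h) Data.chain with hW
  have hWv : W = a * h * (a * s * x * q) * (h * x * h) := by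
    simp [hW, Data.chain, ev, sixGens, mul_assoc, s, q, x]
  have hWi : W⁻¹ = h * x * h * (q * x * s * a) * (h * a) := by
    rw [hWv]
    simp only [mul_inv_rev, hi h K.sq, hi a M.a_sq, hi s M.s_sq, hi q M.q_sq, hi x M.x_sq,
      mul_assoc]
  have hxx : h * x * h * (x * (h * x * h)) = e * h := by
    calc h * x * h * (x * (h * x * h)) = h * x * (h * x) * (h * x) * h := by group
      _ = e * h := by rw [K.hx]
  have hA : W⁻¹ * t * W = e * h := by
    rw [hWi, hWv]
    calc h * x * h * (q * x * s * a) * (h * a) * t * (a * h * (a * s * x * q) * (h * x * h))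
        = h * x * h * (q * x * s * a) * (h * (a * t * a) * h) * (a * s * x * q) *
          (h * x * h) := by group
      _ = h * x * h * (q * x * s * a * wb * (a * s * x * q) * (h * x * h)) := by
        rw [h1, hconj]; group
      _ = e * h := by rw [h2, hxx]
  have hth : t * (h * x * h) = h * x * h * t :=
    hc _ (S.H.mul_mem (S.H.mul_mem K.mem hxH) K.mem)
  have hB : W * t * W⁻¹ = s * q * s := by
    rw [hWi, hWv]
    calc a * h * (a * s * x * q) * (h * x * h) * t * (h * x * h * (q * x * s * a) * (h * a))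
        = a * h * (a * s * x * q) * (h * x * h * (t * (h * x * h))) * (q * x * s * a) *
          (h * a) := by group
      _ = a * h * (a * s * x * q * t * (q * x * s * a)) * (h * a) := by
        rw [hth, show h * x * h * (h * x * h * t) = h * x * (h * h) * x * h * t by group, K.sq,
          mul_one, mul_assoc h x x, M.x_sq, mul_one, K.sq, one_mul]
        group
      _ = a * (h * vb * h) * a := by rw [h3]; group
      _ = s * q * s := by rw [hconj, h4]
  have hcb : cbc (sixGens a b e h) = W * b * W⁻¹ := by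
    rw [cbc, ← hW]
    congr 2
    exact (b_eq M).symm
  rw [hcb]
  refine ⟨?_, ?_, ?_, ?_⟩
  · rw [S.hH, Subgroup.mem_centralizer_singleton_iff]
    refine (commute_conj ?_).symm
    rw [hA]
    calc e * h * b = e * b * h := by rw [mul_assoc, K.comm_b, ← mul_assoc]
      _ = b * (e * h) := by rw [M.comm_eb, mul_assoc]
  · simpa using M.b_ne
  · rw [conj_pow, M.b_cube]; simp
  · rw [← hB]
    have hbt : b * t = t * b := by
      rw [hT, ← mul_assoc, ← M.comm_eb, mul_assoc e b, ← M.comm_eb, ← mul_assoc]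
    calc W * b * W⁻¹ * (W * t * W⁻¹) = W * (b * t) * W⁻¹ := by group
      _ = W * (t * b) * W⁻¹ := by rw [hbt]
      _ = W * t * W⁻¹ * (W * b * W⁻¹) := by group

end

/-- the theorem from its pieces -/
theorem isoHS_of_pieces [Finite G] (S : Setup G) {a b e h : G} (M : MGens S a b e)
    (K : HElt S a b e h) (hcardH : Nat.card S.H = 7680) (hcol : CollapseSpec.{u})
    (hcand : CandsSpec.{u}) (hhom : HomSpec.{u}) (hend : EndSpec.{u}) :
    Cfsg.Spor.IsoHS G := by
  classical
  have hsix := six M K
  have hfive : five (sixGens a b e h) = S.H := K.gen.symm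
  obtain ⟨hy1, hy2, hy3, hy4⟩ := forced M K
  obtain ⟨c, hc, hyc⟩ := hcand G _ hsix (by rw [hfive, hcardH]) _ (hfive ▸ hy1) hy2 hy3 hy4
  by_cases htrue : c = trueCand
  · obtain ⟨φ, hφ⟩ := hhom G _ hsix (htrue ▸ hyc)
    refine hend G S φ ?_
    have he : e ∈ φ.range := by
      have : h * (h * e) ∈ φ.range := φ.range.mul_mem (hφ 0) (hφ 1)
      rwa [← mul_assoc, K.sq, one_mul] at this
    rw [M.t_eq]
    exact φ.range.mul_mem he he
  · exact absurd (hfive ▸ hcol G _ hsix c hc htrue hyc) M.a_not

end CfsgLib.Spor.HSLocal
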