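import Cfsg.Agent.Lib.Spor.HSLocal.CoordSetup

/-!
The frame of the two-local subgroup attached to an element of order three of the complement.
-/

set_option autoImplicit false
set_option maxRecDepth 100000
set_option linter.style.haveILetI false
set_option linter.unusedSectionVars false

namespace CfsgLib.Spor.HSLocal.CoordPrep

open CoordModel

universe u

variable {G : Type u} [Group G] [Finite G] {S : Setup G}

theorem exists_frame (L : Local S) {L0 : Subgroup G} (K : Compl S L0) :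
    ∃ b e f g : G, b ∈ L0 ∧ b ^ 3 = 1 ∧ b ≠ 1 ∧ e ∈ S.Cy ∧ e * e = S.t ∧ e * b = b * e ∧
      Frame L0 S.A e f g ∧ RepL L0 e f g b bM ∧
      Basis S.V 2 S.t (f * f) (g * g) vecs2 := by
  classical
  obtain ⟨b, e, hb, hb3, hbne, he, het, heb, hfix⟩ := exists_be L K
  have sqv : ∀ v ∈ S.V, v * v = 1 := fun v hv => by rw [← sq]; exact S.hVexp v hv
  obtain ⟨y0, z0', B0⟩ := exists_basis L
  obtain ⟨u, hu, hu'⟩ : ∃ u ∈ S.V, b⁻¹ * u * b ≠ u := by
    by_contra hc
    push Not at hc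
    exact hbne (eq_one_of_cent_V L K hb hc)
  obtain ⟨c, hc, hcu⟩ := square_of_V L hu
  let P1 := b⁻¹ * c * b
  let P2 := b⁻¹ * P1 * b
  have hP1 : P1 ∈ S.A := norm_A L (K.le hb) hc
  have hP2 : P2 ∈ S.A := norm_A L (K.le hb) hP1
  have hP3 : b⁻¹ * P2 * b = c := by
    rw [show b⁻¹ * P2 * b = (b ^ 3)⁻¹ * c * b ^ 3 by simp [P2, P1, pow_succ, mul_assoc], hb3]
    group
  let f := P1 * c⁻¹
  let g := b⁻¹ * f * b
  have hf : f ∈ S.A := mul_mem hP1 (inv_mem hc)
  have hg : g ∈ S.A := norm_A L (K.le hb) hf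
  have hsq : ∀ a ∈ S.A, a * a ∈ S.V := fun a ha => L.V_eq _ (mul_mem ha ha) (by
    rw [← sq, ← pow_mul]; exact A_pow_four L ha)
  have hff : f * f = b⁻¹ * u * b * u⁻¹ := by
    have h1 : c⁻¹ * P1 = P1 * c⁻¹ := L.A_comm _ (inv_mem hc) _ hP1
    calc f * f = P1 * (c⁻¹ * P1) * c⁻¹ := by simp [f, mul_assoc]
      _ = P1 * (P1 * c⁻¹) * c⁻¹ := by rw [h1]
      _ = b⁻¹ * (c * c) * b * (c * c)⁻¹ := by simp [P1, mul_assoc]
      _ = b⁻¹ * u * b * u⁻¹ := by rw [hcu]
  have hgg : g * g = b⁻¹ * (f * f) * b := by simp [g, mul_assoc]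
  have hwV : f * f ∈ S.V := hsq f hf
  have hw'V : g * g ∈ S.V := hsq g hg
  have hw1 : f * f ≠ 1 := by
    rw [hff]; exact fun h => hu' (mul_inv_eq_one.1 h)
  have hwt : f * f ≠ S.t := by
    rw [hff]
    intro h
    have hbt : b⁻¹ * S.t * b = S.t := by
      rw [← het]
      calc b⁻¹ * (e * e) * b = b⁻¹ * e * b * (b⁻¹ * e * b) := by group
        _ = e * e := by rw [mul_assoc b⁻¹ e b, heb, inv_mul_cancel_left]
    have h' : b⁻¹ * u * b = S.t * u := by rw [← h]; group
    have h3 : (b ^ 3)⁻¹ * u * b ^ 3 = S.t * u := by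
      rw [show (b ^ 3)⁻¹ * u * b ^ 3 = b⁻¹ * (b⁻¹ * (b⁻¹ * u * b) * b) * b by
        simp [pow_succ, mul_assoc], h',
        show b⁻¹ * (S.t * u) * b = b⁻¹ * S.t * b * (b⁻¹ * u * b) by group, hbt, h',
        ← mul_assoc S.t S.t u, t_sq, one_mul, h']
    rw [hb3] at h3
    exact t_ne (by simpa using h3)
  have hww : g * g ≠ f * f := by
    intro h
    rcases hfix _ hwV (hgg.symm.trans h) with h1 | h1
    · exact hw1 h1
    · exact hwt h1
  have hw'1 : g * g ≠ 1 := by
    rw [hgg]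
    intro h
    apply hw1
    calc f * f = b * (b⁻¹ * (f * f) * b) * b⁻¹ := by group
      _ = 1 := by rw [h]; group
  have hbt : b⁻¹ * S.t * b = S.t := by
    rw [← het]
    calc b⁻¹ * (e * e) * b = b⁻¹ * e * b * (b⁻¹ * e * b) := by group
      _ = e * e := by rw [mul_assoc b⁻¹ e b, heb, inv_mul_cancel_left]
  have hw't : g * g ≠ S.t := by
    rw [hgg]
    intro h
    apply hwt
    calc f * f = b * (b⁻¹ * (f * f) * b) * b⁻¹ := by group
      _ = b * (b⁻¹ * S.t * b) * b⁻¹ := by rw [h, hbt]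
      _ = S.t := by group
  have hfg : f * g * (b⁻¹ * g * b) = 1 := by
    have e1 : g = P2 * P1⁻¹ := by simp [g, f, P2, P1, mul_assoc]
    have e2 : b⁻¹ * g * b = c * P2⁻¹ := by
      rw [e1, show b⁻¹ * (P2 * P1⁻¹) * b = b⁻¹ * P2 * b * (b⁻¹ * P1 * b)⁻¹ by group, hP3]
    rw [e2, e1]
    have h1 : P1 * c⁻¹ * (P2 * P1⁻¹) = P2 * P1⁻¹ * (P1 * c⁻¹) :=
      L.A_comm _ hf _ (mul_mem hP2 (inv_mem hP1))
    show P1 * c⁻¹ * (P2 * P1⁻¹) * (c * P2⁻¹) = 1
    rw [h1]; group
  have hVC : Coords S.V 2 S.t (f * f) (g * g) :=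
    ⟨L.t_mem, hwV, hw'V, fun a ha b hb => V_comm ha hb, fun a ha => S.hVexp a ha⟩
  have hker : ∀ w ∈ vecs2, phi S.t (f * f) (g * g) w = 1 → w = z0 := by
    have iv : ∀ v ∈ S.V, v⁻¹ = v := fun v hv => inv_eq_of_mul_eq_one_right (sqv v hv)
    intro w hw h
    simp only [vecs2, List.range_succ, List.range_zero, List.nil_append, List.mem_flatMap,
      List.mem_map, List.mem_cons, List.mem_append, List.not_mem_nil, or_false] at hw
    obtain ⟨i, hi, j, hj, k, hk, rfl⟩ := hw
    rcases hi with rfl | rfl <;> rcases hj with rfl | rfl <;> rcases hk with rfl | rfl <;>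
      simp [phi, z0] at h ⊢
    · exact hw'1 h
    · exact hw1 h
    · exact hww ((eq_inv_of_mul_eq_one_right h).trans (iv _ hwV))
    · exact t_ne h
    · exact hw't ((eq_inv_of_mul_eq_one_right h).trans (iv _ L.t_mem))
    · exact hwt ((eq_inv_of_mul_eq_one_right h).trans (iv _ L.t_mem))
    · have hgt : g * g = S.t * (f * f) :=
        (eq_inv_of_mul_eq_one_right h).trans (iv _ (mul_mem L.t_mem hwV))
      have hb2 : b⁻¹ * (g * g) * b = S.t * (g * g) := by
        nth_rw 1 [hgt]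
        rw [show b⁻¹ * (S.t * (f * f)) * b = b⁻¹ * S.t * b * (b⁻¹ * (f * f) * b) by group, hbt,
          ← hgg]
      have hfix2 : b⁻¹ * (g * g) * b = f * f := by
        rw [hb2, hgt, ← mul_assoc, t_sq, one_mul]
      have h3 : (b ^ 3)⁻¹ * (f * f) * b ^ 3 = f * f := by rw [hb3]; group
      rw [show (b ^ 3)⁻¹ * (f * f) * b ^ 3 = b⁻¹ * (b⁻¹ * (b⁻¹ * (f * f) * b) * b) * b by
        simp [pow_succ, mul_assoc], ← hgg, hfix2, ← hgg] at h3
      exact hww h3
  have B2 := basis_of_ker hVC hker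
  have hA : Coords S.A 4 e f g :=
    ⟨L.Cy_le_A he, hf, hg, L.A_comm, fun a ha => A_pow_four L ha⟩
  have hkerA : ∀ w ∈ vecs, phi e f g w = 1 → w = z0 := by
    intro w hw h
    have h2 : phi S.t (f * f) (g * g) (par w) = 1 := by
      rw [hVC.phi_congr (v := w) (by simp [par]) (by simp [par]) (by simp [par])]
      have h' : phi e f g w * phi e f g w = 1 := by rw [h, one_mul]
      rw [hA.phi_add] at h'
      have e1 : ∀ (x : G) (n : ℕ), (x * x) ^ n = x ^ (n + n) := fun x n => by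
        rw [← sq, ← pow_mul, two_mul]
      rw [← het]
      simpa [phi, e1] using h'
    have hp := B2.inj _ (par_mem w) z0 (by decide) (h2.trans (by simp [phi, z0]))
    obtain ⟨u', hu', rfl⟩ : ∃ u' ∈ vecs2, w = (2 * u'.1, 2 * u'.2.1, 2 * u'.2.2) :=
      (by decide +kernel : ∀ w ∈ vecs, par w = z0 →
        ∃ u' ∈ vecs2, w = (2 * u'.1, 2 * u'.2.1, 2 * u'.2.2)) w hw hp
    have h3 : phi S.t (f * f) (g * g) u' = 1 := by
      rw [← het]
      simpa [phi, pow_mul, sq] using h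
    obtain rfl := B2.inj u' hu' z0 (by decide) (h3.trans (by simp [phi, z0]))
    simp [z0]
  have hinj : ∀ u ∈ vecs, ∀ v ∈ vecs, phi e f g u = phi e f g v → u = v :=
    fun u hu v hv h => hA.four_inj hkerA hu hv h
  have hBA : Basis S.A 4 e f g vecs := by
    refine { toCoords := hA, inj := hinj, sur := ?_ }
    have hsub : ((vecs.toFinset.image (phi e f g) : Finset G) : Set G) ⊆ (S.A : Set G) := by
      intro a ha
      simp only [Finset.coe_image, Set.mem_image] at ha
      obtain ⟨v, -, rfl⟩ := ha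
      exact hA.phi_mem v
    have hn : vecs.Nodup := by decide +kernel
    have hc64 : (vecs.toFinset.image (phi e f g)).card = 64 := by
      rw [Finset.card_image_of_injOn (fun u hu v hv h =>
        hinj u (List.mem_toFinset.1 hu) v (List.mem_toFinset.1 hv) h),
        List.toFinset_card_of_nodup hn, vecs_length]
    have h := Set.eq_of_subset_of_ncard_le hsub (by
      rw [Set.ncard_coe_finset, hc64]; exact le_of_eq L.card_A) (Set.toFinite _)
    intro a ha
    have : a ∈ ((vecs.toFinset.image (phi e f g) : Finset G) : Set G) := by rw [h]; exact ha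
    simpa using this
  refine ⟨b, e, f, g, hb, hb3, hbne, he, het, heb, ?_, ?_, B2⟩
  · exact { toBasis := hBA
            norm := fun l hl a ha => norm_A L (K.le hl) ha
            faith := fun l hl h => eq_one_of_cent_V L K hl fun v hv => h v (L.V_le_A hv) }
  · have e3 : b⁻¹ * g * b = phi e f g (0, 3, 3) := by
      have h1 : b⁻¹ * g * b = (f * g)⁻¹ := eq_inv_of_mul_eq_one_right hfg
      rw [h1]
      apply inv_eq_of_mul_eq_one_right
      have hfg' : f * g = phi e f g (0, 1, 1) := by simp [phi]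
      rw [hfg', hA.phi_add]
      exact (hA.phi_congr (v := z0) (by simp [z0]) (by simp [z0]) (by simp [z0])).trans (by simp [phi, z0])
    refine ⟨hb, ?_, ?_, e3⟩
    · show b⁻¹ * e * b = _
      rw [mul_assoc, heb, ← mul_assoc]
      simp [phi, bM]
    · simp [phi, bM, g]

end CfsgLib.Spor.HSLocal.CoordPrep
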