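import Cfsg.Agent.Lib.Spor.HSLocal.CoordModel

/-!
Coordinates on a homocyclic abelian subgroup of rank three and the computing representation of the
split extension.
-/

set_option autoImplicit false
set_option maxRecDepth 100000
set_option linter.style.haveILetI false

namespace CfsgLib.Spor.HSLocal.CoordModel

section comm

variable {K : Type*} [CommGroup K]

theorem lin_comm (x y z : K) (n : Mc) (u : Vc) :
    (x ^ n.1.1 * y ^ n.1.2.1 * z ^ n.1.2.2) ^ u.1 *
      (x ^ n.2.1.1 * y ^ n.2.1.2.1 * z ^ n.2.1.2.2) ^ u.2.1 *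
      (x ^ n.2.2.1 * y ^ n.2.2.2.1 * z ^ n.2.2.2.2) ^ u.2.2 =
    x ^ (u.1 * n.1.1 + u.2.1 * n.2.1.1 + u.2.2 * n.2.2.1) *
      y ^ (u.1 * n.1.2.1 + u.2.1 * n.2.1.2.1 + u.2.2 * n.2.2.2.1) *
      z ^ (u.1 * n.1.2.2 + u.2.1 * n.2.1.2.2 + u.2.2 * n.2.2.2.2) := by
  simp only [mul_pow, pow_add, ← pow_mul]
  simp only [mul_comm u.1, mul_comm u.2.1, mul_comm u.2.2]
  ac_rfl

end comm

variable {G : Type*} [Group G]

/-- the element with given coordinates -/
def phi (x y z : G) (v : Vc) : G := x ^ v.1 * y ^ v.2.1 * z ^ v.2.2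

theorem red_mem (v : Vc) : red v ∈ vecs := by
  simp [vecs, red, Nat.mod_lt]

theorem mv_red (m : Mc) (v : Vc) : mv m v ∈ vecs := by
  simp [vecs, mv, Nat.mod_lt]

theorem par_mem (v : Vc) : par v ∈ vecs2 := by
  simp [vecs2, par]
  omega

theorem par_eq : ∀ u ∈ vecs2, ∀ v ∈ vecs2, par (vadd u v) = z0 → u = v := by decide +kernel

theorem four_eq : ∀ u ∈ vecs, ∀ v ∈ vecs,
    vadd u (3 * v.1, 3 * v.2.1, 3 * v.2.2) = z0 → u = v := by decide +kernel

theorem vecs_length : vecs.length = 64 := by decide +kernel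

/-- three elements of an abelian subgroup of exponent dividing `k` -/
structure Coords (A : Subgroup G) (k : ℕ) (x y z : G) : Prop where
  x_mem : x ∈ A
  y_mem : y ∈ A
  z_mem : z ∈ A
  comm : ∀ a ∈ A, ∀ b ∈ A, a * b = b * a
  pow_eq : ∀ a ∈ A, a ^ k = 1

/-- coordinates on an abelian subgroup of exponent dividing `k` -/
structure Basis (A : Subgroup G) (k : ℕ) (x y z : G) (R : List Vc) : Prop
    extends Coords A k x y z where
  inj : ∀ u ∈ R, ∀ v ∈ R, phi x y z u = phi x y z v → u = v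
  sur : ∀ a ∈ A, ∃ v ∈ R, phi x y z v = a

namespace Coords

variable {A : Subgroup G} {k : ℕ} {x y z : G}

theorem phi_mem (B : Coords A k x y z) (v : Vc) : phi x y z v ∈ A :=
  mul_mem (mul_mem (pow_mem B.x_mem _) (pow_mem B.y_mem _)) (pow_mem B.z_mem _)

theorem phi_congr (B : Coords A k x y z) {u v : Vc} (h1 : u.1 % k = v.1 % k)
    (h2 : u.2.1 % k = v.2.1 % k) (h3 : u.2.2 % k = v.2.2 % k) :
    phi x y z u = phi x y z v := by
  unfold phi
  rw [pow_eq_pow_mod u.1 (B.pow_eq x B.x_mem), pow_eq_pow_mod v.1 (B.pow_eq x B.x_mem),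
    pow_eq_pow_mod u.2.1 (B.pow_eq y B.y_mem), pow_eq_pow_mod v.2.1 (B.pow_eq y B.y_mem),
    pow_eq_pow_mod u.2.2 (B.pow_eq z B.z_mem), pow_eq_pow_mod v.2.2 (B.pow_eq z B.z_mem),
    h1, h2, h3]

theorem phi_lin (B : Coords A k x y z) (n : Mc) (u : Vc) :
    phi (phi x y z n.1) (phi x y z n.2.1) (phi x y z n.2.2) u =
      phi x y z (u.1 * n.1.1 + u.2.1 * n.2.1.1 + u.2.2 * n.2.2.1,
        u.1 * n.1.2.1 + u.2.1 * n.2.1.2.1 + u.2.2 * n.2.2.2.1,
        u.1 * n.1.2.2 + u.2.1 * n.2.1.2.2 + u.2.2 * n.2.2.2.2) := by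
  let i : CommGroup A :=
    { (inferInstance : Group A) with
      mul_comm := fun a b => Subtype.ext (B.comm a a.2 b b.2) }
  have h := congrArg Subtype.val
    (lin_comm (⟨x, B.x_mem⟩ : A) ⟨y, B.y_mem⟩ ⟨z, B.z_mem⟩ n u)
  simpa [phi] using h

theorem phi_add (B : Coords A k x y z) (u v : Vc) :
    phi x y z u * phi x y z v = phi x y z (u.1 + v.1, u.2.1 + v.2.1, u.2.2 + v.2.2) := by
  have h := B.phi_lin (u, v, z0) (1, 1, 0)
  simpa [phi, z0] using h

/-- conjugation is linear -/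
theorem conj_phi (B : Coords A k x y z) (l : G) {n : Mc} (h1 : l⁻¹ * x * l = phi x y z n.1)
    (h2 : l⁻¹ * y * l = phi x y z n.2.1) (h3 : l⁻¹ * z * l = phi x y z n.2.2) (u : Vc) :
    l⁻¹ * phi x y z u * l = phi x y z (u.1 * n.1.1 + u.2.1 * n.2.1.1 + u.2.2 * n.2.2.1,
      u.1 * n.1.2.1 + u.2.1 * n.2.1.2.1 + u.2.2 * n.2.2.2.1,
      u.1 * n.1.2.2 + u.2.1 * n.2.1.2.2 + u.2.2 * n.2.2.2.2) := by
  rw [← B.phi_lin, ← h1, ← h2, ← h3]
  have := map_mul (MulAut.conj l⁻¹)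
  have e : ∀ w : G, MulAut.conj l⁻¹ w = l⁻¹ * w * l := fun w => by simp
  rw [← e, ← e, ← e, ← e]
  simp only [phi, map_mul, map_pow]

theorem par_inj (B : Coords A 2 x y z) (hker : ∀ w ∈ vecs2, phi x y z w = 1 → w = z0)
    {u v : Vc} (hu : u ∈ vecs2) (hv : v ∈ vecs2) (h : phi x y z u = phi x y z v) : u = v := by
  have h1 := hker (par (vadd u v)) (par_mem _) (by
    rw [B.phi_congr (v := (u.1 + v.1, u.2.1 + v.2.1, u.2.2 + v.2.2)) (by simp [par, vadd])
      (by simp [par, vadd]) (by simp [par, vadd]), ← B.phi_add, h, ← sq]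
    exact B.pow_eq _ (B.phi_mem _))
  exact par_eq u hu v hv h1

theorem four_inj (B : Coords A 4 x y z) (hker : ∀ w ∈ vecs, phi x y z w = 1 → w = z0)
    {u v : Vc} (hu : u ∈ vecs) (hv : v ∈ vecs) (h : phi x y z u = phi x y z v) : u = v := by
  have h1 := hker (vadd u (3 * v.1, 3 * v.2.1, 3 * v.2.2)) (by simp [vecs, vadd, Nat.mod_lt]) (by
    rw [B.phi_congr (v := (u.1 + 3 * v.1, u.2.1 + 3 * v.2.1, u.2.2 + 3 * v.2.2)) (by simp [vadd])
      (by simp [vadd]) (by simp [vadd]), ← B.phi_add u (3 * v.1, 3 * v.2.1, 3 * v.2.2), h,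
      B.phi_add]
    exact (B.phi_congr (v := z0) (by simp [z0]; omega) (by simp [z0]; omega)
      (by simp [z0]; omega)).trans (by simp [phi, z0]))
  exact four_eq u hu v hv h1

end Coords

namespace Basis

variable {A : Subgroup G} {k : ℕ} {x y z : G} {R : List Vc}

theorem comm_phi (B : Basis A k x y z R) {l : G} (h1 : l⁻¹ * x * l = x) (h2 : l⁻¹ * y * l = y)
    (h3 : l⁻¹ * z * l = z) {a : G} (ha : a ∈ A) : l⁻¹ * a * l = a := by
  obtain ⟨v, -, rfl⟩ := B.sur a ha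
  have e1 : x = phi x y z (1, 0, 0) := by simp [phi]
  have e2 : y = phi x y z (0, 1, 0) := by simp [phi]
  have e3 : z = phi x y z (0, 0, 1) := by simp [phi]
  rw [B.conj_phi l (n := i1) (h1.trans e1) (h2.trans e2) (h3.trans e3)]
  simp [i1]

end Basis

/-- a basis of the abelian normal subgroup together with a group acting faithfully -/
structure Frame (L A : Subgroup G) (e f g : G) : Prop extends Basis A 4 e f g vecs where
  norm : ∀ l ∈ L, ∀ a ∈ A, l⁻¹ * a * l ∈ A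
  faith : ∀ l ∈ L, (∀ a ∈ A, l⁻¹ * a * l = a) → l = 1

/-- `l` acts by the matrix `m` -/
def RepL (L : Subgroup G) (e f g : G) (l : G) (m : Mc) : Prop :=
  l ∈ L ∧ l⁻¹ * e * l = phi e f g m.1 ∧ l⁻¹ * f * l = phi e f g m.2.1 ∧
    l⁻¹ * g * l = phi e f g m.2.2

/-- `x` has the coordinates `p` -/
def Rep (L : Subgroup G) (e f g : G) (x : G) (p : Pc) : Prop :=
  ∃ l, RepL L e f g l p.1 ∧ x = l * phi e f g p.2

namespace Frame

variable {L A : Subgroup G} {e f g : G}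

theorem phi_red (F : Frame L A e f g) (v : Vc) : phi e f g (red v) = phi e f g v :=
  F.phi_congr (by simp [red]) (by simp [red]) (by simp [red])

theorem conj_mv (F : Frame L A e f g) {l : G} {m : Mc} (h : RepL L e f g l m) (v : Vc) :
    l⁻¹ * phi e f g v * l = phi e f g (mv m v) := by
  rw [F.conj_phi l h.2.1 h.2.2.1 h.2.2.2 v]
  exact F.phi_congr (by simp [mv]) (by simp [mv]) (by simp [mv])

theorem repL_one (F : Frame L A e f g) : RepL L e f g 1 i1 :=
  ⟨one_mem _, by simp [phi, i1], by simp [phi, i1], by simp [phi, i1]⟩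

theorem repL_mul (F : Frame L A e f g) {l l' : G} {m m' : Mc} (h : RepL L e f g l m)
    (h' : RepL L e f g l' m') : RepL L e f g (l * l') (mm m' m) := by
  have key : ∀ (a : G) (v : Vc), l⁻¹ * a * l = phi e f g v →
      (l * l')⁻¹ * a * (l * l') = phi e f g (mv m' v) := by
    intro a v hv
    rw [show (l * l')⁻¹ * a * (l * l') = l'⁻¹ * (l⁻¹ * a * l) * l' by group, hv,
      F.conj_mv h' v]
  exact ⟨mul_mem h.1 h'.1, key e _ h.2.1, key f _ h.2.2.1, key g _ h.2.2.2⟩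

theorem repL_inj (F : Frame L A e f g) {l l' : G} {m : Mc} (h : RepL L e f g l m)
    (h' : RepL L e f g l' m) : l = l' := by
  have key : ∀ a : G, l⁻¹ * a * l = l'⁻¹ * a * l' → (l' * l⁻¹) * a * (l' * l⁻¹)⁻¹ = a := by
    intro a ha
    rw [show (l' * l⁻¹) * a * (l' * l⁻¹)⁻¹ = l' * (l⁻¹ * a * l) * l'⁻¹ by group, ha]
    group
  have h1 : (l * l'⁻¹) = 1 := by
    refine F.faith _ (mul_mem h.1 (inv_mem h'.1)) fun a ha => F.comm_phi ?_ ?_ ?_ ha
    · simpa [mul_assoc] using key e (h.2.1.trans h'.2.1.symm)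
    · simpa [mul_assoc] using key f (h.2.2.1.trans h'.2.2.1.symm)
    · simpa [mul_assoc] using key g (h.2.2.2.trans h'.2.2.2.symm)
  exact mul_inv_eq_one.1 h1

theorem exists_repL (F : Frame L A e f g) {l : G} (hl : l ∈ L) :
    ∃ m : Mc, RepL L e f g l m ∧ m.1 ∈ vecs ∧ m.2.1 ∈ vecs ∧ m.2.2 ∈ vecs := by
  obtain ⟨u, hu, hu'⟩ := F.sur _ (F.norm l hl e F.x_mem)
  obtain ⟨v, hv, hv'⟩ := F.sur _ (F.norm l hl f F.y_mem)
  obtain ⟨w, hw, hw'⟩ := F.sur _ (F.norm l hl g F.z_mem)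
  exact ⟨(u, v, w), ⟨hl, hu'.symm, hv'.symm, hw'.symm⟩, hu, hv, hw⟩

theorem rep_one (F : Frame L A e f g) : Rep L e f g 1 p1 :=
  ⟨1, F.repL_one, by simp [phi, p1, z0]⟩

theorem rep_l (F : Frame L A e f g) {l : G} {m : Mc} (h : RepL L e f g l m) :
    Rep L e f g l (m, z0) := ⟨l, h, by simp [phi, z0]⟩

theorem rep_trans (F : Frame L A e f g) (v : Vc) : Rep L e f g (phi e f g v) (i1, v) :=
  ⟨1, F.repL_one, (one_mul _).symm⟩

theorem rep_mul (F : Frame L A e f g) {x y : G} {p q : Pc} (hx : Rep L e f g x p)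
    (hy : Rep L e f g y q) : Rep L e f g (x * y) (pm p q) := by
  obtain ⟨l, hl, rfl⟩ := hx
  obtain ⟨l', hl', rfl⟩ := hy
  refine ⟨l * l', F.repL_mul hl hl', ?_⟩
  have h1 : phi e f g p.2 * l' = l' * phi e f g (mv q.1 p.2) := by
    rw [← F.conj_mv hl' p.2]; group
  calc l * phi e f g p.2 * (l' * phi e f g q.2)
      = l * (phi e f g p.2 * l') * phi e f g q.2 := by simp [mul_assoc]
    _ = l * l' * (phi e f g (mv q.1 p.2) * phi e f g q.2) := by rw [h1]; simp [mul_assoc]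
    _ = l * l' * phi e f g (pm p q).2 := by
      rw [F.phi_add]
      exact congrArg _ (F.phi_congr (by simp [pm, vadd]) (by simp [pm, vadd])
        (by simp [pm, vadd]))

theorem rep_inj (F : Frame L A e f g) {x y : G} {p : Pc} (hx : Rep L e f g x p)
    (hy : Rep L e f g y p) : x = y := by
  obtain ⟨l, hl, rfl⟩ := hx
  obtain ⟨l', hl', rfl⟩ := hy
  rw [F.repL_inj hl hl']

theorem rep_eq_phi (F : Frame L A e f g) {x : G} {p : Pc} (hx : Rep L e f g x p) (h : p.1 = i1) :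
    x = phi e f g p.2 := by
  obtain ⟨m, v⟩ := p
  obtain rfl : m = i1 := h
  exact F.rep_inj hx (F.rep_trans v)

theorem rep_inv (F : Frame L A e f g) {x : G} {p : Pc} (hx : Rep L e f g x p) (h : p.1 = i1) :
    Rep L e f g x⁻¹ (pinv p) := by
  have h1 := F.rep_eq_phi hx h
  have h2 : x⁻¹ = phi e f g (pinv p).2 := by
    apply inv_eq_of_mul_eq_one_right
    rw [h1, F.phi_add]
    refine (F.phi_congr (v := z0) ?_ ?_ ?_).trans (by simp [phi, z0]) <;>
      simp [pinv, z0] <;> omega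
  rw [h2, show pinv p = (i1, (pinv p).2) from Prod.ext (by simp [pinv, h]) rfl]
  exact F.rep_trans _

theorem rep_prod (F : Frame L A e f g) {α : Type*} (w : List α) (fx : α → G) (fp : α → Pc)
    (h : ∀ i ∈ w, Rep L e f g (fx i) (fp i)) :
    Rep L e f g (w.map fx).prod (prodP (w.map fp)) := by
  induction w with
  | nil => simpa [prodP] using F.rep_one
  | cons i w ih =>
    simp only [List.map_cons, List.prod_cons, prodP, List.foldr_cons]
    exact F.rep_mul (h i List.mem_cons_self) (ih fun j hj => h j (List.mem_cons_of_mem _ hj))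

end Frame

end CfsgLib.Spor.HSLocal.CoordModel
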