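import Cfsg.Agent.Lib.Spor.HSLocal.Data

/-!
Computing model of the split extension of `(Z/4)³` by a linear group: an element is a pair of a
matrix (triple of columns, the images of the basis under conjugation) and a vector. Coordinates are
natural numbers read modulo four.
-/

set_option autoImplicit false
set_option maxRecDepth 100000

namespace CfsgLib.Spor.HSLocal.CoordModel

/-- vectors -/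
abbrev Vc := ℕ × ℕ × ℕ

/-- matrices, as three columns -/
abbrev Mc := Vc × Vc × Vc

/-- pairs -/
abbrev Pc := Mc × Vc

/-- reduce modulo four -/
def red (v : Vc) : Vc := (v.1 % 4, v.2.1 % 4, v.2.2 % 4)

/-- reduced sum -/
def vadd (u v : Vc) : Vc := ((u.1 + v.1) % 4, (u.2.1 + v.2.1) % 4, (u.2.2 + v.2.2) % 4)

/-- image of a vector -/
def mv (m : Mc) (v : Vc) : Vc :=
  ((v.1 * m.1.1 + v.2.1 * m.2.1.1 + v.2.2 * m.2.2.1) % 4,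
   (v.1 * m.1.2.1 + v.2.1 * m.2.1.2.1 + v.2.2 * m.2.2.2.1) % 4,
   (v.1 * m.1.2.2 + v.2.1 * m.2.1.2.2 + v.2.2 * m.2.2.2.2) % 4)

/-- product of matrices -/
def mm (m n : Mc) : Mc := (mv m n.1, mv m n.2.1, mv m n.2.2)

/-- the zero vector -/
def z0 : Vc := (0, 0, 0)

/-- the identity matrix -/
def i1 : Mc := ((1, 0, 0), (0, 1, 0), (0, 0, 1))

/-- the identity -/
def p1 : Pc := (i1, z0)

/-- product -/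
def pm (p q : Pc) : Pc := (mm q.1 p.1, vadd (mv q.1 p.2) q.2)

/-- inverse of a translation -/
def pinv (p : Pc) : Pc := (p.1, (3 * p.2.1 % 4, 3 * p.2.2.1 % 4, 3 * p.2.2.2 % 4))

/-- product of a list -/
def prodP (l : List Pc) : Pc := l.foldr pm p1

/-- reduction modulo two -/
def par (v : Vc) : Vc := (v.1 % 2, v.2.1 % 2, v.2.2 % 2)

/-- reduction of a matrix modulo two -/
def par3 (m : Mc) : Mc := (par m.1, par m.2.1, par m.2.2)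

/-- the vectors -/
def vecs : List Vc :=
  (List.range 4).flatMap fun i => (List.range 4).flatMap fun j => (List.range 4).map fun k =>
    (i, j, k)

/-- the vectors modulo two -/
def vecs2 : List Vc :=
  (List.range 2).flatMap fun i => (List.range 2).flatMap fun j => (List.range 2).map fun k =>
    (i, j, k)

/-- the matrices modulo two -/
def mats2 : List Mc :=
  vecs2.flatMap fun x => vecs2.flatMap fun y => vecs2.map fun z => (x, y, z)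

/-- the matrix of `b` -/
def bM : Mc := ((1, 0, 0), (0, 0, 1), (0, 3, 3))

/-- the matrix of `a` modulo two -/
def a2 : Mc := ((0, 0, 1), (0, 1, 0), (1, 0, 0))

/-- the vectors with a given reduction -/
def liftsV (v : Vc) : List Vc := vecs.filter fun u => par u == v

/-- the matrices with the reduction of `a` -/
def liftsA : List Mc :=
  (liftsV a2.1).flatMap fun x => (liftsV a2.2.1).flatMap fun y => (liftsV a2.2.2).map fun z =>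
    (x, y, z)

/-- the possible matrices of `a` -/
def aMats : List Mc :=
  [((2, 2, 1), (0, 3, 0), (1, 2, 2)), ((2, 2, 3), (0, 3, 0), (3, 2, 2)),
   ((2, 0, 1), (2, 3, 2), (1, 0, 2)), ((2, 0, 3), (2, 3, 2), (3, 0, 2))]

/-- the power of a matrix -/
def mpow (m : Mc) : ℕ → Mc
  | 0 => i1
  | n + 1 => mm m (mpow m n)

/-- the relations of `a` and `b` that cut out its matrix -/
def condA (m : Mc) : Bool := mm m m == i1 && mpow (mm m bM) 7 == i1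

/-- words in the two generators `a`, `b` covering the linear group -/
def words : List (List ℕ) := [
  [], [0], [1], [0, 1], [1, 0], [1, 1], [0, 1, 0], [0, 1, 1], [1, 0, 1], [1, 1, 0], [0, 1, 0, 1],
  [0, 1, 1, 0], [1, 0, 1, 0], [1, 0, 1, 1], [1, 1, 0, 1], [0, 1, 0, 1, 0], [0, 1, 0, 1, 1],
  [0, 1, 1, 0, 1], [1, 0, 1, 0, 1], [1, 0, 1, 1, 0], [1, 1, 0, 1, 0], [1, 1, 0, 1, 1],
  [0, 1, 0, 1, 0, 1], [0, 1, 0, 1, 1, 0], [0, 1, 1, 0, 1, 0], [0, 1, 1, 0, 1, 1],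
  [1, 0, 1, 0, 1, 0], [1, 0, 1, 0, 1, 1], [1, 0, 1, 1, 0, 1], [1, 1, 0, 1, 0, 1],
  [1, 1, 0, 1, 1, 0], [0, 1, 0, 1, 0, 1, 0], [0, 1, 0, 1, 0, 1, 1], [0, 1, 0, 1, 1, 0, 1],
  [0, 1, 1, 0, 1, 0, 1], [0, 1, 1, 0, 1, 1, 0], [1, 0, 1, 0, 1, 0, 1], [1, 0, 1, 0, 1, 1, 0],
  [1, 0, 1, 1, 0, 1, 0], [1, 0, 1, 1, 0, 1, 1], [1, 1, 0, 1, 0, 1, 0], [1, 1, 0, 1, 0, 1, 1],
  [1, 1, 0, 1, 1, 0, 1], [0, 1, 0, 1, 0, 1, 0, 1], [0, 1, 0, 1, 0, 1, 1, 0],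
  [0, 1, 0, 1, 1, 0, 1, 0], [0, 1, 0, 1, 1, 0, 1, 1], [0, 1, 1, 0, 1, 0, 1, 0],
  [0, 1, 1, 0, 1, 0, 1, 1], [0, 1, 1, 0, 1, 1, 0, 1], [1, 0, 1, 0, 1, 0, 1, 0],
  [1, 0, 1, 0, 1, 0, 1, 1], [1, 0, 1, 0, 1, 1, 0, 1], [1, 0, 1, 1, 0, 1, 0, 1],
  [1, 0, 1, 1, 0, 1, 1, 0], [1, 1, 0, 1, 0, 1, 0, 1], [1, 1, 0, 1, 0, 1, 1, 0],
  [1, 1, 0, 1, 1, 0, 1, 0], [1, 1, 0, 1, 1, 0, 1, 1], [0, 1, 0, 1, 0, 1, 0, 1, 1],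
  [0, 1, 0, 1, 0, 1, 1, 0, 1], [0, 1, 0, 1, 1, 0, 1, 0, 1], [0, 1, 0, 1, 1, 0, 1, 1, 0],
  [0, 1, 1, 0, 1, 0, 1, 0, 1], [0, 1, 1, 0, 1, 0, 1, 1, 0], [0, 1, 1, 0, 1, 1, 0, 1, 0],
  [1, 0, 1, 0, 1, 0, 1, 1, 0], [1, 0, 1, 0, 1, 1, 0, 1, 0], [1, 0, 1, 0, 1, 1, 0, 1, 1],
  [1, 0, 1, 1, 0, 1, 0, 1, 0], [1, 0, 1, 1, 0, 1, 0, 1, 1], [1, 0, 1, 1, 0, 1, 1, 0, 1],
  [1, 1, 0, 1, 0, 1, 0, 1, 0], [1, 1, 0, 1, 0, 1, 0, 1, 1], [1, 1, 0, 1, 0, 1, 1, 0, 1],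
  [1, 1, 0, 1, 1, 0, 1, 0, 1], [0, 1, 0, 1, 0, 1, 0, 1, 1, 0], [0, 1, 0, 1, 0, 1, 1, 0, 1, 0],
  [0, 1, 0, 1, 0, 1, 1, 0, 1, 1], [0, 1, 0, 1, 1, 0, 1, 0, 1, 0], [0, 1, 0, 1, 1, 0, 1, 0, 1, 1],
  [0, 1, 0, 1, 1, 0, 1, 1, 0, 1], [0, 1, 1, 0, 1, 0, 1, 0, 1, 0], [0, 1, 1, 0, 1, 0, 1, 0, 1, 1],
  [0, 1, 1, 0, 1, 0, 1, 1, 0, 1], [0, 1, 1, 0, 1, 1, 0, 1, 0, 1], [1, 0, 1, 0, 1, 0, 1, 1, 0, 1],
  [1, 0, 1, 0, 1, 1, 0, 1, 0, 1], [1, 0, 1, 0, 1, 1, 0, 1, 1, 0], [1, 0, 1, 1, 0, 1, 0, 1, 0, 1],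
  [1, 0, 1, 1, 0, 1, 1, 0, 1, 0], [1, 1, 0, 1, 0, 1, 0, 1, 1, 0], [1, 1, 0, 1, 0, 1, 1, 0, 1, 1],
  [1, 1, 0, 1, 1, 0, 1, 0, 1, 0], [1, 1, 0, 1, 1, 0, 1, 0, 1, 1],
  [0, 1, 0, 1, 0, 1, 0, 1, 1, 0, 1], [0, 1, 0, 1, 0, 1, 1, 0, 1, 0, 1],
  [0, 1, 0, 1, 0, 1, 1, 0, 1, 1, 0], [0, 1, 0, 1, 1, 0, 1, 0, 1, 0, 1],
  [0, 1, 0, 1, 1, 0, 1, 1, 0, 1, 0], [0, 1, 1, 0, 1, 0, 1, 0, 1, 1, 0],
  [0, 1, 1, 0, 1, 0, 1, 1, 0, 1, 1], [0, 1, 1, 0, 1, 1, 0, 1, 0, 1, 0],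
  [0, 1, 1, 0, 1, 1, 0, 1, 0, 1, 1], [1, 0, 1, 0, 1, 0, 1, 1, 0, 1, 0],
  [1, 0, 1, 0, 1, 0, 1, 1, 0, 1, 1], [1, 0, 1, 0, 1, 1, 0, 1, 0, 1, 0],
  [1, 0, 1, 0, 1, 1, 0, 1, 0, 1, 1], [1, 0, 1, 0, 1, 1, 0, 1, 1, 0, 1],
  [1, 0, 1, 1, 0, 1, 0, 1, 0, 1, 0], [1, 0, 1, 1, 0, 1, 0, 1, 0, 1, 1],
  [1, 0, 1, 1, 0, 1, 1, 0, 1, 0, 1], [1, 1, 0, 1, 0, 1, 0, 1, 1, 0, 1],
  [1, 1, 0, 1, 0, 1, 1, 0, 1, 1, 0], [1, 1, 0, 1, 1, 0, 1, 0, 1, 0, 1],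
  [0, 1, 0, 1, 0, 1, 0, 1, 1, 0, 1, 0], [0, 1, 0, 1, 0, 1, 0, 1, 1, 0, 1, 1],
  [0, 1, 0, 1, 0, 1, 1, 0, 1, 0, 1, 0], [0, 1, 0, 1, 0, 1, 1, 0, 1, 0, 1, 1],
  [0, 1, 0, 1, 0, 1, 1, 0, 1, 1, 0, 1], [0, 1, 0, 1, 1, 0, 1, 0, 1, 0, 1, 0],
  [0, 1, 0, 1, 1, 0, 1, 0, 1, 0, 1, 1], [0, 1, 0, 1, 1, 0, 1, 1, 0, 1, 0, 1],
  [0, 1, 1, 0, 1, 0, 1, 0, 1, 1, 0, 1], [0, 1, 1, 0, 1, 0, 1, 1, 0, 1, 1, 0],
  [0, 1, 1, 0, 1, 1, 0, 1, 0, 1, 0, 1], [1, 0, 1, 0, 1, 0, 1, 1, 0, 1, 0, 1],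
  [1, 0, 1, 0, 1, 0, 1, 1, 0, 1, 1, 0], [1, 0, 1, 0, 1, 1, 0, 1, 0, 1, 0, 1],
  [1, 0, 1, 0, 1, 1, 0, 1, 1, 0, 1, 0], [1, 0, 1, 1, 0, 1, 0, 1, 0, 1, 1, 0],
  [1, 0, 1, 1, 0, 1, 1, 0, 1, 0, 1, 0], [1, 0, 1, 1, 0, 1, 1, 0, 1, 0, 1, 1],
  [1, 1, 0, 1, 0, 1, 0, 1, 1, 0, 1, 0], [1, 1, 0, 1, 0, 1, 0, 1, 1, 0, 1, 1],
  [1, 1, 0, 1, 0, 1, 1, 0, 1, 1, 0, 1], [1, 1, 0, 1, 1, 0, 1, 0, 1, 0, 1, 0],
  [1, 1, 0, 1, 1, 0, 1, 0, 1, 0, 1, 1], [0, 1, 0, 1, 0, 1, 0, 1, 1, 0, 1, 0, 1],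
  [0, 1, 0, 1, 0, 1, 0, 1, 1, 0, 1, 1, 0], [0, 1, 0, 1, 0, 1, 1, 0, 1, 0, 1, 0, 1],
  [0, 1, 0, 1, 0, 1, 1, 0, 1, 1, 0, 1, 0], [0, 1, 0, 1, 1, 0, 1, 0, 1, 0, 1, 1, 0],
  [0, 1, 0, 1, 1, 0, 1, 1, 0, 1, 0, 1, 0], [0, 1, 0, 1, 1, 0, 1, 1, 0, 1, 0, 1, 1],
  [0, 1, 1, 0, 1, 0, 1, 0, 1, 1, 0, 1, 0], [0, 1, 1, 0, 1, 0, 1, 0, 1, 1, 0, 1, 1],
  [0, 1, 1, 0, 1, 0, 1, 1, 0, 1, 1, 0, 1], [0, 1, 1, 0, 1, 1, 0, 1, 0, 1, 0, 1, 0],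
  [0, 1, 1, 0, 1, 1, 0, 1, 0, 1, 0, 1, 1], [1, 0, 1, 0, 1, 0, 1, 1, 0, 1, 0, 1, 0],
  [1, 0, 1, 0, 1, 0, 1, 1, 0, 1, 0, 1, 1], [1, 0, 1, 0, 1, 1, 0, 1, 0, 1, 0, 1, 0],
  [1, 0, 1, 0, 1, 1, 0, 1, 0, 1, 0, 1, 1], [1, 0, 1, 0, 1, 1, 0, 1, 1, 0, 1, 0, 1],
  [1, 0, 1, 1, 0, 1, 0, 1, 0, 1, 1, 0, 1], [1, 1, 0, 1, 0, 1, 0, 1, 1, 0, 1, 0, 1],
  [1, 1, 0, 1, 0, 1, 0, 1, 1, 0, 1, 1, 0], [1, 1, 0, 1, 0, 1, 1, 0, 1, 1, 0, 1, 0],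
  [1, 1, 0, 1, 1, 0, 1, 0, 1, 0, 1, 1, 0], [0, 1, 0, 1, 0, 1, 0, 1, 1, 0, 1, 0, 1, 1],
  [0, 1, 0, 1, 0, 1, 1, 0, 1, 1, 0, 1, 0, 1], [0, 1, 0, 1, 1, 0, 1, 0, 1, 0, 1, 1, 0, 1],
  [0, 1, 1, 0, 1, 0, 1, 0, 1, 1, 0, 1, 1, 0], [0, 1, 1, 0, 1, 0, 1, 1, 0, 1, 1, 0, 1, 0],
  [0, 1, 1, 0, 1, 1, 0, 1, 0, 1, 0, 1, 1, 0], [1, 0, 1, 1, 0, 1, 0, 1, 0, 1, 1, 0, 1, 0],
  [0, 1, 0, 1, 1, 0, 1, 0, 1, 0, 1, 1, 0, 1, 0]]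

/-- words in `s`, `b`, `w` covering the stabiliser of the first basis vector -/
def stabWords : List (List ℕ) := [
  [], [0], [1], [2], [0, 1], [0, 2], [1, 0], [1, 1], [1, 2], [2, 1], [0, 1, 2], [0, 2, 1],
  [1, 0, 2], [1, 1, 2], [1, 2, 1], [2, 1, 0], [2, 1, 1], [2, 1, 2], [0, 1, 2, 1], [0, 2, 1, 2],
  [1, 0, 2, 1], [1, 1, 2, 1], [1, 2, 1, 1], [0, 1, 2, 1, 1]]

section letters

variable (m : Mc)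

/-- `a` -/
def pa : Pc := (m, z0)

/-- `b` -/
def pb : Pc := (bM, z0)

/-- `b⁻¹` -/
def pbi : Pc := pm pb pb

/-- `e` -/
def pe : Pc := (i1, (1, 0, 0))

/-- `a e a` -/
def paea : Pc := pm (pm (pa m) pe) (pa m)

/-- `f` -/
def pf : Pc := pm (pm (pm pbi (paea m)) pb) (pinv (paea m))

/-- `g` -/
def pg : Pc := pm (pm pbi (pf m)) pb

/-- `s` -/
def ps : Pc :=
  pm (pm (pm (pm (pm (pm (pm (pm (pm (pm (pm (pa m) pb) (pa m)) pb) (pa m)) pbi) (pa m)) pb)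
    (pa m)) pb) (pa m)) pbi

/-- `q` -/
def pq : Pc := pm (ps m) pb

/-- `x` -/
def px : Pc := pm (pm (pinv (pg m)) (ps m)) (pg m)

/-- `v` -/
def pv : Pc := pm (pf m) (pf m)

/-- `w` -/
def pw : Pc :=
  pm (pm (pm (pm (pm (pm (pm (pm (pm (pm pbi (pa m)) pb) (pa m)) pb) (pa m)) pbi) (pa m)) pbi)
    (pa m)) pb

/-- the letters of the relations -/
def plet : List Pc := [pa m, ps m, pq m, px m, pw m, pe, pinv pe]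

/-- the letters covering the stabiliser -/
def pstab : List Pc := [ps m, pb, pw m]

end letters

/-- no nonzero vector dies modulo two -/
def Indep (n : Mc) : Prop := ∀ u ∈ vecs2, par (mv n u) = z0 → u = z0

instance (n : Mc) : Decidable (Indep n) := by unfold Indep; infer_instance

theorem aMats_complete : ∀ m ∈ liftsA, condA m = true → m ∈ aMats := by decide +kernel

theorem card_indep : (mats2.filter fun n => decide (Indep n)).length = 168 := by decide +kernel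

theorem mats2_nodup : mats2.Nodup := by decide +kernel

theorem words_cover : ∀ m ∈ aMats, ∀ n ∈ mats2, Indep n →
    ∃ w ∈ words, par3 (prodP (w.map fun i => [pa m, pb].getD i p1)).1 = n := by decide +kernel

theorem stab_cover : ∀ m ∈ aMats, ∀ n ∈ mats2, Indep n → n.1 = (1, 0, 0) →
    ∃ w ∈ stabWords, par3 (prodP (w.map fun i => (pstab m).getD i p1)).1 = n := by
  decide +kernel

theorem rels_ok : ∀ m ∈ aMats, ∀ r ∈ Data.mRels,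
    prodP (r.map fun i => (plet m).getD i.1 p1) = p1 := by decide +kernel

theorem sq_ok : ∀ m ∈ aMats, ∀ p ∈ [ps m, pq m, px m, pw m], pm p p = p1 := by decide +kernel

theorem word_f : ∀ m ∈ aMats, pf m = pm (px m) (ps m) := by decide +kernel

theorem word_g : ∀ m ∈ aMats, pg m = pm (pm (pm (pq m) (ps m)) (px m)) (pq m) := by decide +kernel

theorem trans_ok : ∀ m ∈ aMats, ∀ p ∈ [paea m, pf m, pg m], p.1 = i1 := by decide +kernel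

theorem a_moves : ∀ m ∈ aMats, mv m (2, 0, 0) ≠ (2, 0, 0) := by decide +kernel

theorem fixed_ok : ∀ m ∈ aMats, ∀ p ∈ [ps m, pq m, px m, pw m],
    mv p.1 (2, 0, 0) = (2, 0, 0) := by decide +kernel

theorem basis_ok : ∀ m ∈ aMats, ∀ v ∈ vecs, ∃ u ∈ vecs,
    mv ((1, 0, 0), (pf m).2, (pg m).2) u = v := by decide +kernel

end CfsgLib.Spor.HSLocal.CoordModel
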