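import Cfsg.Agent.Lib.Spor.HSLocal.Defs
import Cfsg.Agent.Lib.Spor.HSLocal.CoordFrame

/-!
Construction of the coordinates on the two-local subgroup: an element `b` of order three of the
complement centralising the cyclic centre of `R`, and the basis of `O₂(M)` attached to it.
-/

set_option autoImplicit false
set_option maxRecDepth 100000
set_option linter.style.haveILetI false

namespace CfsgLib.Spor.HSLocal.CoordPrep

open CoordModel
open scoped Pointwise

universe u

variable {G : Type u} [Group G] [Finite G] {S : Setup G}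

/-- a complement of `O₂(M)` in `M` -/
structure Compl (S : Setup G) (L : Subgroup G) : Prop where
  le : L ≤ S.M
  inf : L ⊓ S.A = ⊥
  sup : L ⊔ S.A = S.M

theorem A_le_M : S.A ≤ S.M := Subgroup.map_subtype_le _

theorem norm_V {m : G} (hm : m ∈ S.M) {v : G} (hv : v ∈ S.V) : m⁻¹ * v * m ∈ S.V := by
  rw [S.hM] at hm
  simpa using (Subgroup.mem_normalizer_iff.1 (inv_mem hm) v).1 hv

theorem norm_A (L : Local S) {m : G} (hm : m ∈ S.M) {a : G} (ha : a ∈ S.A) :
    m⁻¹ * a * m ∈ S.A := by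
  rw [← L.cent_V, Subgroup.mem_centralizer_iff] at ha ⊢
  intro v hv
  have h1 := ha (m * v * m⁻¹) (by simpa using norm_V (inv_mem hm) hv)
  calc v * (m⁻¹ * a * m) = m⁻¹ * (m * v * m⁻¹ * a) * m := by group
    _ = m⁻¹ * (a * (m * v * m⁻¹)) * m := by rw [h1]
    _ = m⁻¹ * a * m * v := by group

theorem card_compl (L : Local S) {L0 : Subgroup G} (K : Compl S L0) : Nat.card L0 = 168 := by
  have hn : L0 ≤ Subgroup.normalizer (S.A : Set G) := by
    intro l hl
    rw [Subgroup.mem_normalizer_iff]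
    intro a
    refine ⟨fun ha => by simpa using norm_A L (inv_mem (K.le hl)) ha, fun ha => ?_⟩
    have h := norm_A L (K.le hl) ha
    simpa [mul_assoc] using h
  have hbij : Function.Bijective (fun p : L0 × S.A => (⟨(p.1 : G) * p.2,
      mul_mem (K.le p.1.2) (A_le_M p.2.2)⟩ : S.M)) := by
    constructor
    · intro p q hpq
      have h : (p.1 : G) * p.2 = q.1 * q.2 := congrArg Subtype.val hpq
      have h1 : (q.1 : G)⁻¹ * p.1 = q.2 * (p.2 : G)⁻¹ := by
        rw [eq_mul_inv_iff_mul_eq, mul_assoc, h]; group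
      have h2 : (q.1 : G)⁻¹ * p.1 ∈ L0 ⊓ S.A :=
        Subgroup.mem_inf.2 ⟨mul_mem (inv_mem (SetLike.coe_mem q.1)) (SetLike.coe_mem p.1),
          h1 ▸ mul_mem (SetLike.coe_mem q.2) (inv_mem (SetLike.coe_mem p.2))⟩
      rw [K.inf, Subgroup.mem_bot] at h2
      have h3 : (q.1 : G) = p.1 := inv_mul_eq_one.1 h2
      rw [← h3] at h
      exact Prod.ext (Subtype.ext h3.symm) (Subtype.ext (mul_left_cancel h))
    · rintro ⟨m, hm⟩
      rw [← K.sup] at hm
      have : m ∈ ((L0 : Set G) * (S.A : Set G)) := by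
        rw [← Subgroup.coe_mul_of_left_le_normalizer_right L0 S.A hn]; exact hm
      obtain ⟨l, hl, a, ha, rfl⟩ := Set.mem_mul.1 this
      exact ⟨(⟨l, hl⟩, ⟨a, ha⟩), rfl⟩
  have h := Nat.card_eq_of_bijective _ hbij
  rw [Nat.card_prod, L.card_A, L.card_M] at h
  omega

theorem eq_one_of_cent_V (L : Local S) {L0 : Subgroup G} (K : Compl S L0) {l : G} (hl : l ∈ L0)
    (h : ∀ v ∈ S.V, l⁻¹ * v * l = v) : l = 1 := by
  have hA : l ∈ S.A := by
    rw [← L.cent_V, Subgroup.mem_centralizer_iff]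
    intro v hv
    nth_rw 2 [← h v hv]
    group
  have : l ∈ L0 ⊓ S.A := ⟨hl, hA⟩
  rwa [K.inf, Subgroup.mem_bot] at this

theorem t_sq : S.t * S.t = 1 := by
  rw [← sq, ← S.ht]; exact pow_orderOf_eq_one _

theorem t_ne : S.t ≠ 1 := by
  intro h
  have := S.ht
  rw [h, orderOf_one] at this
  omega

theorem V_comm {u v : G} (hu : u ∈ S.V) (hv : v ∈ S.V) : u * v = v * u := by
  haveI := S.hVcomm
  exact setLike_mul_comm hu hv

theorem vecs2_card : vecs2.length = 8 ∧ vecs2.Nodup := by decide +kernel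

/-- a set of three elements of `V` without relations gives coordinates -/
theorem basis_of_ker {x y z : G} (hC : Coords S.V 2 x y z)
    (hker : ∀ w ∈ vecs2, phi x y z w = 1 → w = z0) : Basis S.V 2 x y z vecs2 := by
  classical
  have hinj : ∀ u ∈ vecs2, ∀ v ∈ vecs2, phi x y z u = phi x y z v → u = v :=
    fun u hu v hv h => hC.par_inj hker hu hv h
  refine { toCoords := hC, inj := hinj, sur := ?_ }
  have hsub : ((vecs2.toFinset.image (phi x y z) : Finset G) : Set G) ⊆ (S.V : Set G) := by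
    intro a ha
    simp only [Finset.coe_image, Set.mem_image] at ha
    obtain ⟨u, -, rfl⟩ := ha
    exact hC.phi_mem u
  have hc : (vecs2.toFinset.image (phi x y z)).card = 8 := by
    rw [Finset.card_image_of_injOn (fun u hu v hv h =>
      hinj u (List.mem_toFinset.1 hu) v (List.mem_toFinset.1 hv) h),
      List.toFinset_card_of_nodup vecs2_card.2, vecs2_card.1]
  have h := Set.eq_of_subset_of_ncard_le hsub (by
    rw [Set.ncard_coe_finset, hc]; exact le_of_eq S.hVcard) (Set.toFinite _)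
  intro a ha
  have : a ∈ ((vecs2.toFinset.image (phi x y z) : Finset G) : Set G) := by rw [h]; exact ha
  simpa using this

/-- a basis of `V` starting with `t` -/
theorem exists_basis (L : Local S) :
    ∃ y z : G, Basis S.V 2 S.t y z vecs2 := by
  classical
  haveI := Fintype.ofFinite G
  have h8 : (S.V : Set G).ncard = 8 := S.hVcard
  obtain ⟨y, hy, hy'⟩ : ∃ y ∈ S.V, y ∉ ({1, S.t} : Finset G) := by
    by_contra hc
    push Not at hc
    have : (S.V : Set G) ⊆ ((({1, S.t} : Finset G) : Finset G) : Set G) := fun x hx => hc x hx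
    have h1 := Set.ncard_le_ncard this (Finset.finite_toSet _)
    rw [h8, Set.ncard_coe_finset] at h1
    have := Finset.card_le_two (a := (1 : G)) (b := S.t)
    omega
  obtain ⟨z, hz, hz'⟩ : ∃ z ∈ S.V, z ∉ ({1, S.t, y, S.t * y} : Finset G) := by
    by_contra hc
    push Not at hc
    have : (S.V : Set G) ⊆ ((({1, S.t, y, S.t * y} : Finset G) : Finset G) : Set G) :=
      fun x hx => hc x hx
    have h1 := Set.ncard_le_ncard this (Finset.finite_toSet _)
    rw [h8, Set.ncard_coe_finset] at h1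
    have := Finset.card_le_four (a := (1 : G)) (b := S.t) (c := y) (d := S.t * y)
    omega
  simp only [Finset.mem_insert, Finset.mem_singleton, not_or] at hy' hz'
  have sqv : ∀ v ∈ S.V, v * v = 1 := fun v hv => by rw [← sq]; exact S.hVexp v hv
  have hinj : ∀ u ∈ vecs2, phi S.t y z u = 1 → u = z0 := by
    intro u hu h
    have ty : S.t * y ∈ S.V := mul_mem L.t_mem hy
    have e1 : y = S.t → False := hy'.2
    have iv : ∀ v ∈ S.V, v⁻¹ = v := fun v hv => inv_eq_of_mul_eq_one_right (sqv v hv)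
    simp only [vecs2, List.range_succ, List.range_zero, List.nil_append, List.mem_flatMap,
      List.mem_map, List.mem_cons, List.mem_append, List.not_mem_nil, or_false] at hu
    obtain ⟨i, hi, j, hj, k, hk, rfl⟩ := hu
    rcases hi with rfl | rfl <;> rcases hj with rfl | rfl <;> rcases hk with rfl | rfl <;>
      simp [phi, z0] at h ⊢
    · exact hz'.1 h
    · exact hy'.1 h
    · exact hz'.2.2.1 ((eq_inv_of_mul_eq_one_right h).trans (iv y hy))
    · exact t_ne h
    · exact hz'.2.1 ((eq_inv_of_mul_eq_one_right h).trans (iv _ L.t_mem))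
    · exact hy'.2 ((eq_inv_of_mul_eq_one_right h).trans (iv _ L.t_mem))
    · exact hz'.2.2.2 ((eq_inv_of_mul_eq_one_right h).trans (iv _ ty))
  have hC : Coords S.V 2 S.t y z :=
    ⟨L.t_mem, hy, hz, fun a ha b hb => V_comm ha hb, fun a ha => S.hVexp a ha⟩
  exact ⟨y, z, basis_of_ker hC hinj⟩

/-- the complement realises every invertible matrix on `V` -/
theorem transitive (L : Local S) {L0 : Subgroup G} (K : Compl S L0) {x y z : G}
    (B : Basis S.V 2 x y z vecs2) {n : Mc} (hn : n ∈ mats2) (hi : Indep n) :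
    ∃ l ∈ L0, l⁻¹ * x * l = phi x y z n.1 ∧ l⁻¹ * y * l = phi x y z n.2.1 ∧
      l⁻¹ * z * l = phi x y z n.2.2 := by
  classical
  haveI := Fintype.ofFinite L0
  have hc : ∀ (l : L0) (v : G), v ∈ S.V → ∃ u ∈ vecs2, phi x y z u = (l : G)⁻¹ * v * l :=
    fun l v hv => B.sur _ (norm_V (K.le l.2) hv)
  choose c hc1 hc2 using hc
  let F : L0 → Mc := fun l => (c l x B.x_mem, c l y B.y_mem, c l z B.z_mem)
  have hF : ∀ l, F l ∈ (mats2.filter fun m => decide (Indep m)).toFinset := by
    intro l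
    rw [List.mem_toFinset, List.mem_filter, decide_eq_true_iff]
    refine ⟨?_, fun u hu h => ?_⟩
    · simp only [mats2, List.mem_flatMap, List.mem_map]
      exact ⟨_, hc1 l x B.x_mem, _, hc1 l y B.y_mem, _, hc1 l z B.z_mem, rfl⟩
    · refine B.inj u hu z0 (by decide) ?_
      have h1 := B.conj_phi (l : G) (n := F l) (hc2 l x B.x_mem).symm (hc2 l y B.y_mem).symm
        (hc2 l z B.z_mem).symm u
      have h2 : (l : G)⁻¹ * phi x y z u * l = 1 :=
        h1.trans ((B.phi_congr (v := par (mv (F l) u)) (by simp [par, mv])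
          (by simp [par, mv]) (by simp [par, mv])).trans
          (by rw [h]; simp [phi, z0]))
      calc phi x y z u = (l : G) * ((l : G)⁻¹ * phi x y z u * l) * (l : G)⁻¹ := by group
        _ = phi x y z z0 := by rw [h2]; simp [phi, z0]
  have hinjF : Function.Injective F := by
    intro l l' h
    refine Subtype.ext (mul_inv_eq_one.1 (eq_one_of_cent_V L K
      (mul_mem l.2 (inv_mem l'.2)) fun v hv => ?_))
    simp only [F, Prod.mk.injEq] at h
    have key : ∀ w (hw : w ∈ S.V), c l w hw = c l' w hw →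
        ((l : G) * (l' : G)⁻¹)⁻¹ * w * ((l : G) * (l' : G)⁻¹) = w := by
      intro w hw he
      rw [show ((l : G) * (l' : G)⁻¹)⁻¹ * w * ((l : G) * (l' : G)⁻¹) =
        (l' : G) * ((l : G)⁻¹ * w * l) * (l' : G)⁻¹ by group, ← hc2 l w hw, he, hc2 l' w hw]
      group
    exact B.comm_phi (key x B.x_mem h.1) (key y B.y_mem h.2.1) (key z B.z_mem h.2.2) hv
  have himg : Finset.univ.image F = (mats2.filter fun m => decide (Indep m)).toFinset := by
    apply Finset.eq_of_subset_of_card_le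
    · intro m hm
      obtain ⟨l, -, rfl⟩ := Finset.mem_image.1 hm
      exact hF l
    · rw [Finset.card_image_of_injective _ hinjF, Finset.card_univ, ← Nat.card_eq_fintype_card,
        card_compl L K, List.toFinset_card_of_nodup (mats2_nodup.filter _), card_indep]
  have : n ∈ Finset.univ.image F := by
    rw [himg, List.mem_toFinset, List.mem_filter, decide_eq_true_iff]; exact ⟨hn, hi⟩
  obtain ⟨l, -, rfl⟩ := Finset.mem_image.1 this
  exact ⟨l, l.2, (hc2 l x B.x_mem).symm, (hc2 l y B.y_mem).symm, (hc2 l z B.z_mem).symm⟩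

theorem R_norm {h : G} (hh : h ∈ S.H) {r : G} (hr : r ∈ S.R) : h⁻¹ * r * h ∈ S.R := by
  rw [S.hR] at hr ⊢
  obtain ⟨r', hr', rfl⟩ := Subgroup.mem_map.1 hr
  haveI : (Cfsg.pCore 2 S.H).Normal := inferInstance
  refine Subgroup.mem_map.2 ⟨(⟨h, hh⟩ : S.H)⁻¹ * r' * ⟨h, hh⟩, ?_, rfl⟩
  simpa using Subgroup.Normal.conj_mem inferInstance r' hr' (⟨h, hh⟩ : S.H)⁻¹

theorem exists_e (L : Local S) : ∃ e ∈ S.Cy, e * e = S.t ∧ ∀ c ∈ S.Cy,
    c = 1 ∨ c = e ∨ c = e * e ∨ c = e * e * e := by
  haveI := S.hCy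
  obtain ⟨⟨e, he⟩, hgen⟩ := IsCyclic.exists_generator (α := S.Cy)
  have ho : orderOf e = 4 := by
    rw [← S.hCycard]
    have h := orderOf_eq_card_of_forall_mem_zpowers hgen
    rwa [Subgroup.orderOf_mk] at h
  refine ⟨e, he, ?_, fun c hc => ?_⟩
  · rcases L.sq_Cy e he with h | h
    · exfalso
      have := orderOf_dvd_of_pow_eq_one (x := e) (n := 2) (by rw [sq]; exact h)
      rw [ho] at this
      norm_num at this
    · exact h
  · have h4 : e ^ 4 = 1 := by rw [← ho]; exact pow_orderOf_eq_one e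
    obtain ⟨i, hi⟩ := (mem_powers_iff_mem_zpowers (x := (⟨e, he⟩ : S.Cy))).2 (hgen ⟨c, hc⟩)
    have hi' : e ^ i = c := congrArg Subtype.val hi
    rw [pow_eq_pow_mod i h4] at hi'
    subst hi'
    have : i % 4 < 4 := Nat.mod_lt _ (by omega)
    interval_cases h : i % 4 <;> simp [pow_succ]

theorem exists_be (L : Local S) {L0 : Subgroup G} (K : Compl S L0) :
    ∃ b e : G, b ∈ L0 ∧ b ^ 3 = 1 ∧ b ≠ 1 ∧ e ∈ S.Cy ∧ e * e = S.t ∧ e * b = b * e ∧
      ∀ v ∈ S.V, b⁻¹ * v * b = v → v = 1 ∨ v = S.t := by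
  obtain ⟨y, z, B⟩ := exists_basis L
  obtain ⟨b, hb, h1, h2, h3⟩ := transitive L K B (n := ((1, 0, 0), (0, 0, 1), (0, 1, 1)))
    (by decide +kernel) (by decide +kernel)
  have hbt : b⁻¹ * S.t * b = S.t := by simpa [phi] using h1
  let n : Mc := ((1, 0, 0), (0, 0, 1), (0, 1, 1))
  have hconj : ∀ u : Vc, b⁻¹ * phi S.t y z u * b = phi S.t y z (par (mv n u)) := fun u => by
    rw [B.conj_phi b (n := n) h1 h2 h3 u]
    exact B.phi_congr (by simp [par, mv]) (by simp [par, mv])
      (by simp [par, mv])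
  have hb3 : b ^ 3 = 1 := by
    refine eq_one_of_cent_V L K (pow_mem hb 3) fun v hv => ?_
    obtain ⟨u, hu, rfl⟩ := B.sur v hv
    rw [show (b ^ 3)⁻¹ * phi S.t y z u * b ^ 3 =
      b⁻¹ * (b⁻¹ * (b⁻¹ * phi S.t y z u * b) * b) * b by simp [pow_succ, mul_assoc],
      hconj, hconj, hconj]
    exact congrArg _ ((by decide +kernel : ∀ u ∈ vecs2,
      par (mv ((1, 0, 0), (0, 0, 1), (0, 1, 1)) (par (mv ((1, 0, 0), (0, 0, 1), (0, 1, 1))
        (par (mv ((1, 0, 0), (0, 0, 1), (0, 1, 1)) u))))) = u) u hu)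
  have hfix : ∀ v ∈ S.V, b⁻¹ * v * b = v → v = 1 ∨ v = S.t := by
    intro v hv h
    obtain ⟨u, hu, rfl⟩ := B.sur v hv
    rw [hconj] at h
    rcases (by decide +kernel : ∀ u ∈ vecs2, par (mv ((1, 0, 0), (0, 0, 1), (0, 1, 1)) u) = u →
      u = z0 ∨ u = (1, 0, 0)) u hu (B.inj _ (par_mem _) u hu h) with rfl | rfl
    · exact Or.inl (by simp [phi, z0])
    · exact Or.inr (by simp [phi])
  have hbne : b ≠ 1 := by
    rintro rfl
    have e1 : y = phi S.t y z (0, 0, 1) := by simpa using h2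
    have e2 : y = phi S.t y z (0, 1, 0) := by simp [phi]
    have := B.inj (0, 1, 0) (by decide) (0, 0, 1) (by decide) (e2.symm.trans e1)
    simp at this
  obtain ⟨e, he, het, hCy⟩ := exists_e L
  have hbH : b ∈ S.H := by
    rw [S.hH, Subgroup.mem_centralizer_singleton_iff]
    calc b * S.t = b * (b⁻¹ * S.t * b) := by rw [hbt]
      _ = S.t * b := by group
  have hcy : b⁻¹ * e * b ∈ S.Cy := by
    have heR := (S.hCyle he)
    refine L.center_R _ (R_norm hbH heR.1) fun r hr => ?_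
    have hr' : b * r * b⁻¹ ∈ S.R := by simpa using R_norm (inv_mem hbH) hr
    have hc := Subgroup.mem_centralizer_iff.1 heR.2 _ hr'
    calc b⁻¹ * e * b * r = b⁻¹ * (e * (b * r * b⁻¹)) * b := by group
      _ = b⁻¹ * (b * r * b⁻¹ * e) * b := by rw [hc]
      _ = r * (b⁻¹ * e * b) := by group
  refine ⟨b, e, hb, hb3, hbne, he, het, ?_, hfix⟩
  have he4 : e * e * (e * e) = 1 := by rw [het]; exact t_sq
  have hsq : b⁻¹ * e * b * (b⁻¹ * e * b) = S.t := by
    rw [show b⁻¹ * e * b * (b⁻¹ * e * b) = b⁻¹ * (e * e) * b by group, het, hbt]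
  rcases hCy _ hcy with h | h | h | h
  · rw [h, one_mul] at hsq; exact absurd hsq.symm t_ne
  · calc e * b = b * (b⁻¹ * e * b) := by group
      _ = b * e := by rw [h]
  · rw [h, he4] at hsq; exact absurd hsq.symm t_ne
  · exfalso
    have h' : b⁻¹ * (e * e * e) * b = e := by
      rw [show b⁻¹ * (e * e * e) * b = b⁻¹ * e * b * (b⁻¹ * e * b) * (b⁻¹ * e * b) by group,
        hsq, h, show S.t * (e * e * e) = e * e * (e * e) * e by rw [← het]; group, he4, one_mul]
    have h3' : (b ^ 3)⁻¹ * e * b ^ 3 = e := by rw [hb3]; group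
    rw [show (b ^ 3)⁻¹ * e * b ^ 3 = b⁻¹ * (b⁻¹ * (b⁻¹ * e * b) * b) * b by
      simp [pow_succ, mul_assoc], h, h', h] at h3'
    have : e * e = 1 := by
      calc e * e = e * e * e * e⁻¹ := by group
        _ = 1 := by rw [h3']; group
    exact t_ne (het.symm.trans this)

theorem square_of_V (L : Local S) {v : G} (hv : v ∈ S.V) : ∃ c ∈ S.A, c * c = v := by
  classical
  let χ : S.A ≃* Multiplicative (ZMod 4 × ZMod 4 × ZMod 4) :=
    ((Cfsg.pCore 2 S.M).equivMapOfInjective _ (Subgroup.subtype_injective _)).symm.trans S.eOM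
  have hdec : ∀ z : ZMod 4 × ZMod 4 × ZMod 4, z + z = 0 → ∃ y, y + y = z := by decide +kernel
  let v' : S.A := ⟨v, L.V_le_A hv⟩
  have h2 : v' * v' = 1 := Subtype.ext (by show v * v = 1; rw [← sq]; exact S.hVexp v hv)
  obtain ⟨y, hy⟩ := hdec (Multiplicative.toAdd (χ v')) (by
    have := congrArg Multiplicative.toAdd (congrArg χ h2)
    simpa using this)
  refine ⟨χ.symm (Multiplicative.ofAdd y), SetLike.coe_mem _, ?_⟩
  have : χ.symm (Multiplicative.ofAdd y) * χ.symm (Multiplicative.ofAdd y) = v' := by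
    rw [← map_mul, ← ofAdd_add, hy]; simp
  exact congrArg Subtype.val this

theorem A_pow_four (L : Local S) {a : G} (ha : a ∈ S.A) : a ^ 4 = 1 := by
  classical
  let χ : S.A ≃* Multiplicative (ZMod 4 × ZMod 4 × ZMod 4) :=
    ((Cfsg.pCore 2 S.M).equivMapOfInjective _ (Subgroup.subtype_injective _)).symm.trans S.eOM
  have hdec : ∀ z : ZMod 4 × ZMod 4 × ZMod 4, z + z + z + z = 0 := by decide +kernel
  have h : (⟨a, ha⟩ : S.A) ^ 4 = 1 := χ.injective (by
    apply Multiplicative.toAdd.injective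
    rw [map_pow, map_one]
    simpa [pow_succ] using hdec (Multiplicative.toAdd (χ ⟨a, ha⟩)))
  exact congrArg Subtype.val h

end CfsgLib.Spor.HSLocal.CoordPrep
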