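import Mathlib

/-!
Data for the recognition of the Higman-Sims group from an involution centraliser and a two-local
subgroup (generated data).
Letters of `rels`, `cands`, `forced`: `0 h, 1 p = h e, 2 s, 3 q = s b, 4 x, 5 a`.
Letters of `mRels`: `0 a, 1 s, 2 q, 3 x, 4 w, 5 e, 6 e⁻¹`.
-/

set_option autoImplicit false

namespace CfsgLib.Spor.HSLocal.Data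

/-- relations inside the two-local subgroup -/
def mRels : List (List (Fin 7)) := [
  [6, 6, 6, 6],
  [6, 2, 6, 2],
  [6, 1, 6, 1],
  [6, 3, 6, 3],
  [5, 5, 5, 5],
  [5, 2, 5, 2],
  [5, 1, 5, 1],
  [5, 3, 5, 3],
  [6, 6, 2, 5, 5, 2],
  [6, 6, 1, 5, 5, 1],
  [6, 6, 3, 5, 5, 3],
  [2, 1, 2, 1, 2, 1],
  [2, 3, 2, 3, 2, 3],
  [6, 2, 6, 1, 2, 1, 2, 1],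
  [6, 2, 3, 2, 3, 2, 6, 3],
  [5, 2, 5, 1, 2, 1, 2, 1],
  [5, 2, 3, 2, 3, 2, 5, 3],
  [1, 3, 1, 3, 1, 3, 1, 3],
  [6, 6, 2, 3, 2, 3, 2, 5, 5, 3],
  [6, 6, 1, 2, 1, 2, 1, 5, 5, 2],
  [6, 1, 6, 3, 1, 3, 1, 3, 1, 3],
  [5, 1, 5, 3, 1, 3, 1, 3, 1, 3],
  [2, 1, 2, 1, 3, 2, 3, 2, 3, 1],
  [6, 4, 5, 1, 2, 4, 1, 2, 1, 4, 2],
  [5, 2, 5, 1, 2, 4, 2, 1, 4, 2, 4],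
  [5, 1, 5, 4, 2, 4, 1, 2, 1, 4, 2],
  [6, 6, 6, 2, 3, 4, 2, 3, 4, 2, 3, 4],
  [6, 6, 2, 4, 3, 4, 3, 1, 3, 1, 3, 2],
  [6, 6, 2, 3, 2, 4, 1, 3, 1, 4, 2, 3],
  [6, 6, 2, 3, 1, 3, 1, 3, 4, 3, 4, 2],
  [0, 2, 0, 2, 0, 2],
  [0, 1, 3, 0, 1, 3],
  [0, 3, 1, 0, 3, 1],
  [6, 0, 6, 0, 5, 0, 5, 0],
  [6, 0, 2, 0, 2, 0, 6, 2],
  [6, 0, 1, 0, 5, 0, 3, 0],
  [6, 0, 1, 3, 0, 5, 1, 3],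
  [6, 0, 3, 1, 0, 5, 3, 1],
  [6, 0, 3, 1, 0, 3, 6, 1],
  [6, 1, 6, 3, 0, 1, 3, 0],
  [0, 2, 1, 0, 1, 2, 0, 1, 0, 1, 2, 1, 0, 1, 2],
  [0, 2, 1, 0, 3, 0, 2, 1, 0, 3, 0, 2, 3, 0, 1],
  [0, 2, 1, 0, 3, 0, 2, 3, 0, 1, 0, 2, 3, 0, 1],
  [0, 2, 1, 5, 3, 1, 3, 2, 0, 1, 2, 3, 1, 2, 3],
  [0, 2, 1, 3, 5, 1, 3, 2, 0, 3, 2, 1, 3, 2, 1],
  [0, 2, 3, 1, 5, 3, 1, 2, 0, 3, 2, 1, 3, 2, 1],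
  [0, 2, 3, 1, 2, 0, 1, 2, 1, 3, 1, 3, 2, 1, 5],
  [0, 2, 3, 1, 2, 0, 1, 2, 3, 1, 3, 1, 5, 2, 1],
  [0, 2, 3, 1, 2, 0, 1, 2, 3, 1, 3, 1, 2, 1, 5],
  [0, 2, 3, 1, 2, 0, 3, 2, 1, 3, 1, 2, 3, 2, 5],
  [0, 2, 3, 1, 2, 0, 3, 2, 1, 3, 1, 3, 5, 2, 3],
  [0, 2, 3, 1, 2, 5, 5, 0, 1, 2, 5, 2, 3, 1, 3],
  [0, 2, 3, 1, 2, 1, 0, 1, 0, 1, 5, 5, 0, 1, 5],
  [0, 5, 5, 0, 2, 1, 3, 1, 3, 2],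
  [2, 3, 1, 0, 2, 1, 4, 1, 2, 0, 1, 3, 2, 3],
  [0, 1, 3, 2, 5, 5, 2, 3, 1, 0, 2, 1, 3, 1, 3, 2],
  [0, 2, 1, 4, 1, 2, 0, 1, 2, 1],
  [5, 5, 3, 5, 5, 3],
  [5, 5, 2, 5, 5, 2],
  [2, 1, 2, 1, 2, 3, 1, 3, 1, 3, 1, 3],
  [2, 1, 2, 3, 2, 1, 3, 2, 3, 1, 2, 3],
  [2, 1, 2, 3, 1, 2, 1, 3, 1, 2, 1, 3]]

/-- relations of the six generators without the forced one -/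
def rels : List (List (Fin 6)) := [
  [1, 0, 1, 0, 1, 0, 1, 0],
  [1, 0, 3, 1, 0, 3],
  [1, 0, 2, 1, 0, 2],
  [1, 0, 4, 1, 0, 4],
  [0, 1, 0, 1, 0, 1, 0, 1],
  [0, 1, 3, 0, 1, 3],
  [0, 1, 2, 0, 1, 2],
  [0, 1, 4, 0, 1, 4],
  [1, 0, 1, 0, 3, 0, 1, 0, 1, 3],
  [1, 0, 1, 0, 2, 0, 1, 0, 1, 2],
  [1, 0, 1, 0, 4, 0, 1, 0, 1, 4],
  [3, 2, 3, 2, 3, 2],
  [3, 4, 3, 4, 3, 4],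
  [1, 0, 3, 1, 0, 2, 3, 2, 3, 2],
  [1, 0, 3, 4, 3, 4, 3, 1, 0, 4],
  [0, 1, 3, 0, 1, 2, 3, 2, 3, 2],
  [0, 1, 3, 4, 3, 4, 3, 0, 1, 4],
  [2, 4, 2, 4, 2, 4, 2, 4],
  [1, 0, 1, 0, 3, 4, 3, 4, 3, 0, 1, 0, 1, 4],
  [1, 0, 1, 0, 2, 3, 2, 3, 2, 0, 1, 0, 1, 3],
  [1, 0, 2, 1, 0, 4, 2, 4, 2, 4, 2, 4],
  [0, 1, 2, 0, 1, 4, 2, 4, 2, 4, 2, 4],
  [3, 2, 3, 2, 4, 3, 4, 3, 4, 2],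
  [1, 2, 4, 2, 4, 1, 2, 3, 0, 2, 4, 2, 4, 0, 2, 3, 2, 0, 2, 4, 2, 4, 0, 3],
  [1, 3, 0, 1, 2, 3, 0, 2, 4, 2, 4, 0, 3, 2, 0, 2, 4, 2, 4, 0, 3, 0, 2, 4, 2, 4],
  [0, 1, 2, 0, 1, 0, 2, 4, 2, 4, 0, 3, 0, 2, 4, 2, 4, 0, 2, 3, 2, 0, 2, 4, 2, 4, 0, 3],
  [1, 0, 1, 0, 1, 0, 3, 4, 0, 2, 4, 2, 4, 0, 3, 4, 0, 2, 4, 2, 4, 0, 3, 4, 0, 2, 4, 2, 4, 0],
  [1, 0, 1, 0, 3, 0, 2, 4, 2, 4, 0, 4, 0, 2, 4, 2, 4, 0, 4, 2, 4, 2, 4, 3],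
  [1, 0, 1, 0, 3, 4, 3, 0, 2, 4, 2, 4, 0, 2, 4, 2, 0, 2, 4, 2, 4, 0, 3, 4],
  [1, 0, 1, 0, 3, 4, 2, 4, 2, 4, 0, 2, 4, 2, 4, 0, 4, 0, 2, 4, 2, 4, 0, 3],
  [5, 3, 5, 3, 5, 3],
  [5, 2, 4, 5, 2, 4],
  [5, 4, 2, 5, 4, 2],
  [1, 0, 5, 1, 0, 5, 0, 1, 5, 0, 1, 5],
  [1, 0, 5, 3, 5, 3, 5, 1, 0, 3],
  [1, 0, 5, 2, 5, 0, 1, 5, 4, 5],
  [1, 0, 5, 2, 4, 5, 0, 1, 2, 4],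
  [1, 0, 5, 4, 2, 5, 0, 1, 4, 2],
  [1, 0, 5, 4, 2, 5, 4, 1, 0, 2],
  [1, 0, 2, 1, 0, 4, 5, 2, 4, 5],
  [5, 3, 2, 5, 2, 3, 5, 2, 5, 2, 3, 2, 5, 2, 3],
  [5, 3, 2, 5, 4, 5, 3, 2, 5, 4, 5, 3, 4, 5, 2],
  [5, 3, 2, 5, 4, 5, 3, 4, 5, 2, 5, 3, 4, 5, 2],
  [5, 3, 2, 0, 1, 4, 2, 4, 3, 5, 2, 3, 4, 2, 3, 4],
  [5, 3, 2, 4, 0, 1, 2, 4, 3, 5, 4, 3, 2, 4, 3, 2],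
  [5, 3, 4, 2, 0, 1, 4, 2, 3, 5, 4, 3, 2, 4, 3, 2],
  [5, 3, 4, 2, 3, 5, 2, 3, 2, 4, 2, 4, 3, 2, 0, 1],
  [5, 3, 4, 2, 3, 5, 2, 3, 4, 2, 4, 2, 0, 1, 3, 2],
  [5, 3, 4, 2, 3, 5, 2, 3, 4, 2, 4, 2, 3, 2, 0, 1],
  [5, 3, 4, 2, 3, 5, 4, 3, 2, 4, 2, 3, 4, 3, 0, 1],
  [5, 3, 4, 2, 3, 5, 4, 3, 2, 4, 2, 4, 0, 1, 3, 4],
  [5, 3, 4, 2, 3, 0, 1, 0, 1, 5, 2, 3, 0, 1, 3, 4, 2, 4],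
  [5, 3, 4, 2, 3, 2, 5, 2, 5, 2, 0, 1, 0, 1, 5, 2, 0, 1],
  [5, 0, 1, 0, 1, 5, 3, 2, 4, 2, 4, 3],
  [3, 4, 2, 5, 3, 2, 0, 2, 4, 2, 4, 0, 2, 3, 5, 2, 4, 3, 4],
  [5, 2, 4, 3, 0, 1, 0, 1, 3, 4, 2, 5, 3, 2, 4, 2, 4, 3],
  [5, 3, 2, 0, 2, 4, 2, 4, 0, 2, 3, 5, 2, 3, 2],
  [0, 1, 0, 1, 4, 0, 1, 0, 1, 4],
  [0, 1, 0, 1, 3, 0, 1, 0, 1, 3],
  [3, 2, 3, 2, 3, 4, 2, 4, 2, 4, 2, 4],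
  [3, 2, 3, 4, 3, 2, 4, 3, 4, 2, 3, 4],
  [3, 2, 3, 4, 2, 3, 2, 4, 2, 3, 2, 4],
  [0, 2, 3, 0, 3, 2],
  [0, 2, 0, 2],
  [0, 4, 0, 4, 0, 4, 1, 0],
  [0, 3, 0, 3]]

/-- the candidates for the conjugate of `b` -/
def cands : List (List (Fin 6)) := [
  [0, 2, 4, 0, 3, 4, 2, 4, 3, 1, 4, 2],
  [0, 2, 4, 0, 2, 3, 4, 1, 3, 2, 4, 2],
  [0, 2, 4, 2, 3, 4],
  [0, 4, 0, 3, 2, 4, 1, 2, 3, 4],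
  [0, 4, 3, 2, 4, 2],
  [2, 4, 2, 3, 4, 0],
  [4, 0, 3, 2, 4, 0, 2, 3, 4, 1],
  [4, 3, 2, 4, 0, 2]]

/-- position of the right candidate -/
def trueIdx : ℕ := 3

/-- the conjugating word -/
def chain : List (Fin 6) := [5, 0, 5, 2, 4, 3, 0, 4, 0]

/-- the six permutations of 100 points -/
def perms : List (List ℕ) := [
  [16, 28, 14, 67, 99, 39, 7, 6, 19, 47, 42, 31, 48, 80, 2, 50, 0, 27, 43, 8, 22, 26, 20, 97, 94, 59, 21, 17, 1, 35, 41, 11, 75, 46, 89, 29, 63, 54, 93, 5, 64, 30, 10, 18, 88, 61, 33, 9, 12, 71, 15, 98, 57, 87, 37, 96, 58, 52, 56, 25, 81, 45, 84, 36, 40, 74, 68, 3, 66, 82, 77, 49, 78, 92, 65, 32, 85, 70, 72, 90, 13, 60, 69, 95, 62, 76, 91, 53, 44, 34, 79, 86, 73, 38, 24, 83, 55,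 23, 51, 4],
  [0, 1, 68, 3, 76, 49, 40, 56, 77, 57, 58, 26, 37, 53, 66, 15, 16, 45, 70, 20, 19, 41, 43, 69, 24, 29, 11, 39, 75, 25, 65, 74, 32, 33, 44, 52, 36, 12, 60, 27, 6, 21, 64, 22, 34, 17, 46, 59, 54, 5, 63, 51, 35, 13, 48, 72, 7, 9, 10, 47, 38, 71, 62, 50, 42, 30, 14, 67, 2, 23, 18, 61, 55, 73, 31, 28, 4, 8, 99, 83, 80, 82, 81, 79, 94, 96, 86, 87, 88, 89, 95, 91, 98, 97, 84, 90, 85, 93, 92, 78],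
  [67, 94, 2, 16, 4, 93, 47, 9, 43, 7, 35, 30, 79, 88, 14, 98, 3, 97, 19, 18, 20, 21, 22, 27, 28, 56, 26, 23, 24, 42, 11, 41, 84, 33, 87, 10, 92, 83, 39, 38, 52, 31, 29, 8, 80, 82, 46, 6, 90, 81, 51, 50, 40, 89, 95, 55, 25, 64, 59, 58, 71, 69, 75, 73, 57, 65, 66, 0, 68, 61, 70, 60, 76, 63, 74, 62, 72, 77, 85, 12, 44, 49, 45, 37, 32, 78, 86, 34, 13, 53, 48, 91, 36, 5, 1, 54, 96, 17, 15, 99],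
  [33, 53, 95, 3, 39, 99, 6, 7, 52, 70, 10, 30, 12, 32, 83, 34, 46, 78, 25, 57, 29, 21, 35, 60, 98, 18, 26, 72, 87, 20, 11, 41, 13, 0, 15, 22, 44, 37, 38, 4, 58, 31, 42, 59, 36, 96, 16, 77, 48, 85, 89, 94, 8, 1, 54, 61, 64, 19, 40, 43, 23, 55, 92, 88, 56, 65, 79, 67, 90, 69, 9, 76, 27, 84, 74, 80, 71, 47, 17, 66, 75, 97, 82, 14, 73, 49, 86, 28, 63, 50, 68, 91, 62, 93, 51, 2, 45, 81, 24, 5],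
  [37, 39, 91, 83, 29, 5, 57, 96, 87, 55, 25, 34, 12, 70, 14, 36, 48, 75, 18, 19, 53, 89, 77, 92, 62, 10, 26, 71, 49, 4, 44, 41, 61, 33, 11, 64, 15, 0, 38, 1, 76, 31, 99, 80, 30, 45, 46, 56, 16, 28, 50, 93, 85, 20, 54, 9, 47, 6, 72, 78, 98, 32, 24, 63, 35, 65, 86, 90, 68, 69, 13, 27, 58, 82, 88, 17, 40, 22, 59, 79, 43, 97, 73, 3, 84, 52, 66, 8, 74, 21, 67, 2, 23, 51, 94, 95, 7, 81, 60, 42],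
  [16, 43, 12, 57, 99, 30, 6, 20, 50, 21, 10, 39, 2, 88, 26, 15, 0, 17, 18, 19, 7, 9, 22, 97, 98, 67, 14, 27, 28, 29, 5, 46, 58, 41, 93, 37, 75, 35, 87, 11, 63, 33, 42, 1, 94, 59, 31, 48, 47, 71, 8, 80, 61, 96, 54, 89, 64, 3, 32, 45, 92, 52, 81, 40, 56, 68, 66, 25, 65, 78, 70, 49, 82, 85, 74, 36, 84, 77, 69, 91, 51, 62, 72, 83, 76, 73, 86, 38, 13, 55, 90, 79, 60, 34, 44, 95, 53, 23, 24, 4]]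

/-- relations of the five generators of `H` free of the two parameters -/
def hBase : List (List (Fin 5)) := [
  [1, 0, 1, 0, 1, 0, 1, 0],
  [1, 0, 3, 1, 0, 3],
  [1, 0, 2, 1, 0, 2],
  [1, 0, 4, 1, 0, 4],
  [0, 1, 0, 1, 0, 1, 0, 1],
  [0, 1, 3, 0, 1, 3],
  [0, 1, 2, 0, 1, 2],
  [0, 1, 4, 0, 1, 4],
  [1, 0, 1, 0, 3, 0, 1, 0, 1, 3],
  [1, 0, 1, 0, 2, 0, 1, 0, 1, 2],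
  [1, 0, 1, 0, 4, 0, 1, 0, 1, 4],
  [3, 2, 3, 2, 3, 2],
  [3, 4, 3, 4, 3, 4],
  [1, 0, 3, 1, 0, 2, 3, 2, 3, 2],
  [1, 0, 3, 4, 3, 4, 3, 1, 0, 4],
  [0, 1, 3, 0, 1, 2, 3, 2, 3, 2],
  [0, 1, 3, 4, 3, 4, 3, 0, 1, 4],
  [2, 4, 2, 4, 2, 4, 2, 4],
  [1, 0, 1, 0, 3, 4, 3, 4, 3, 0, 1, 0, 1, 4],
  [1, 0, 1, 0, 2, 3, 2, 3, 2, 0, 1, 0, 1, 3],
  [1, 0, 2, 1, 0, 4, 2, 4, 2, 4, 2, 4],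
  [0, 1, 2, 0, 1, 4, 2, 4, 2, 4, 2, 4],
  [3, 2, 3, 2, 4, 3, 4, 3, 4, 2],
  [1, 2, 4, 2, 4, 1, 2, 3, 0, 2, 4, 2, 4, 0, 2, 3, 2, 0, 2, 4, 2, 4, 0, 3],
  [1, 3, 0, 1, 2, 3, 0, 2, 4, 2, 4, 0, 3, 2, 0, 2, 4, 2, 4, 0, 3, 0, 2, 4, 2, 4],
  [0, 1, 2, 0, 1, 0, 2, 4, 2, 4, 0, 3, 0, 2, 4, 2, 4, 0, 2, 3, 2, 0, 2, 4, 2, 4, 0, 3],
  [1, 0, 1, 0, 1, 0, 3, 4, 0, 2, 4, 2, 4, 0, 3, 4, 0, 2, 4, 2, 4, 0, 3, 4, 0, 2, 4, 2, 4, 0],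
  [1, 0, 1, 0, 3, 0, 2, 4, 2, 4, 0, 4, 0, 2, 4, 2, 4, 0, 4, 2, 4, 2, 4, 3],
  [1, 0, 1, 0, 3, 4, 3, 0, 2, 4, 2, 4, 0, 2, 4, 2, 0, 2, 4, 2, 4, 0, 3, 4],
  [1, 0, 1, 0, 3, 4, 2, 4, 2, 4, 0, 2, 4, 2, 4, 0, 4, 0, 2, 4, 2, 4, 0, 3],
  [0, 1, 0, 1, 4, 0, 1, 0, 1, 4],
  [0, 1, 0, 1, 3, 0, 1, 0, 1, 3],
  [3, 2, 3, 2, 3, 4, 2, 4, 2, 4, 2, 4],
  [3, 2, 3, 4, 3, 2, 4, 3, 4, 2, 3, 4],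
  [3, 2, 3, 4, 2, 3, 2, 4, 2, 3, 2, 4],
  [0, 2, 3, 0, 3, 2]]

end CfsgLib.Spor.HSLocal.Data
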