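import Mathlib
import Cfsg.Prelude.Def_Solvable
import Cfsg.Prelude.Def_CaseTheorems
import Cfsg.Prelude.Def_Transfer
import Cfsg.Prelude.Def_Spor_Conway
import Cfsg.Agent.Lib.Spor.HSLocal.Data

/-!
Interfaces for the recognition of the Higman-Sims group from an involution centraliser and a
two-local subgroup.
-/

set_option autoImplicit false

namespace CfsgLib.Spor.HSLocal

universe u

/-- value of a word -/
def ev {n : ℕ} {G : Type*} [Group G] (f : Fin n → G) (w : List (Fin n)) : G := (w.map f).prod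

/-- the hypotheses of the statement -/
structure Setup (G : Type u) [Group G] where
  t : G
  ht : orderOf t = 2
  H : Subgroup G
  hH : H = Subgroup.centralizer ({t} : Set G)
  R : Subgroup G
  hR : R = (Cfsg.pCore 2 H).map H.subtype
  Cy : Subgroup G
  E : Subgroup G
  hCy : IsCyclic Cy
  hCycard : Nat.card Cy = 4
  hCyle : Cy ≤ R ⊓ Subgroup.centralizer (R : Set G)
  hEle : E ≤ R
  hEex : Cfsg.IsExtraspecial 2 E
  hEcard : Nat.card E = 32
  hprod : Cy ⊔ E = R
  hmeet : Cy ⊓ E = E ⊓ Subgroup.centralizer (E : Set G)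
  eH : H ⧸ Cfsg.pCore 2 H ≃* Equiv.Perm (Fin 5)
  V : Subgroup G
  hVcomm : IsMulCommutative V
  hVexp : ∀ v ∈ V, v ^ 2 = 1
  hVcard : Nat.card V = 8
  hVR : V ≤ R
  M : Subgroup G
  hM : M = Subgroup.normalizer (V : Set G)
  eOM : Cfsg.pCore 2 M ≃* Multiplicative (ZMod 4 × ZMod 4 × ZMod 4)
  eM : M ⧸ Cfsg.pCore 2 M ≃* GL (Fin 3) (ZMod 2)

variable {G : Type u} [Group G]

/-- `O₂(M)` inside `G` -/
def Setup.A (S : Setup G) : Subgroup G := (Cfsg.pCore 2 S.M).map S.M.subtype

/-- the two-local facts about the setup -/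
structure Local (S : Setup G) : Prop where
  t_mem : S.t ∈ S.V
  card_R : Nat.card S.R = 64
  card_H : Nat.card S.H = 7680
  card_M : Nat.card S.M = 10752
  card_A : Nat.card S.A = 64
  A_comm : ∀ x ∈ S.A, ∀ y ∈ S.A, x * y = y * x
  V_le_A : S.V ≤ S.A
  V_eq : ∀ x ∈ S.A, x ^ 2 = 1 → x ∈ S.V
  cent_V : Subgroup.centralizer (S.V : Set G) = S.A
  comm_R : ∀ x ∈ S.R, ∀ y ∈ S.R, x * y * x⁻¹ * y⁻¹ = 1 ∨ x * y * x⁻¹ * y⁻¹ = S.t
  center_R : ∀ x ∈ S.R, (∀ y ∈ S.R, x * y = y * x) → x ∈ S.Cy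
  sq_Cy : ∀ x ∈ S.Cy, x * x = 1 ∨ x * x = S.t
  cent_R : ∀ x ∈ S.H, (∀ y ∈ S.R, x * y = y * x) → x ∈ S.Cy
  R_le_M : S.R ≤ S.M
  Cy_le_A : S.Cy ≤ S.A
  card_inter : Nat.card ↥(S.R ⊓ S.A) = 16
  split : ∃ L : Subgroup G, L ≤ S.M ∧ L ⊓ S.A = ⊥ ∧ L ⊔ S.A = S.M

section gens

variable (a b e : G)

/-- `a e a` and its translates give the basis `e, f, g` of `O₂(M)` -/
def gf : G := b⁻¹ * (a * e * a) * b * (a * e * a)⁻¹

/-- the third basis element -/
def gg : G := b⁻¹ * gf a b e * b

/-- the element inverting `b` -/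
def gs : G :=
  a * b * a * b * a * b⁻¹ * a * b * a * b * a * b⁻¹

/-- the product of `gs` and `b` -/
def gq : G := gs a b * b

/-- the conjugate of `gs` by `gg` -/
def gx : G := (gg a b e)⁻¹ * gs a b * gg a b e

/-- the involution `f²` of `V` -/
def gv : G := gf a b e * gf a b e

/-- the involution of `O₂(H)` outside `O₂(M)` -/
def gw : G :=
  b⁻¹ * a * b * a * b * a * b⁻¹ * a * b⁻¹ * a * b

/-- the seven letters of `Data.mRels` -/
def mlet : Fin 7 → G := ![a, gs a b, gq a b, gx a b e, gw a b, e, e⁻¹]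

end gens

/-- a semidirect coordinate system of the two-local subgroup with `t = e²` -/
structure MPre (S : Setup G) (a b e : G) : Prop where
  a_mem : a ∈ S.M
  b_mem : b ∈ S.M
  e_mem : e ∈ S.M
  a_sq : a * a = 1
  b_cube : b ^ 3 = 1
  b_ne : b ≠ 1
  t_eq : S.t = e * e
  e_mem_Cy : e ∈ S.Cy
  comm_eb : e * b = b * e
  s_sq : gs a b * gs a b = 1
  q_sq : gq a b * gq a b = 1
  x_sq : gx a b e * gx a b e = 1
  w_sq : gw a b * gw a b = 1
  v_eq : gv a b e = gs a b * gx a b e * (gs a b * gx a b e)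
  gen : S.M = Subgroup.closure ({a, b, e} : Set G)
  rels : ∀ r ∈ Data.mRels, ev (mlet a b e) r = 1
  A_eq : S.A = Subgroup.closure ({e, gf a b e, gg a b e} : Set G)
  V_eq : S.V = Subgroup.closure ({e * e, gv a b e, b⁻¹ * gv a b e * b} : Set G)
  meet : S.H ⊓ S.M = Subgroup.closure ({gs a b, gq a b, gx a b e, e, gw a b} : Set G)
  a_not : a ∉ S.H

/-- coordinates in which also `O₂(H)` is in canonical position -/
structure MGens (S : Setup G) (a b e : G) : Prop extends MPre S a b e where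
  R_eq : S.R = Subgroup.closure ({e, gv a b e, b⁻¹ * gv a b e * b, gw a b,
    b⁻¹ * gw a b * b} : Set G)

/-- the element of `H` completing the generators -/
structure HElt (S : Setup G) (a b e h : G) : Prop where
  mem : h ∈ S.H
  not_mem : h ∉ S.M
  sq : h * h = 1
  comm_b : h * b = b * h
  inv_e : h * e * h = e⁻¹
  conj_v : h * gv a b e * h = gw a b
  hs : h * gs a b * (h * gs a b) = 1
  hx : h * gx a b e * (h * gx a b e) * (h * gx a b e) = e
  gen : S.H = Subgroup.closure ({h, h * e, gs a b, gq a b, gx a b e} : Set G)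

/-- six involutions satisfying the relations without the forced one -/
structure Six (f : Fin 6 → G) : Prop where
  sq : ∀ i, f i * f i = 1
  rels : ∀ r ∈ Data.rels, ev f r = 1

/-- the subgroup of the first five generators -/
def five (f : Fin 6 → G) : Subgroup G :=
  Subgroup.closure ({f 0, f 1, f 2, f 3, f 4} : Set G)

/-- the element `w b w⁻¹` for the chain `w` (here `b = f 2 * f 3`) -/
def cbc (f : Fin 6 → G) : G :=
  ev f Data.chain * (f 2 * f 3) * (ev f Data.chain)⁻¹

/-- the right candidate -/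
def trueCand : List (Fin 6) := Data.cands.getD Data.trueIdx []

/-- the forced relation leaves one candidate -/
def CollapseSpec : Prop :=
  ∀ (G : Type u) [Group G] (f : Fin 6 → G), Six f → ∀ c ∈ Data.cands, c ≠ trueCand →
    cbc f = ev f c → f 5 ∈ five f

/-- the candidates are all elements of order three centralising `f 2 * f 3 * f 2` -/
def CandsSpec : Prop :=
  ∀ (G : Type u) [Group G] (f : Fin 6 → G), Six f → Nat.card (five f) = 7680 → ∀ y ∈ five f,
    y ≠ 1 → y ^ 3 = 1 → y * (f 2 * f 3 * f 2) = f 2 * f 3 * f 2 * y →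
      ∃ c ∈ Data.cands, y = ev f c

/-- the six generators and the right relation give a homomorphism from the Higman-Sims group -/
def HomSpec : Prop :=
  ∀ (G : Type u) [Group G] (f : Fin 6 → G), Six f → cbc f = ev f trueCand →
    ∃ φ : Cfsg.Spor.HS →* G, ∀ i, f i ∈ φ.range

/-- the relations of a parameter case `(h s)² = e^i`, `(h x)³ = e^k` -/
def hCase (i k : ℕ) : List (List (Fin 5)) :=
  Data.hBase ++ [[0, 2, 0, 2] ++ (List.replicate ((4 - i) % 4) [0, 1]).flatten,
    [0, 3, 0, 3] ++ (List.replicate ((4 - i) % 4) [0, 1]).flatten,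
    [0, 4, 0, 4, 0, 4] ++ (List.replicate ((4 - k) % 4) [0, 1]).flatten]

/-- the wrong parameter cases do not give a group of order 7680 -/
def HBadSpec : Prop :=
  ∀ (G : Type u) [Group G] [Finite G] (f : Fin 5 → G), (∀ i, f i * f i = 1) →
    ∀ ik ∈ [((0 : ℕ), (0 : ℕ)), (1, 0), (1, 1)], (∀ r ∈ hCase ik.1 ik.2, ev f r = 1) →
      Nat.card (Subgroup.closure (Set.range f)) < 7680

/-- a homomorphism from the Higman-Sims group hitting `t` gives the statement -/
def EndSpec : Prop :=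
  ∀ (G : Type u) [Group G] [Finite G] (S : Setup G) (φ : Cfsg.Spor.HS →* G),
    S.t ∈ φ.range → Cfsg.Spor.IsoHS G

end CfsgLib.Spor.HSLocal
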