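import Mathlib

/-!
A subgroup containing the centraliser of a central involution of a group with two classes of
involutions of Higman-Sims type is the whole group.
-/

set_option autoImplicit false

namespace CfsgLib.Spor.HSLocal.EndFacts

variable {G : Type*} [Group G] [Finite G]

omit [Finite G] in
theorem conj_inv_of_invol {a c : G} (ha : a * a = 1) (hc : c * c = 1) :
    a * (a * c) * a⁻¹ = (a * c)⁻¹ := by
  rw [mul_inv_rev, inv_eq_of_mul_eq_one_right ha, inv_eq_of_mul_eq_one_right hc, ← mul_assoc, ha,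
    one_mul]

omit [Finite G] in
theorem odd_conj {a c : G} (ha : a * a = 1) (hc : c * c = 1) {j : ℕ}
    (hr : (a * c) ^ (2 * j + 1) = 1) : (a * c) ^ j * a * ((a * c) ^ j)⁻¹ = c := by
  have h1 : a * (a * c) ^ j * a⁻¹ = ((a * c) ^ j)⁻¹ := by
    rw [← conj_pow, conj_inv_of_invol ha hc, inv_pow]
  have h2 : a * ((a * c) ^ j)⁻¹ = (a * c) ^ j * a := by
    calc a * ((a * c) ^ j)⁻¹ = a * (a * (a * c) ^ j * a⁻¹) := by rw [h1]
      _ = (a * a) * (a * c) ^ j * a⁻¹ := by simp only [mul_assoc]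
      _ = (a * c) ^ j * a := by rw [ha, one_mul, inv_eq_of_mul_eq_one_right ha]
  calc (a * c) ^ j * a * ((a * c) ^ j)⁻¹ = (a * c) ^ j * (a * ((a * c) ^ j)⁻¹) := mul_assoc _ _ _
    _ = (a * c) ^ (2 * j) * a := by rw [h2, ← mul_assoc, ← pow_add, two_mul]
    _ = (a * c)⁻¹ * a := by rw [eq_inv_of_mul_eq_one_left (a := (a * c) ^ (2 * j))
        (b := a * c) (by rw [← pow_succ]; exact hr)]
    _ = c := by
      rw [mul_inv_rev, inv_eq_of_mul_eq_one_right ha, inv_eq_of_mul_eq_one_right hc, mul_assoc, ha,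
        mul_one]

/-- the facts used -/
structure Two (X : Subgroup G) (t u a b d : G) : Prop where
  t_mem : t ∈ X
  t_sq : t * t = 1
  cent_t : ∀ k : G, k * t = t * k → k ∈ X
  u_mem : u ∈ X
  u_sq : u * u = 1
  u_ne : u ≠ 1
  not_conj : ¬ IsConj u t
  cls : ∀ s ∈ X, s * s = 1 → s ≠ 1 →
    (∃ x ∈ X, x * t * x⁻¹ = s) ∨ ∃ x ∈ X, x * u * x⁻¹ = s
  a_mem : a ∈ X
  a_type : ∃ x ∈ X, x * t * x⁻¹ = a
  a_u : a * u = u * a
  b_mem : b ∈ X
  b_type : ∃ x ∈ X, x * t * x⁻¹ = b
  b_u : b * u = u * b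
  d_mem : d ∈ X
  d_u : d * u = u * d
  d_a : d * a = a * d
  d_ord : d ^ 3 = 1
  d_ne : d ≠ 1
  cent_b : ∀ y ∈ X, y * u = u * y → y * b = b * y → y ^ 8 = 1
  no_sqrt : ∀ y ∈ X, y * y ≠ u
  cent_a : ∀ z ∈ X, z * u = u * z → z * a = a * z → z * z = 1 → z ≠ 1 → z ≠ u →
    (∃ x ∈ X, x * t * x⁻¹ = z) ∨ ∃ x ∈ X, x * t * x⁻¹ = z * u

namespace Two

variable {X : Subgroup G} {t u a b d : G} (T : Two X t u a b d)
include T

omit [Finite G] in
/-- a conjugator of two members of the first class lies in the subgroup -/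
theorem key {s k : G} (hs : ∃ x ∈ X, x * t * x⁻¹ = s) (hk : k * s * k⁻¹ ∈ X) : k ∈ X := by
  obtain ⟨x, hx, rfl⟩ := hs
  set s' := k * (x * t * x⁻¹) * k⁻¹ with hs'
  have e : s' = (k * x) * t * (k * x)⁻¹ := by rw [hs']; group
  by_cases ht : t = 1
  · exact T.cent_t k (by rw [ht, mul_one, one_mul])
  rcases T.cls s' hk (by
      rw [e, show (k * x) * t * (k * x)⁻¹ * ((k * x) * t * (k * x)⁻¹) =
        (k * x) * (t * t) * (k * x)⁻¹ by group, T.t_sq]; group)
      (fun h => ht (by rwa [e, conj_eq_one_iff] at h)) with ⟨w, hw, hwe⟩ | ⟨w, hw, hwe⟩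
  · have hc : w⁻¹ * (k * x) ∈ X := T.cent_t _ (by
      have h := hwe.trans e
      have h2 : w * t * w⁻¹ * (k * x) = k * x * t := by rw [h]; group
      calc w⁻¹ * (k * x) * t = w⁻¹ * (w * t * w⁻¹ * (k * x)) := by rw [h2]; group
        _ = t * (w⁻¹ * (k * x)) := by group)
    have : k * x ∈ X := by simpa using mul_mem hw hc
    simpa using mul_mem this (inv_mem hx)
  · exfalso
    refine T.not_conj (isConj_iff.2 ⟨(k * x)⁻¹ * w, ?_⟩)
    have h := hwe.trans e
    calc (k * x)⁻¹ * w * u * ((k * x)⁻¹ * w)⁻¹ = (k * x)⁻¹ * (w * u * w⁻¹) * (k * x) := by group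
      _ = t := by rw [h]; group

/-- the centraliser of the second involution lies in the subgroup -/
theorem cent_u {k : G} (hk : k * u = u * k) : k ∈ X := by
  by_contra hkX
  set c := k * b * k⁻¹ with hc
  have hcX : c ∉ X := fun h => hkX (T.key T.b_type h)
  have hb2 : b * b = 1 := by
    obtain ⟨x, -, e⟩ := T.b_type
    rw [← e, show x * t * x⁻¹ * (x * t * x⁻¹) = x * (t * t) * x⁻¹ by group, T.t_sq]; group
  have ha2 : a * a = 1 := by
    obtain ⟨x, -, e⟩ := T.a_type
    rw [← e, show x * t * x⁻¹ * (x * t * x⁻¹) = x * (t * t) * x⁻¹ by group, T.t_sq]; group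
  have hc2 : c * c = 1 := by
    rw [hc, show k * b * k⁻¹ * (k * b * k⁻¹) = k * (b * b) * k⁻¹ by group, hb2]; group
  have hku : Commute k u := hk
  have hcu : Commute c u := (hku.mul_left T.b_u).mul_left hku.inv_left
  have hau : Commute a u := T.a_u
  -- `a` is not conjugate under `C(u)` to `c` or `c * u`
  have hsep : ∀ m : G, m * u = u * m → (m * a * m⁻¹ = b ∨ m * a * m⁻¹ = b * u) → False := by
    intro m hmu hm
    have hmX : m ∈ X := T.key T.a_type (by
      rcases hm with h | h <;> rw [h]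
      · exact T.b_mem
      · exact mul_mem T.b_mem T.u_mem)
    have hmu' : Commute m u := hmu
    have h1 : Commute (m * d * m⁻¹) u := (hmu'.mul_left T.d_u).mul_left hmu'.inv_left
    have h2 : Commute (m * d * m⁻¹) b := by
      have hd : Commute (m * d * m⁻¹) (m * a * m⁻¹) :=
        Commute.conj_iff _ |>.2 (T.d_a : Commute d a)
      rcases hm with h | h <;> rw [h] at hd
      · exact hd
      · have := hd.mul_right h1.inv_right
        rwa [mul_inv_cancel_right] at this
    have h8 := T.cent_b _ (mul_mem (mul_mem hmX T.d_mem) (inv_mem hmX)) h1 h2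
    refine T.d_ne ?_
    have e : d ^ 8 = 1 := by rwa [conj_pow, conj_eq_one_iff] at h8
    have e2 : d ^ 8 = d ^ 2 := by
      rw [show 8 = 3 * 2 + 2 from rfl, pow_add, pow_mul, T.d_ord, one_pow, one_mul]
    calc d = d ^ 3 * (d ^ 2)⁻¹ := by group
      _ = 1 := by rw [T.d_ord, ← e2, e]; simp
  set r := a * c with hr
  have hru : Commute r u := hau.mul_left hcu
  rcases Nat.even_or_odd' (orderOf r) with ⟨m, hm | hm⟩
  swap
  · have he := odd_conj ha2 hc2 (j := m) (by rw [← hm]; exact pow_orderOf_eq_one r)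
    have hju : Commute (r ^ m) u := hru.pow_left m
    refine hsep (k⁻¹ * r ^ m) ((hku.inv_left.mul_left hju)) (Or.inl ?_)
    calc k⁻¹ * r ^ m * a * (k⁻¹ * r ^ m)⁻¹ = k⁻¹ * (r ^ m * a * (r ^ m)⁻¹) * k := by group
      _ = b := by rw [he, hc]; group
  have hm0 : 0 < m := by
    have := orderOf_pos r; omega
  set y := r ^ m with hy
  have hy1 : y ≠ 1 := pow_ne_one_of_lt_orderOf hm0.ne' (by omega)
  have hy2 : y * y = 1 := by rw [hy, ← pow_add, ← two_mul, ← hm]; exact pow_orderOf_eq_one r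
  have hya : Commute y a := by
    have h := conj_pow (i := m) (a := a) (b := r)
    rw [conj_inv_of_invol ha2 hc2, inv_pow, ← hy, inv_eq_of_mul_eq_one_right hy2] at h
    show y * a = a * y
    calc y * a = a * y * a⁻¹ * a := by rw [← h]
      _ = a * y := by group
  have hyr : Commute y r := (Commute.refl r).pow_left m
  have hyc : Commute y c := by
    have := hya.inv_right.mul_right hyr
    rwa [hr, inv_mul_cancel_left] at this
  have hyu : Commute y u := hru.pow_left m
  by_cases he : y = u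
  · rcases Nat.even_or_odd' m with ⟨i, hi | hi⟩
    · set w := r ^ i with hw
      have hww : w * w = u := by rw [hw, ← pow_add, ← two_mul, ← hi, ← hy, he]
      refine T.no_sqrt w (T.key T.a_type ?_) hww
      have h1 : a * w * a⁻¹ = w⁻¹ := by rw [hw, ← conj_pow, conj_inv_of_invol ha2 hc2, inv_pow]
      have h2 : w * a * w⁻¹ = u * a := by
        calc w * a * w⁻¹ = w * a * (a * w * a⁻¹) := by rw [h1]
          _ = w * (a * a) * w * a⁻¹ := by group
          _ = u * a := by rw [ha2, mul_one, hww, inv_eq_of_mul_eq_one_right ha2]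
      rw [h2]
      exact mul_mem T.u_mem T.a_mem
    · have hcu2 : c * u * (c * u) = 1 := by
        calc c * u * (c * u) = c * (u * c) * u := by group
          _ = (c * c) * (u * u) := by rw [← hcu.eq]; group
          _ = 1 := by rw [hc2, T.u_sq, one_mul]
      have hodd : (a * (c * u)) ^ (2 * i + 1) = 1 := by
        rw [← mul_assoc, ← hr, (hru : Commute r u).mul_pow, ← hi, ← hy, he, hi, pow_succ, pow_mul,
          sq, T.u_sq, one_pow, one_mul, T.u_sq]
      have he' := odd_conj ha2 hcu2 (j := i) hodd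
      set p := (a * (c * u)) ^ i with hp
      have hpu : Commute p u := (hau.mul_left (hcu.mul_left (Commute.refl u))).pow_left i
      refine hsep (k⁻¹ * p) (hku.inv_left.mul_left hpu) (Or.inr ?_)
      calc k⁻¹ * p * a * (k⁻¹ * p)⁻¹ = k⁻¹ * (p * a * p⁻¹) * k := by group
        _ = b * (k⁻¹ * (u * k)) := by rw [he', hc]; group
        _ = b * u := by rw [← hk]; group
  · have hyX : y ∈ X := T.key T.a_type (by rw [hya.eq, mul_inv_cancel_right]; exact T.a_mem)
    have hcy : ∀ w : G, Commute c w → (∃ x ∈ X, x * t * x⁻¹ = w) → w ∈ X → c ∈ X := fun w h hw hwX =>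
      T.key hw (by rw [h.eq, mul_inv_cancel_right]; exact hwX)
    rcases T.cent_a y hyX hyu hya hy2 hy1 he with h | h
    · exact hcX (hcy y hyc.symm h hyX)
    · exact hcX (hcy _ (hyc.symm.mul_right hcu) h (mul_mem hyX T.u_mem))

/-- the centraliser of every involution of the subgroup lies in it -/
theorem cent_invol {s k : G} (hs : s ∈ X) (h2 : s * s = 1) (h1 : s ≠ 1) (hk : k * s = s * k) :
    k ∈ X := by
  rcases T.cls s hs h2 h1 with h | ⟨x, hx, rfl⟩
  · exact T.key h (by rw [hk, mul_inv_cancel_right]; exact hs)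
  · have : x⁻¹ * k * x ∈ X := T.cent_u (by
      calc x⁻¹ * k * x * u = x⁻¹ * (k * (x * u * x⁻¹)) * x := by group
        _ = u * (x⁻¹ * k * x) := by rw [hk]; group)
    simpa [mul_assoc] using mul_mem (mul_mem hx this) (inv_mem hx)

/-- the subgroup is everything -/
theorem eq_top : X = ⊤ := by
  refine eq_top_iff.2 fun g _ => ?_
  by_contra hg
  set c := g * t * g⁻¹ with hc
  have hcX : c ∉ X := fun h => hg (T.key ⟨1, one_mem _, by simp⟩ h)
  have hc2 : c * c = 1 := by
    rw [hc, show g * t * g⁻¹ * (g * t * g⁻¹) = g * (t * t) * g⁻¹ by group, T.t_sq]; group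
  set r := u * c with hr
  rcases Nat.even_or_odd' (orderOf r) with ⟨m, hm | hm⟩
  swap
  · have he := odd_conj T.u_sq hc2 (j := m) (by rw [← hm]; exact pow_orderOf_eq_one r)
    refine T.not_conj (isConj_iff.2 ⟨g⁻¹ * r ^ m, ?_⟩)
    calc g⁻¹ * r ^ m * u * (g⁻¹ * r ^ m)⁻¹ = g⁻¹ * (r ^ m * u * (r ^ m)⁻¹) * g := by group
      _ = t := by rw [he, hc]; group
  have hm0 : 0 < m := by
    have := orderOf_pos r; omega
  set y := r ^ m with hy
  have hy1 : y ≠ 1 := pow_ne_one_of_lt_orderOf hm0.ne' (by omega)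
  have hy2 : y * y = 1 := by rw [hy, ← pow_add, ← two_mul, ← hm]; exact pow_orderOf_eq_one r
  have hya : Commute y u := by
    have h := conj_pow (i := m) (a := u) (b := r)
    rw [conj_inv_of_invol T.u_sq hc2, inv_pow, ← hy, inv_eq_of_mul_eq_one_right hy2] at h
    show y * u = u * y
    calc y * u = u * y * u⁻¹ * u := by rw [← h]
      _ = u * y := by group
  have hyr : Commute y r := (Commute.refl r).pow_left m
  have hyc : Commute y c := by
    have := hya.inv_right.mul_right hyr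
    rwa [hr, inv_mul_cancel_left] at this
  exact hcX (T.cent_invol (T.cent_u hya) hy2 hy1 hyc.symm)

end Two

end CfsgLib.Spor.HSLocal.EndFacts
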