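import Cfsg.Agent.Lib.Spor.HSLocal.EndData
import Cfsg.Agent.Lib.Spor.PermOut.HSData

/-!
Evaluation of the data on the involutions of the Higman-Sims group.
-/

set_option autoImplicit false
set_option maxRecDepth 100000
set_option maxHeartbeats 0
set_option Elab.async false

namespace CfsgLib.Spor.HSLocal.EndCheck

open CfsgLib.Spor.PermOut EndData

/-- the generators -/
def gens : List ℕ := CfsgLib.Spor.PermOut.HSData.gens

/-- default code -/
def d0 : ℕ := gens.headD 0

/-- all the codes -/
def tbl : Trie := fill (rows.map Prod.fst) gens.length (fill gens 0 .nil)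

/-- the code at a position -/
def cd (i : ℕ) : ℕ := tbl.get d0 i

/-- levels by codes -/
def levs (L : List (ℕ × Option ℕ × List ℕ)) : List Lev := L.map fun l => (l.1, l.2.1, l.2.2.map cd)

/-- two words agree -/
def eqv (p q : List ℕ) : Bool := allN 100 fun x => Nat.beq (app p x) (app q x)

/-- a word squares to one -/
def sqOne (q : List ℕ) : Bool := allN 100 fun x => Nat.beq (app q (app q x)) x

/-- a word has a fixed point -/
def hasFix (q : List ℕ) : Bool := !allN 100 fun x => !Nat.beq (app q x) x

/-- two words commute -/
def comm (p q : List ℕ) : Bool := allN 100 fun x => Nat.beq (app p (app q x)) (app q (app p x))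

/-- the first involution -/
def tC : List ℕ := [cd tI]

/-- the second involution -/
def uC : List ℕ := [cd uI]

/-- the candidates in the centraliser of the first involution -/
def srchT : List (List ℕ) := srch (cd tI) 1 (levs levT) []

/-- the candidates in the centraliser of the second involution -/
def srchU : List (List ℕ) := srch (cd uI) 1 (levs levU) []

/-- a tenth of the candidates, by the first level -/
def part (v : ℕ) : List Lev → ℕ → List (List ℕ)
  | [], _ => []
  | (_, _, ts) :: r, j => ((ts.drop (10 * j)).take 10).flatMap fun t => srch v 1 r [t]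

/-- the first level is free and has at most a hundred elements -/
def firstOK : List Lev → Bool
  | (_, none, ts) :: _ => Nat.ble ts.length 100
  | _ => false

theorem mem_part {v : ℕ} {L : List Lev} (h : firstOK L = true) {q : List ℕ}
    (hq : q ∈ srch v 1 L []) : ∃ j < 10, q ∈ part v L j := by
  match L, h with
  | (b, none, ts) :: r, h =>
    simp only [firstOK, Nat.ble_eq] at h
    simp only [srch, List.mem_flatMap, List.mem_filter, List.nil_append] at hq
    obtain ⟨t, ⟨ht, -⟩, hq⟩ := hq
    obtain ⟨i, hi, rfl⟩ := List.mem_iff_getElem.1 ht
    refine ⟨i / 10, by omega, List.mem_flatMap.2 ⟨_, ?_, hq⟩⟩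
    refine List.mem_iff_getElem.2 ⟨i % 10, by simp; omega, ?_⟩
    rw [List.getElem_take, List.getElem_drop]
    congr 1
    omega

/-- the involutions among a part of the candidates -/
def invT (j : ℕ) : List (List ℕ) := (part (cd tI) (levs levT) j).filter fun q => sqOne q && !eqv q []

/-- a candidate comes with its conjugating element -/
def census (j : ℕ) : Bool :=
  Nat.beq (invT j).length (wit.getD j []).length && ((invT j).zip (wit.getD j [])).all fun p =>
    eqv (p.2.map cd ++ p.1) (tC ++ p.2.map cd) || eqv (p.2.map cd ++ p.1) (uC ++ p.2.map cd)

/-- the check on a candidate for the second involution -/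
def candU (q : List ℕ) : Bool :=
  (!allN 100 fun x => Nat.beq (app q (app q x)) (app uC x)) &&
  (!comm q [cd bI] ||
    allN 100 fun x => Nat.beq (app q (app q (app q (app q (app q (app q (app q (app q x)))))))) x) &&
  (!(comm q [cd aI] && sqOne q && !eqv q [] && !eqv q uC) || hasFix q || hasFix (q ++ uC))

/-- the checks on the named elements -/
def named : Bool :=
  sqOne tC && hasFix tC && !eqv tC [] && sqOne uC && !hasFix uC &&
  sqOne [cd aI] && hasFix [cd aI] && !eqv [cd aI] [] && comm [cd aI] uC &&
  sqOne [cd bI] && hasFix [cd bI] && !eqv [cd bI] [] && comm [cd bI] uC &&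
  comm [cd dI] uC && comm [cd dI] [cd aI] && eqv [cd dI, cd dI, cd dI] [] && !eqv [cd dI] [] &&
  comm [cd d1I] uC && eqv [cd d1I, cd d1I, cd d1I] [] && !eqv [cd d1I] [] &&
  comm [cd d2I] uC && eqv [cd d2I, cd d2I, cd d2I] [] && comm [cd d1I] [cd d2I] &&
  !eqv [cd d2I] [] && !eqv [cd d2I] [cd d1I] && !eqv [cd d2I] [cd d1I, cd d1I]

theorem slp_ok : slp 100 d0 rows gens.length (fill gens 0 .nil) = true := by decide +kernel

theorem levT_ok : (levOK 100 (cd tI) (levs levT) [] &&
    Nat.beq ((levs levT).map fun l => l.2.2.length).prod 44352000) = true := by decide +kernel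

theorem levU_ok : (levOK 100 (cd uI) (levs levU) [] &&
    Nat.beq ((levs levU).map fun l => l.2.2.length).prod 44352000) = true := by decide +kernel

theorem levC_ok : (levOK 100 (cd tI) (levs levC) [] &&
    Nat.beq ((levs levC).map fun l => l.2.2.length).prod 7680 &&
    (levs levC).all fun l => l.2.2.all fun c => comm [c] tC) = true := by decide +kernel

theorem named_ok : named = true := by decide +kernel

theorem lenT_ok : Nat.ble srchT.length 7680 = true := by decide +kernel

theorem first_ok : (firstOK (levs levT) && firstOK (levs levU)) = true := by decide +kernel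

theorem census_0 : census 0 = true := by decide +kernel

theorem census_1 : census 1 = true := by decide +kernel

theorem census_2 : census 2 = true := by decide +kernel

theorem census_3 : census 3 = true := by decide +kernel

theorem census_4 : census 4 = true := by decide +kernel

theorem census_5 : census 5 = true := by decide +kernel

theorem census_6 : census 6 = true := by decide +kernel

theorem census_7 : census 7 = true := by decide +kernel

theorem census_8 : census 8 = true := by decide +kernel

theorem census_9 : census 9 = true := by decide +kernel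

theorem candU_0 : (part (cd uI) (levs levU) 0).all candU = true := by decide +kernel

theorem candU_1 : (part (cd uI) (levs levU) 1).all candU = true := by decide +kernel

theorem candU_2 : (part (cd uI) (levs levU) 2).all candU = true := by decide +kernel

theorem candU_3 : (part (cd uI) (levs levU) 3).all candU = true := by decide +kernel

theorem candU_4 : (part (cd uI) (levs levU) 4).all candU = true := by decide +kernel

theorem candU_5 : (part (cd uI) (levs levU) 5).all candU = true := by decide +kernel

theorem candU_6 : (part (cd uI) (levs levU) 6).all candU = true := by decide +kernel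

theorem candU_7 : (part (cd uI) (levs levU) 7).all candU = true := by decide +kernel

theorem candU_8 : (part (cd uI) (levs levU) 8).all candU = true := by decide +kernel

theorem candU_9 : (part (cd uI) (levs levU) 9).all candU = true := by decide +kernel

theorem census_ok : ∀ j < 10, census j = true := fun j hj =>
  match j, hj with
  | 0, _ => census_0
  | 1, _ => census_1
  | 2, _ => census_2
  | 3, _ => census_3
  | 4, _ => census_4
  | 5, _ => census_5
  | 6, _ => census_6
  | 7, _ => census_7
  | 8, _ => census_8
  | 9, _ => census_9
  | n + 10, h => absurd h (by omega)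

theorem candU_ok {q : List ℕ} (hq : q ∈ srchU) : candU q = true := by
  obtain ⟨j, hj, hq⟩ := mem_part (Bool.and_eq_true_iff.1 first_ok).2 hq
  match j, hj with
  | 0, _ => exact List.all_eq_true.1 candU_0 q hq
  | 1, _ => exact List.all_eq_true.1 candU_1 q hq
  | 2, _ => exact List.all_eq_true.1 candU_2 q hq
  | 3, _ => exact List.all_eq_true.1 candU_3 q hq
  | 4, _ => exact List.all_eq_true.1 candU_4 q hq
  | 5, _ => exact List.all_eq_true.1 candU_5 q hq
  | 6, _ => exact List.all_eq_true.1 candU_6 q hq
  | 7, _ => exact List.all_eq_true.1 candU_7 q hq
  | 8, _ => exact List.all_eq_true.1 candU_8 q hq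
  | 9, _ => exact List.all_eq_true.1 candU_9 q hq

end CfsgLib.Spor.HSLocal.EndCheck
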