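import Cfsg.Agent.Lib.Spor.HSLocal.Defs
import Cfsg.Agent.Lib.Spor.HSLocal.EndAbstract
import Cfsg.Agent.Lib.Spor.HSLocal.EndCheck
import Cfsg.Agent.Lib.Spor.PermOut.HS

/-!
A homomorphism from the Higman-Sims group whose image contains the involution `t` is an
isomorphism.
-/

set_option autoImplicit false
set_option maxRecDepth 100000
set_option maxHeartbeats 2000000
set_option linter.style.haveILetI false

namespace CfsgLib.Spor.HSLocal

open Equiv CfsgLib.Spor.PermOut EndCheck EndData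

universe u

/-- the facts about the Higman-Sims group that are used -/
structure HSInvFacts (X : Type u) [Group X] (T U A B D : X) : Prop where
  t_sq : T * T = 1
  u_sq : U * U = 1
  u_ne : U ≠ 1
  card_t : Nat.card (Subgroup.centralizer ({T} : Set X)) = 7680
  card_u : 9 ∣ Nat.card (Subgroup.centralizer ({U} : Set X))
  cls : ∀ y : X, y * y = 1 → y ≠ 1 → (∃ x, x * T * x⁻¹ = y) ∨ ∃ x, x * U * x⁻¹ = y
  a_type : ∃ x, x * T * x⁻¹ = A
  a_u : A * U = U * A
  b_type : ∃ x, x * T * x⁻¹ = B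
  b_u : B * U = U * B
  d_u : D * U = U * D
  d_a : D * A = A * D
  d_ord : D ^ 3 = 1
  d_ne : D ≠ 1
  cent_b : ∀ y, y * U = U * y → y * B = B * y → y ^ 8 = 1
  no_sqrt : ∀ y : X, y * y ≠ U
  cent_a : ∀ z, z * U = U * z → z * A = A * z → z * z = 1 → z ≠ 1 → z ≠ U →
    (∃ x, x * T * x⁻¹ = z) ∨ ∃ x, x * T * x⁻¹ = z * U

namespace EndModel

/-- a word is the list of images of `σ` -/
def RepW (σ : Perm (Fin 100)) (q : List ℕ) : Prop := ∀ i : Fin 100, ((σ i : Fin 100) : ℕ) = app q i

theorem RepW.nil : RepW 1 [] := fun _ => rfl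

theorem RepW.single {σ : Perm (Fin 100)} {a : ℕ} (h : CfsgLib.Spor.PermOut.Rep σ a) : RepW σ [a] := h

theorem RepW.mul {σ τ : Perm (Fin 100)} {p q : List ℕ} (h : RepW σ p) (h' : RepW τ q) :
    RepW (σ * τ) (p ++ q) := fun i => by
  rw [Perm.mul_apply, h, h', app, app, app, List.foldr_append]

theorem RepW.eq_iff {σ τ : Perm (Fin 100)} {p q : List ℕ} (h : RepW σ p) (h' : RepW τ q) :
    σ = τ ↔ eqv p q = true := by
  simp only [eqv, allN_iff, Nat.beq_eq]
  exact ⟨fun e x hx => by rw [← h ⟨x, hx⟩, ← h' ⟨x, hx⟩, e],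
    fun e => Equiv.ext fun i => Fin.ext (by rw [h, h', e i i.2])⟩

theorem comm_eq (p q : List ℕ) : EndCheck.comm p q = eqv (p ++ q) (q ++ p) := by
  simp only [EndCheck.comm, eqv, app, List.foldr_append]

theorem RepW.comm_iff {σ τ : Perm (Fin 100)} {p q : List ℕ} (h : RepW σ p) (h' : RepW τ q) :
    σ * τ = τ * σ ↔ EndCheck.comm p q = true := by
  rw [(h.mul h').eq_iff (h'.mul h), comm_eq]

theorem sqOne_eq (q : List ℕ) : sqOne q = eqv (q ++ q) [] := by
  simp only [sqOne, eqv, app, List.foldr_append, List.foldr_nil]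

theorem RepW.sq_iff {σ : Perm (Fin 100)} {q : List ℕ} (h : RepW σ q) :
    σ * σ = 1 ↔ sqOne q = true := by
  rw [(h.mul h).eq_iff RepW.nil, sqOne_eq]

theorem RepW.fix_iff {σ : Perm (Fin 100)} {q : List ℕ} (h : RepW σ q) :
    (∃ i, σ i = i) ↔ hasFix q = true := by
  constructor
  · rintro ⟨i, hi⟩
    rw [hasFix, Bool.not_eq_true', ← Bool.not_eq_true, allN_iff]
    intro hall
    have h1 := hall i i.2
    rw [Bool.not_eq_true'] at h1
    exact Bool.false_ne_true (h1.symm.trans (Nat.beq_eq.mpr (by rw [← h, hi])))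
  · intro hf
    by_contra hne
    rw [hasFix, Bool.not_eq_true', ← Bool.not_eq_true, allN_iff] at hf
    refine hf fun x hx => ?_
    rw [Bool.not_eq_true']
    exact Bool.eq_false_iff.2 fun e =>
      hne ⟨⟨x, hx⟩, Fin.ext ((h ⟨x, hx⟩).trans (Nat.eq_of_beq_eq_true e))⟩

theorem fix_conj {n : ℕ} (x y : Perm (Fin n)) (h : ∃ i, y i = i) : ∃ i, (x * y * x⁻¹) i = i := by
  obtain ⟨i, hi⟩ := h
  exact ⟨x i, by simp [hi]⟩

theorem nine_dvd {Y : Type*} [Group Y] [Finite Y] {c₁ c₂ : Y} (h1 : c₁ ^ 3 = 1) (n1 : c₁ ≠ 1)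
    (h2 : c₂ ^ 3 = 1) (hc : c₁ * c₂ = c₂ * c₁) (hne : c₂ ∉ Subgroup.zpowers c₁) :
    9 ∣ Nat.card Y := by
  have hp : Fact (Nat.Prime 3) := ⟨Nat.prime_three⟩
  have o1 : Nat.card (Subgroup.zpowers c₁) = 3 := by
    rw [Nat.card_zpowers, orderOf_eq_prime h1 n1]
  have hn1 : c₂ ≠ 1 := fun h => hne (h ▸ one_mem _)
  have o2 : Nat.card (Subgroup.zpowers c₂) = 3 := by
    rw [Nat.card_zpowers, orderOf_eq_prime h2 hn1]
  let f : Subgroup.zpowers c₁ × Subgroup.zpowers c₂ →* Y :=
    MonoidHom.noncommCoprod (Subgroup.zpowers c₁).subtype (Subgroup.zpowers c₂).subtype (by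
      rintro ⟨_, i, rfl⟩ ⟨_, j, rfl⟩
      exact (Commute.zpow_zpow hc i j))
  have hf : Function.Injective f := by
    rw [injective_iff_map_eq_one]
    rintro ⟨⟨x, hx⟩, ⟨y, hy⟩⟩ e
    have e' : x * y = 1 := e
    have hy1 : y ∈ Subgroup.zpowers c₁ := by
      rw [show y = x⁻¹ from eq_inv_of_mul_eq_one_right e']; exact inv_mem hx
    by_cases hy0 : y = 1
    · subst hy0
      rw [mul_one] at e'
      subst e'
      rfl
    · exfalso
      have hle : Subgroup.zpowers y ≤ Subgroup.zpowers c₂ := Subgroup.zpowers_le.2 hy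
      have heq : Subgroup.zpowers y = Subgroup.zpowers c₂ := by
        refine Subgroup.eq_of_le_of_card_ge hle ?_
        rw [o2]
        have hd := Subgroup.card_dvd_of_le hle
        rw [o2, Nat.dvd_prime Nat.prime_three] at hd
        rcases hd with hd | hd
        · rw [Nat.card_zpowers, orderOf_eq_one_iff] at hd
          exact absurd hd hy0
        · rw [hd]
      exact hne ((Subgroup.zpowers_le.2 hy1) (heq ▸ Subgroup.mem_zpowers c₂))
  have h := Subgroup.card_dvd_of_injective f hf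
  rwa [Nat.card_prod, o1, o2] at h

theorem facts : ∃ M : Subgroup (Perm (Fin 100)),
    Nonempty (Cfsg.Spor.HS ≃* M) ∧ IsSimpleGroup M ∧ ∃ T U A B D : M, HSInvFacts M T U A B D := by
  classical
  obtain ⟨M, ⟨e⟩, hMg⟩ :=
    haveI : IsSimpleGroup CfsgLib.Spor.HSConfig.pairStab := CfsgLib.Spor.ConwaySimple.isSimple_hs
    exists_model (K := CfsgLib.Spor.HSConfig.pairStab) CfsgLib.Spor.HSConfig.hsList_length
      HSData.pts_ok CfsgLib.Spor.HSConfig.hsList_nodup CfsgLib.Spor.HSConfig.ncard_100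
      (CfsgLib.Spor.HSConfig.pairStab_fix 24 (-24)) CfsgLib.Spor.HSConfig.gens_pair
      HSData.gens (by decide +kernel) HSData.progs_ok HSData.moves_ok
  haveI hsimp : IsSimpleGroup CfsgLib.Spor.HSConfig.pairStab := CfsgLib.Spor.ConwaySimple.isSimple_hs
  obtain ⟨e'⟩ := CfsgLib.Spor.HSIso.pairStab_equiv_hs
  have hcardM : Nat.card M = 44352000 :=
    (Nat.card_congr e.toEquiv).symm.trans CfsgLib.Spor.ConwaySimple.natCard_hsStd
  refine ⟨M, ⟨e'.symm.trans e⟩, (e.isSimpleGroup_congr).1 hsimp, ?_⟩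
  have hd : InM M d0 := hMg _ (by decide +kernel)
  have hcd : ∀ i, InM M (cd i) := fun i =>
    ((inM_slp hd rows gens.length _ slp_ok (all_fill gens 0 (t := .nil) hMg trivial)).2).get hd i
  let el : ℕ → M := fun i => ⟨permOf 100 (cd i), (hcd i).mem⟩
  have hel : ∀ i, RepW (el i).1 [cd i] := fun i => RepW.single (hcd i).rep
  have heq : ∀ {x y : M} {p q : List ℕ}, RepW x.1 p → RepW y.1 q → eqv p q = true → x = y :=
    fun hx hy h => Subtype.ext ((hx.eq_iff hy).2 h)
  have hne : ∀ {x y : M} {p q : List ℕ}, RepW x.1 p → RepW y.1 q → eqv p q = false → x ≠ y :=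
    fun hx hy h e => Bool.false_ne_true (h.symm.trans ((hx.eq_iff hy).1 (congrArg Subtype.val e)))
  have h1 : RepW ((1 : M) : Perm (Fin 100)) [] := RepW.nil
  have hlev : ∀ L, ∀ l ∈ levs L, ∀ c ∈ l.2.2, InM M c := by
    intro L l hl c hc
    obtain ⟨l', -, rfl⟩ := List.mem_map.1 hl
    obtain ⟨i, -, rfl⟩ := List.mem_map.1 hc
    exact hcd i
  have hn := named_ok
  simp only [named, tC, uC, Bool.and_eq_true, Bool.not_eq_true'] at hn
  obtain ⟨⟨⟨⟨⟨⟨⟨⟨⟨⟨⟨⟨⟨⟨⟨⟨⟨⟨⟨⟨⟨⟨⟨⟨⟨hTsq, hTfix⟩, hT1⟩, hUsq⟩, hUfix⟩, hAsq⟩, hAfix⟩, hA1⟩, hAU⟩, hBsq⟩,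
    hBfix⟩, hB1⟩, hBU⟩, hDU⟩, hDA⟩, hD3⟩, hD1⟩, h1U⟩, h13⟩, h11⟩, h2U⟩, h23⟩, h12⟩, h21⟩, h2ne⟩,
    h2ne'⟩ := hn
  set T := el tI with hT
  set U := el uI with hU
  set A := el aI
  set B := el bI
  set D := el dI
  have hTr : RepW T.1 tC := hel tI
  have hUr : RepW U.1 uC := hel uI
  -- candidates
  have hcand : ∀ (v : ℕ) (L : List (ℕ × Option ℕ × List ℕ)),
      (levOK 100 (cd v) (levs L) [] && Nat.beq ((levs L).map fun l => l.2.2.length).prod 44352000) =
        true →
      ∀ y : M, y * el v = el v * y → ∃ q ∈ srch (cd v) 1 (levs L) [], RepW y.1 q := by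
    intro v L hok y hy
    simp only [Bool.and_eq_true, Nat.beq_eq] at hok
    obtain ⟨q, hq, hqM, e⟩ := exists_srch (M := M) (y := y.1) (hcd v).rep (hcd v).rep
      (k := 1) (by rw [pow_one]; exact congrArg Subtype.val hy) (levs L) [] [] hok.1 (hlev L)
      (by simp) (by simp) y.1 (elts_eq hok.1 (hlev L) (hok.2.trans hcardM.symm) y.2) (by simp)
    exact ⟨q, hq, fun i => by rw [e]; exact app_prod q (fun a ha => (hqM a ha).rep) i⟩
  -- the centraliser of `T`
  have hCT : Nat.card (Subgroup.centralizer ({T} : Set M)) = 7680 := by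
    refine le_antisymm ?_ ?_
    · haveI := Fintype.ofFinite (Subgroup.centralizer ({T} : Set M))
      choose f hf hf' using fun y : Subgroup.centralizer ({T} : Set M) =>
        hcand tI levT levT_ok y.1 (Subgroup.mem_centralizer_singleton_iff.1 y.2)
      rw [Nat.card_eq_fintype_card, ← Finset.card_univ]
      refine (Finset.card_le_card_of_injOn f (t := srchT.toFinset)
        (fun y _ => List.mem_toFinset.2 (hf y)) fun y _ y' _ hyy => ?_).trans
        ((List.toFinset_card_le _).trans (Nat.le_of_ble_eq_true lenT_ok))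
      refine Subtype.ext (Subtype.ext (Equiv.ext fun i => Fin.ext ?_))
      rw [hf' y i, hf' y' i, hyy]
    · have h := levC_ok
      simp only [Bool.and_eq_true, Nat.beq_eq, List.all_eq_true] at h
      obtain ⟨⟨hok, hprod⟩, hc⟩ := h
      have hin : ∀ l ∈ levs levC, ∀ c ∈ l.2.2,
          InM ((Subgroup.centralizer ({T} : Set M)).map M.subtype) c := by
        intro l hl c hcl
        obtain ⟨σ, hσ, hr⟩ := hlev levC l hl c hcl
        refine ⟨σ, ⟨⟨σ, hσ⟩, Subgroup.mem_centralizer_singleton_iff.2 (Subtype.ext ?_), rfl⟩, hr⟩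
        exact ((RepW.single hr).comm_iff hTr).2 (hc l hl c hcl)
      have h := card_eq_of_elts hok hin
      rwa [hprod, Subgroup.card_map_of_injective M.subtype_injective] at h
  -- fixed points
  have hUfree : ∀ x : M, ¬ ∃ i, (x * U * x⁻¹ : M).1 i = i := fun x h => by
    have h' := fix_conj x.1⁻¹ _ h
    rw [Subgroup.coe_mul, Subgroup.coe_mul, Subgroup.coe_inv,
      show x.1⁻¹ * (x.1 * U.1 * x.1⁻¹) * (x.1⁻¹)⁻¹ = U.1 by group, hUr.fix_iff] at h'
    exact Bool.false_ne_true (hUfix.symm.trans h')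
  -- the classes of involutions
  have hcls : ∀ y : M, y * y = 1 → y ≠ 1 →
      (∃ x, x * T * x⁻¹ = y) ∨ ∃ x, x * U * x⁻¹ = y := by
    intro y hy hy1
    haveI : Fact (Nat.Prime 2) := ⟨Nat.prime_two⟩
    obtain ⟨P⟩ : Nonempty (Sylow 2 (Subgroup.centralizer ({T} : Set M))) := inferInstance
    have hP : Nat.card ((P : Subgroup _).map (Subgroup.centralizer ({T} : Set M)).subtype) =
        2 ^ (Nat.card M).factorization 2 := by
      rw [Subgroup.card_map_of_injective (Subgroup.subtype_injective _), P.card_eq_multiplicity, hCT,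
        hcardM]
      congr 1
      rw [show (7680 : ℕ) = 2 ^ 9 * 15 from rfl, show (44352000 : ℕ) = 2 ^ 9 * 86625 from rfl,
        Nat.factorization_mul (by norm_num) (by norm_num),
        Nat.factorization_mul (by norm_num) (by norm_num), Finsupp.add_apply, Finsupp.add_apply,
        Nat.factorization_eq_zero_of_not_dvd (by norm_num : ¬ 2 ∣ 15),
        Nat.factorization_eq_zero_of_not_dvd (by norm_num : ¬ 2 ∣ 86625)]
    let Q : Sylow 2 M := Sylow.ofCard _ hP
    obtain ⟨R, hR⟩ := IsPGroup.exists_le_sylow (p := 2) (P := Subgroup.zpowers y) (by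
      refine IsPGroup.of_card (n := 1) ?_
      rw [Nat.card_zpowers, pow_one]
      exact orderOf_eq_prime (by rw [sq, hy]) hy1)
    obtain ⟨g, rfl⟩ := MulAction.exists_smul_eq M Q R
    have hyg : g⁻¹ * y * g ∈ (Q : Subgroup M) := by
      have := hR (Subgroup.mem_zpowers y)
      rw [Sylow.coe_subgroup_smul, Subgroup.mem_pointwise_smul_iff_inv_smul_mem] at this
      simpa using this
    set z := g⁻¹ * y * g with hz
    have hzT : z * T = T * z := by
      have := Subgroup.map_subtype_le _ (show z ∈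
        (P : Subgroup _).map (Subgroup.centralizer ({T} : Set M)).subtype from hyg)
      exact Subgroup.mem_centralizer_singleton_iff.1 this
    obtain ⟨q, hq, hqz⟩ := hcand tI levT levT_ok z hzT
    have hz2 : z * z = 1 := by
      rw [hz, show g⁻¹ * y * g * (g⁻¹ * y * g) = g⁻¹ * (y * y) * g by group, hy]; group
    have hz1 : z ≠ 1 := fun h => hy1 (by
      calc y = g * z * g⁻¹ := by rw [hz]; group
        _ = 1 := by rw [h]; group)
    obtain ⟨j, hj, hqj⟩ := mem_part (Bool.and_eq_true_iff.1 first_ok).1 hq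
    have hqi : q ∈ invT j := List.mem_filter.2 ⟨hqj, by
      rw [Bool.and_eq_true, Bool.not_eq_true']
      exact ⟨(hqz.sq_iff).1 (congrArg Subtype.val hz2), Bool.eq_false_iff.2 fun h =>
        hz1 (heq hqz h1 h)⟩⟩
    have hc := census_ok j hj
    simp only [census, Bool.and_eq_true, Nat.beq_eq, List.all_eq_true, Bool.or_eq_true] at hc
    obtain ⟨k, hk, rfl⟩ := List.mem_iff_getElem.1 hqi
    have hkw : k < (wit.getD j []).length := hc.1 ▸ hk
    have hpair := hc.2 ((invT j)[k], (wit.getD j [])[k]) (List.mem_iff_getElem.2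
      ⟨k, by simp only [List.length_zip]; omega, by simp⟩)
    have hw : ∃ w : M, RepW w.1 (((wit.getD j [])[k]).map cd) := by
      generalize (wit.getD j [])[k] = L
      induction L with
      | nil => exact ⟨1, RepW.nil⟩
      | cons i L ih =>
        obtain ⟨w, hw⟩ := ih
        exact ⟨el i * w, (hel i).mul hw⟩
    obtain ⟨w, hw⟩ := hw
    have hyz : y = g * z * g⁻¹ := by rw [hz]; group
    dsimp only at hpair
    rcases hpair with h | h
    · left
      refine ⟨g * w⁻¹, ?_⟩
      have e := heq (x := w * z) (y := T * w) (hw.mul hqz) (hTr.mul hw) h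
      calc g * w⁻¹ * T * (g * w⁻¹)⁻¹ = g * (w⁻¹ * (T * w)) * g⁻¹ := by group
        _ = y := by rw [← e, hyz]; group
    · right
      refine ⟨g * w⁻¹, ?_⟩
      have e := heq (x := w * z) (y := U * w) (hw.mul hqz) (hUr.mul hw) h
      calc g * w⁻¹ * U * (g * w⁻¹)⁻¹ = g * (w⁻¹ * (U * w)) * g⁻¹ := by group
        _ = y := by rw [← e, hyz]; group
  have htype : ∀ {y : M} {q : List ℕ}, RepW y.1 q → y * y = 1 → y ≠ 1 → hasFix q = true →
      ∃ x, x * T * x⁻¹ = y := fun hr h2 hn1 hf => by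
    rcases hcls _ h2 hn1 with h | ⟨x, rfl⟩
    · exact h
    · exact absurd (hr.fix_iff.2 hf) (hUfree x)
  have hcomm : ∀ {x y : M} {p q : List ℕ}, RepW x.1 p → RepW y.1 q → EndCheck.comm p q = true →
      x * y = y * x := fun hx hy h => Subtype.ext ((hx.comm_iff hy).2 h)
  have hsq : ∀ {x : M} {p : List ℕ}, RepW x.1 p → sqOne p = true → x * x = 1 :=
    fun hx h => Subtype.ext (hx.sq_iff.2 h)
  have hU1 : U ≠ 1 := fun h => by
    have := (hUr.fix_iff).1 ⟨0, by rw [h]; rfl⟩
    exact Bool.false_ne_true (hUfix.symm.trans this)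
  have hcu : ∀ y : M, y * U = U * y → ∃ q, RepW y.1 q ∧ candU q = true := fun y hy => by
    obtain ⟨q, hq, hr⟩ := hcand uI levU levU_ok y hy
    exact ⟨q, hr, candU_ok hq⟩
  have hcube : ∀ i, eqv [cd i, cd i, cd i] [] = true → el i ^ 3 = 1 := fun i h =>
    heq (p := [cd i, cd i, cd i]) (by
      rw [pow_succ, sq]; exact ((hel i).mul (hel i)).mul (hel i)) h1 h
  refine ⟨T, U, A, B, D, ⟨hsq hTr hTsq, hsq hUr hUsq, hU1, hCT, ?_, hcls,
    htype (hel aI) (hsq (hel aI) hAsq) (hne (hel aI) h1 hA1) hAfix, hcomm (hel aI) hUr hAU,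
    htype (hel bI) (hsq (hel bI) hBsq) (hne (hel bI) h1 hB1) hBfix, hcomm (hel bI) hUr hBU,
    hcomm (hel dI) hUr hDU, hcomm (hel dI) (hel aI) hDA, hcube dI hD3, hne (hel dI) h1 hD1,
    ?_, ?_, ?_⟩⟩
  · refine nine_dvd (c₁ := (⟨el d1I, Subgroup.mem_centralizer_singleton_iff.2
      (hcomm (hel d1I) hUr h1U)⟩ : Subgroup.centralizer ({U} : Set M)))
      (c₂ := ⟨el d2I, Subgroup.mem_centralizer_singleton_iff.2 (hcomm (hel d2I) hUr h2U)⟩)
      (Subtype.ext (hcube d1I h13)) (fun h => hne (hel d1I) h1 h11 (congrArg Subtype.val h))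
      (Subtype.ext (hcube d2I h23)) (Subtype.ext (hcomm (hel d1I) (hel d2I) h12)) ?_
    intro hmem
    obtain ⟨j, hj⟩ := Subgroup.mem_zpowers_iff.1 hmem
    have hj' : el d1I ^ j = el d2I := by
      have := congrArg Subtype.val hj
      simpa using this
    have hord : orderOf (el d1I) = 3 := orderOf_eq_prime (hcube d1I h13) (hne (hel d1I) h1 h11)
    rw [← zpow_mod_orderOf, hord] at hj'
    rcases (show j % 3 = 0 ∨ j % 3 = 1 ∨ j % 3 = 2 by omega) with h | h | h <;>
      push_cast at hj' <;> rw [h] at hj'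
    · rw [zpow_zero] at hj'
      exact hne (hel d2I) h1 h21 hj'.symm
    · rw [zpow_one] at hj'
      exact hne (hel d2I) (hel d1I) h2ne hj'.symm
    · rw [show (2 : ℤ) = (2 : ℕ) from rfl, zpow_natCast, sq] at hj'
      exact hne (hel d2I) ((hel d1I).mul (hel d1I)) h2ne' hj'.symm
  · intro y hyU hyB
    obtain ⟨q, hr, hq⟩ := hcu y hyU
    simp only [candU, Bool.and_eq_true, Bool.or_eq_true, Bool.not_eq_true'] at hq
    rcases hq.1.2 with h | h
    · exact absurd ((hr.comm_iff (hel bI)).1 (congrArg Subtype.val hyB)) (by rw [h]; simp)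
    · refine Subtype.ext (Equiv.ext fun i => Fin.ext ?_)
      rw [allN_iff] at h
      have := Nat.eq_of_beq_eq_true (h i i.2)
      simpa [pow_succ, pow_zero, Perm.mul_apply, hr _] using this
  · intro y hy
    obtain ⟨q, hr, hq⟩ := hcu y (by rw [← hy, mul_assoc])
    simp only [candU, Bool.and_eq_true, Bool.or_eq_true, Bool.not_eq_true'] at hq
    refine Bool.false_ne_true (hq.1.1.symm.trans ?_)
    rw [allN_iff]
    intro x hx
    have h := ((hr.mul hr).eq_iff hUr).1 (congrArg Subtype.val hy)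
    simp only [eqv, allN_iff] at h
    simpa [app, List.foldr_append] using h x hx
  · intro z hzU hzA hz2 hz1 hzu
    obtain ⟨q, hr, hq⟩ := hcu z hzU
    simp only [candU, Bool.and_eq_true, Bool.or_eq_true, Bool.not_eq_true'] at hq
    rcases hq.2 with (h | h) | h
    · have ha := (hr.comm_iff (hel aI)).1 (congrArg Subtype.val hzA)
      have hs := hr.sq_iff.1 (congrArg Subtype.val hz2)
      have h1' : eqv q [] = false := Bool.eq_false_iff.2 fun h => hz1 (heq hr h1 h)
      have hu' : eqv q uC = false := Bool.eq_false_iff.2 fun h => hzu (heq hr hUr h)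
      simp [ha, hs, h1', hu'] at h
    · exact Or.inl (htype hr hz2 hz1 h)
    · refine Or.inr (htype (hr.mul hUr) ?_ (fun e => hzu ?_) h)
      · rw [show z * U * (z * U) = z * (U * z) * U by group, ← hzU,
          show z * (z * U) * U = (z * z) * (U * U) by group, hz2, hsq hUr hUsq, one_mul]
      · calc z = z * U * U := by rw [mul_assoc, hsq hUr hUsq, mul_one]
          _ = U := by rw [e, one_mul]

end EndModel

theorem HSInvFacts.congr.{v, w} {X : Type v} {Y : Type w} [Group X] [Group Y] (e : X ≃* Y) {T U A B D : X}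
    (h : HSInvFacts X T U A B D) : HSInvFacts Y (e T) (e U) (e A) (e B) (e D) := by
  have hc : ∀ s : X, Nat.card (Subgroup.centralizer ({e s} : Set Y)) =
      Nat.card (Subgroup.centralizer ({s} : Set X)) := fun s =>
    (Nat.card_congr (Equiv.subtypeEquiv e.toEquiv fun x => by
      simp only [Subgroup.mem_centralizer_singleton_iff, MulEquiv.toEquiv_eq_coe, MulEquiv.coe_toEquiv,
        ← map_mul, e.injective.eq_iff])).symm
  have hx : ∀ s z : X, (∃ x, x * s * x⁻¹ = z) → ∃ x, x * e s * x⁻¹ = e z := fun s z ⟨x, hx⟩ =>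
    ⟨e x, by rw [← hx, map_mul, map_mul, map_inv]⟩
  have hm : ∀ {p q : X}, p * q = q * p → e p * e q = e q * e p := fun h => by
    rw [← map_mul, h, map_mul]
  constructor
  · rw [← map_mul, h.t_sq, map_one]
  · rw [← map_mul, h.u_sq, map_one]
  · exact fun hh => h.u_ne (e.injective (by rw [hh, map_one]))
  · rw [hc, h.card_t]
  · rw [hc]; exact h.card_u
  · intro y
    obtain ⟨y, rfl⟩ := e.surjective y
    rw [← map_mul, map_eq_one_iff e e.injective, ne_eq, map_eq_one_iff e e.injective]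
    exact fun h1 h2 => (h.cls y h1 h2).imp (hx _ _) (hx _ _)
  · exact hx _ _ h.a_type
  · exact hm h.a_u
  · exact hx _ _ h.b_type
  · exact hm h.b_u
  · exact hm h.d_u
  · exact hm h.d_a
  · rw [← map_pow, h.d_ord, map_one]
  · exact fun hh => h.d_ne (e.injective (by rw [hh, map_one]))
  · intro y
    obtain ⟨y, rfl⟩ := e.surjective y
    simp only [← map_mul, e.injective.eq_iff, ← map_pow, map_eq_one_iff e e.injective]
    exact h.cent_b y
  · intro y
    obtain ⟨y, rfl⟩ := e.surjective y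
    rw [← map_mul, ne_eq, e.injective.eq_iff]
    exact h.no_sqrt y
  · intro z
    obtain ⟨z, rfl⟩ := e.surjective z
    simp only [ne_eq, map_eq_one_iff e e.injective, ← map_mul, e.injective.eq_iff]
    exact fun a b c d f => (h.cent_a z a b c d f).imp (hx _ _) (by
      intro hz; simpa using hx _ _ hz)

theorem Setup.card_H' {G : Type u} [Group G] [Finite G] (S : Setup G) : Nat.card S.H = 7680 := by
  classical
  haveI : Fact (Nat.Prime 2) := ⟨Nat.prime_two⟩
  -- the cyclic group meets the extraspecial one in its centre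
  have hmeet : Nat.card ↥(S.Cy ⊓ S.E) = 2 := by
    rw [S.hmeet, ← S.hEex.2]
    refine Nat.card_congr
      { toFun := fun x => ⟨⟨x.1, x.2.1⟩, Subgroup.mem_center_iff.2 fun y => Subtype.ext
          (Subgroup.mem_centralizer_iff.1 x.2.2 y.1 y.2)⟩
        invFun := fun x => ⟨x.1.1, x.1.2, Subgroup.mem_centralizer_iff.2 fun y hy =>
          congrArg Subtype.val (Subgroup.mem_center_iff.1 x.2 ⟨y, hy⟩)⟩
        left_inv := fun _ => rfl
        right_inv := fun _ => rfl }
  have hcomm : ∀ c ∈ S.Cy, ∀ x ∈ S.E, c * x = x * c := fun c hc x hx =>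
    (Subgroup.mem_centralizer_iff.1 (S.hCyle hc).2 x (S.hEle hx)).symm
  let f : S.Cy × S.E →* G := MonoidHom.noncommCoprod S.Cy.subtype S.E.subtype
    fun c x => hcomm c c.2 x x.2
  have hrange : f.range = S.R := by
    rw [← S.hprod]
    refine le_antisymm ?_ (sup_le ?_ ?_)
    · rintro _ ⟨⟨c, x⟩, rfl⟩
      exact mul_mem (Subgroup.mem_sup_left c.2) (Subgroup.mem_sup_right x.2)
    · exact fun c hc => ⟨(⟨c, hc⟩, 1), mul_one c⟩
    · exact fun x hx => ⟨(1, ⟨x, hx⟩), one_mul x⟩
  have hker : Nat.card f.ker = 2 := by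
    rw [← hmeet]
    refine Nat.card_congr
      { toFun := fun x => ⟨x.1.1, x.1.1.2, ?_⟩
        invFun := fun c => ⟨(⟨c.1, c.2.1⟩, ⟨c.1⁻¹, S.E.inv_mem c.2.2⟩), by
          show c.1 * c.1⁻¹ = 1
          exact mul_inv_cancel c.1⟩
        left_inv := ?_
        right_inv := fun _ => rfl }
    · have e : (x.1.1 : G) * x.1.2 = 1 := x.2
      rw [eq_inv_of_mul_eq_one_left e]
      exact S.E.inv_mem x.1.2.2
    · rintro ⟨⟨c, x⟩, hx⟩
      have e : (c : G) * x = 1 := hx
      exact Subtype.ext (Prod.ext rfl (Subtype.ext (eq_inv_of_mul_eq_one_right e).symm))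
  have hR : Nat.card S.R = 64 := by
    have h := f.ker.card_mul_index
    rw [hker, Subgroup.index_ker, hrange, Nat.card_prod, S.hCycard, S.hEcard] at h
    omega
  have h := (Cfsg.pCore 2 S.H).card_eq_card_quotient_mul_card_subgroup
  rw [Nat.card_congr S.eH.toEquiv, Nat.card_perm, Nat.card_fin,
    ← Subgroup.card_map_of_injective (K := Cfsg.pCore 2 S.H) S.H.subtype_injective, ← S.hR, hR] at h
  simpa [Nat.factorial] using h

theorem endSpec : EndSpec.{u} := by
  intro G _ _ S φ hmem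
  classical
  obtain ⟨M, ⟨e⟩, hsimp, T, U, A, B, D, hF⟩ := EndModel.facts
  haveI : IsSimpleGroup Cfsg.Spor.HS := (e.isSimpleGroup_congr).2 hsimp
  have hinj : Function.Injective φ := by
    rcases φ.normal_ker.eq_bot_or_eq_top with h | h
    · exact (MonoidHom.ker_eq_bot_iff φ).1 h
    · exfalso
      obtain ⟨x, hx⟩ := hmem
      have : φ x = 1 := MonoidHom.mem_ker.1 (h ▸ Subgroup.mem_top x)
      exact orderOf_eq_one_iff.not.1 (by rw [S.ht]; norm_num) (hx.symm.trans this)
  let ψ : M ≃* φ.range := e.symm.trans (MonoidHom.ofInjective hinj)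
  have hcardH := S.card_H'
  -- centralisers in the image embed
  have hdvd : ∀ (s : φ.range), Nat.card (Subgroup.centralizer ({s} : Set φ.range)) ∣
      Nat.card (Subgroup.centralizer ({(s : G)} : Set G)) := fun s => by
    let g : Subgroup.centralizer ({s} : Set φ.range) →* Subgroup.centralizer ({(s : G)} : Set G) :=
      { toFun := fun x => ⟨x.1.1, Subgroup.mem_centralizer_singleton_iff.2
          (congrArg Subtype.val (Subgroup.mem_centralizer_singleton_iff.1 x.2))⟩
        map_one' := rfl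
        map_mul' := fun _ _ => rfl }
    exact Subgroup.card_dvd_of_injective g fun x y h =>
      Subtype.ext (Subtype.ext (congrArg Subtype.val h :))
  have hCt : Nat.card (Subgroup.centralizer ({S.t} : Set G)) = 7680 := by rw [← S.hH]; exact hcardH
  let t' : φ.range := ⟨S.t, hmem⟩
  have ht1 : t' ≠ 1 := fun h => by
    have h' : S.t = 1 := congrArg Subtype.val h
    have := S.ht
    rw [h', orderOf_one] at this
    omega
  have ht2 : t' * t' = 1 := Subtype.ext (by
    show S.t * S.t = 1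
    rw [← sq, ← S.ht]; exact pow_orderOf_eq_one S.t)
  have hF1 := hF.congr ψ
  rcases hF1.cls t' ht2 ht1 with ⟨x, hx⟩ | ⟨x, hx⟩
  swap
  · exfalso
    have h9 := (hF1.congr (MulAut.conj x)).card_u
    rw [MulAut.conj_apply, hx] at h9
    have h := h9.trans (hdvd t')
    rw [show ((t' : φ.range) : G) = S.t from rfl, hCt] at h
    norm_num at h
  have hF2 := hF1.congr (MulAut.conj x)
  rw [MulAut.conj_apply, hx] at hF2
  generalize MulAut.conj x (ψ U) = u', MulAut.conj x (ψ A) = a', MulAut.conj x (ψ B) = b',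
    MulAut.conj x (ψ D) = d' at hF2
  have htop : φ.range = ⊤ := by
    refine EndFacts.Two.eq_top (t := S.t) (u := (u' : G)) (a := (a' : G)) (b := (b' : G))
      (d := (d' : G)) ?_
    have hconj : ∀ {s z : φ.range}, (∃ x, x * s * x⁻¹ = z) →
        ∃ x ∈ φ.range, x * (s : G) * x⁻¹ = z := fun ⟨x, hx⟩ =>
      ⟨x, x.2, by rw [← hx]; rfl⟩
    refine
      { t_mem := hmem
        t_sq := congrArg Subtype.val ht2
        cent_t := ?_
        u_mem := u'.2
        u_sq := congrArg Subtype.val hF2.u_sq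
        u_ne := fun h => hF2.u_ne (Subtype.ext h)
        not_conj := ?_
        cls := ?_
        a_mem := a'.2
        a_type := hconj hF2.a_type
        a_u := congrArg Subtype.val hF2.a_u
        b_mem := b'.2
        b_type := hconj hF2.b_type
        b_u := congrArg Subtype.val hF2.b_u
        d_mem := d'.2
        d_u := congrArg Subtype.val hF2.d_u
        d_a := congrArg Subtype.val hF2.d_a
        d_ord := congrArg Subtype.val hF2.d_ord
        d_ne := fun h => hF2.d_ne (Subtype.ext h)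
        cent_b := ?_
        no_sqrt := ?_
        cent_a := ?_ }
    · intro k hk
      have hle : (Subgroup.centralizer ({t'} : Set φ.range)).map φ.range.subtype ≤
          Subgroup.centralizer ({S.t} : Set G) := by
        rintro _ ⟨y, hy, rfl⟩
        exact Subgroup.mem_centralizer_singleton_iff.2
          (congrArg Subtype.val (Subgroup.mem_centralizer_singleton_iff.1 hy))
      have heq := Subgroup.eq_of_le_of_card_ge hle (by
        rw [hCt, Subgroup.card_map_of_injective φ.range.subtype_injective, hF2.card_t])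
      exact Subgroup.map_subtype_le _ (heq ▸ Subgroup.mem_centralizer_singleton_iff.2 hk)
    · intro hconj
      obtain ⟨g, hg⟩ := isConj_iff.1 hconj
      have h : Nat.card (Subgroup.centralizer ({(u' : G)} : Set G)) = 7680 := by
        rw [← hCt, ← hg]
        exact Nat.card_congr (Equiv.subtypeEquiv (MulAut.conj g).toEquiv fun y => by
          simp only [Subgroup.mem_centralizer_singleton_iff, MulEquiv.toEquiv_eq_coe,
            MulEquiv.coe_toEquiv]
          rw [← MulAut.conj_apply g (u' : G), ← map_mul, ← map_mul,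
            (MulAut.conj g).injective.eq_iff])
      have := hF2.card_u.trans (hdvd u')
      rw [h] at this
      norm_num at this
    · intro s hs h2 h1
      exact (hF2.cls ⟨s, hs⟩ (Subtype.ext h2) (fun h => h1 (congrArg Subtype.val h))).imp
        hconj hconj
    · intro y hy h1 h2
      exact congrArg Subtype.val (hF2.cent_b ⟨y, hy⟩ (Subtype.ext h1) (Subtype.ext h2))
    · intro y hy h
      exact hF2.no_sqrt ⟨y, hy⟩ (Subtype.ext h)
    · intro z hz h1 h2 h3 h4 h5
      exact (hF2.cent_a ⟨z, hz⟩ (Subtype.ext h1) (Subtype.ext h2) (Subtype.ext h3)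
        (fun h => h4 (congrArg Subtype.val h)) (fun h => h5 (congrArg Subtype.val h))).imp
        hconj hconj
  exact ⟨(MulEquiv.ofBijective φ ⟨hinj, MonoidHom.range_eq_top.1 htop⟩).symm⟩

end CfsgLib.Spor.HSLocal
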