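import Cfsg.Agent.Lib.Spor.HSLocal.HCandData

/-!
Checking slots of the certificate.
-/

namespace CfsgLib.Spor.HSLocal.HCand

open CfsgLib.PresCert

theorem slots_8 : cert.okRange 4096 512 = true := by decide +kernel

theorem slots_9 : cert.okRange 4608 512 = true := by decide +kernel

theorem slots_10 : cert.okRange 5120 512 = true := by decide +kernel

theorem slots_11 : cert.okRange 5632 512 = true := by decide +kernel

theorem slots_12 : cert.okRange 6144 512 = true := by decide +kernel

theorem slots_13 : cert.okRange 6656 512 = true := by decide +kernel

theorem slots_14 : cert.okRange 7168 512 = true := by decide +kernel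


end CfsgLib.Spor.HSLocal.HCand
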