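import Cfsg.Agent.Lib.PresCert.Walk
import Cfsg.Agent.Lib.PresCert.Presented
import Cfsg.Agent.Lib.Spor.HSLocal.Defs
import Cfsg.Agent.Lib.Spor.HSLocal.HCandCert
import Cfsg.Agent.Lib.Spor.HSLocal.HBadACert
import Cfsg.Agent.Lib.Spor.HSLocal.HBadBCert
import Cfsg.Agent.Lib.Spor.HSLocal.HBadCCert

/-!
The group of the five generators of the involution centraliser: the candidates for the conjugate
of `b`, and the wrong parameter cases, from coset tables over the trivial subgroup.
-/

set_option autoImplicit false
set_option maxRecDepth 100000

namespace CfsgLib.Spor.HSLocal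

open CfsgLib.PresCert

universe u

/-- the word of a coset along parents -/
noncomputable def pathAux (C : Cert) : ℕ → ℕ → List ℕ
  | 0, _ => []
  | k + 1, v => bif Nat.beq v 0 || Nat.ble v (C.parC v) then [] else pathAux C k (C.parC v) ++ [C.parX v]

/-- the word of a coset -/
noncomputable def cpath (C : Cert) (v : ℕ) : List ℕ := pathAux C v v

theorem valAux_path {C : Cert} {Q : Type*} [Group Q] (M : Model C Q) :
    ∀ k v, Cert.valAux M k v = Cert.wval M (pathAux C k v)
  | 0, _ => rfl
  | k + 1, v => by
    by_cases h : v = 0 ∨ v ≤ C.parC v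
    · have hb : (Nat.beq v 0 || Nat.ble v (C.parC v)) = true := by
        rcases h with h | h
        · subst h; rfl
        · simp [Nat.ble_eq.mpr h]
      simp only [Cert.valAux, pathAux, if_pos h, hb, cond_true]
      rfl
    · have hb : (Nat.beq v 0 || Nat.ble v (C.parC v)) = false := by
        rw [not_or] at h
        rw [← Bool.not_eq_true, Bool.or_eq_true, Nat.beq_eq, Nat.ble_eq]
        exact not_or.2 h
      simp only [Cert.valAux, pathAux, if_neg h, hb, cond_false]
      rw [Cert.wval_append, valAux_path M k (C.parC v)]
      simp [Cert.wval]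

/-- every element is the value of a coset word, and closed walks are relations -/
theorem regular_table {α : Type*} [DecidableEq α] {Q : Type*} [Group Q] {C : Cert}
    {js : List Cert.Just} {sel : List α} {known : List (List α)} {d : α} {f : α → Q}
    (V : Cert.Valid C js) (hf : ∀ x, f x * f x = 1) (hk : ∀ w ∈ known, (w.map f).prod = 1)
    (hr : okRels C sel known d = true) (hs : C.subs = []) :
    (∀ q ∈ lettersGroup sel f, ∃ c < C.n,
      q = ((cpath C c).map fun x => if x < C.g then selGen sel d f x else 1).prod) ∧
    ∀ (w : List ℕ) (t c : ℕ), (∀ x ∈ w, x < C.g) → C.walk t w 0 = some c →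
      (w.map (selGen sel d f)).prod =
        ((cpath C c).map fun x => if x < C.g then selGen sel d f x else 1).prod := by
  simp only [okRels, Bool.and_eq_true, decide_eq_true_eq, List.all_eq_true, Bool.or_eq_true,
    List.contains_iff_mem] at hr
  obtain ⟨⟨hg, hinv⟩, hrel⟩ := hr
  set L := lettersGroup sel f with hL
  have hmem : ∀ x, x < C.g → selGen sel d f x ∈ L := by
    intro x hx
    refine Subgroup.subset_closure ⟨sel.getD x d, ?_, rfl⟩
    rw [List.getD_eq_getElem?_getD, List.getElem?_eq_getElem (hg ▸ hx)]
    exact List.getElem_mem _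
  let gen : Nat → L := fun x => if hx : x < C.g then ⟨selGen sel d f x, hmem x hx⟩ else 1
  have hgen : ∀ x < C.g, ((gen x : L) : Q) = selGen sel d f x := fun x hx => by simp [gen, hx]
  have hgen' : ∀ x, ((gen x : L) : Q) = if x < C.g then selGen sel d f x else 1 := fun x => by
    by_cases hx : x < C.g
    · rw [if_pos hx, hgen x hx]
    · simp [gen, hx]
  let M : Model C L :=
    { gen := gen
      gen_inv := fun x hx => by
        have e : C.iv x = x := by
          simp [Cert.iv, hinv, List.getD_eq_getElem?_getD, List.getElem?_range hx]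
        rw [e]
        refine ⟨hx, Subtype.ext ?_⟩
        rw [Subgroup.coe_inv, hgen x hx]
        exact eq_inv_of_mul_eq_one_left (hf _)
      rels_eq := fun r hr => by
        obtain ⟨h1, h2⟩ := hrel r hr
        refine ⟨h1, Subtype.ext ?_⟩
        have hp : (((r.map gen).prod : L) : Q) = ((r.map fun x => sel.getD x d).map f).prod := by
          rw [← prod_map_selGen, SubmonoidClass.coe_list_prod, List.map_map]
          exact congrArg List.prod (List.map_congr_left fun x hx => hgen x (h1 x hx))
        rw [hp, Subgroup.coe_one]
        rcases h2 with h2 | h2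
        · exact hk _ h2
        · have := hk _ h2
          rwa [prod_reverse_of_invol f hf, inv_eq_one] at this
      sub := ⊥
      subs_mem := fun r hr => by simp [hs] at hr
      closure_gen := by
        rw [eq_top_iff]
        rintro ⟨q, hq⟩ -
        induction hq using Subgroup.closure_induction'' with
        | mem q hq =>
          obtain ⟨a, ha, rfl⟩ := hq
          obtain ⟨i, hi, rfl⟩ := List.getElem_of_mem ha
          have hi' : i < C.g := hg ▸ hi
          refine Subgroup.subset_closure ⟨i, hi', Subtype.ext ?_⟩
          rw [hgen i hi', selGen, List.getD_eq_getElem?_getD, List.getElem?_eq_getElem hi]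
          rfl
        | inv_mem q hq =>
          obtain ⟨a, ha, rfl⟩ := hq
          obtain ⟨i, hi, rfl⟩ := List.getElem_of_mem ha
          have hi' : i < C.g := hg ▸ hi
          refine Subgroup.subset_closure ⟨i, hi', Subtype.ext ?_⟩
          rw [hgen i hi', selGen, List.getD_eq_getElem?_getD, List.getElem?_eq_getElem hi]
          exact eq_inv_of_mul_eq_one_left (hf _)
        | one => exact one_mem _
        | mul a b ha hb iha ihb => exact mul_mem (iha) (ihb) }
  have hval : ∀ c, ((Cert.val M c : L) : Q) =
      ((cpath C c).map fun x => if x < C.g then selGen sel d f x else 1).prod := fun c => by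
    rw [Cert.val, valAux_path M, Cert.wval, SubmonoidClass.coe_list_prod, List.map_map]
    exact congrArg List.prod (List.map_congr_left fun x _ => hgen' x)
  constructor
  · intro q hq
    obtain ⟨c, hc, h⟩ := Cert.exists_coset M V ⟨q, hq⟩
    refine ⟨c, hc, ?_⟩
    rw [← hval, ← mul_inv_eq_one.1 (Subgroup.mem_bot.1 h)]
  · intro w t c hw hwalk
    have h := Cert.walk_sound M (t := t)
      (fun c x hc hx _ => Cert.slots_ok M V _ c x hc hx rfl) w 0 c hwalk
    rw [Cert.Rel, Cert.val_zero, one_mul] at h
    rw [← hval, ← mul_inv_eq_one.1 (Subgroup.mem_bot.1 h), Cert.wval, SubmonoidClass.coe_list_prod,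
      List.map_map]
    exact (congrArg List.prod (List.map_congr_left fun x hx => hgen x (hw x hx))).symm

/-- the five letters of `H` -/
def hLetters : List (Fin 6) := [0, 1, 2, 3, 4]

/-- the relations free of the sixth letter -/
def hRelsFive : List (List (Fin 6)) := Data.rels.filter fun r => !(r.contains 5)

theorem cand_rels : okRels HCand.cert hLetters hRelsFive 0 = true := by decide +kernel

theorem cand_facts : HCand.cert.n = 7680 ∧ HCand.cert.g = 5 ∧ HCand.cert.subs = [] :=
  ⟨rfl, rfl, rfl⟩

/-- endpoint of a word -/
noncomputable def wend (w : List ℕ) : Option ℕ := HCand.cert.walk 524288 w 0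

/-- the centralised element -/
def uw : List ℕ := [2, 3, 2]

/-- the candidates as numeric words -/
def candNums : List (List ℕ) := Data.cands.map fun c => c.map Fin.val

/-- every other coset fails one of the two conditions -/
noncomputable def okCoset (c : ℕ) : Bool :=
  let w := cpath HCand.cert c
  (w.all fun x => Nat.blt x 5) &&
    (Nat.beq c 0 ||
      (match wend (w ++ (w ++ w)) with
        | some a => !(Nat.beq a 0)
        | none => false) ||
      (match wend (w ++ uw), wend (uw ++ w) with
        | some a, some b => !(Nat.beq a b)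
        | _, _ => false) ||
      candNums.any fun v => decide (wend v = some c))

set_option Elab.async false

theorem cosets_part0 : allBelow 960 (fun i => okCoset (0 + i)) = true := by
  decide +kernel

theorem cosets_part1 : allBelow 960 (fun i => okCoset (960 + i)) = true := by
  decide +kernel

theorem cosets_part2 : allBelow 960 (fun i => okCoset (1920 + i)) = true := by
  decide +kernel

theorem cosets_part3 : allBelow 960 (fun i => okCoset (2880 + i)) = true := by
  decide +kernel

theorem cosets_part4 : allBelow 960 (fun i => okCoset (3840 + i)) = true := by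
  decide +kernel

theorem cosets_part5 : allBelow 960 (fun i => okCoset (4800 + i)) = true := by
  decide +kernel

theorem cosets_part6 : allBelow 960 (fun i => okCoset (5760 + i)) = true := by
  decide +kernel

theorem cosets_part7 : allBelow 960 (fun i => okCoset (6720 + i)) = true := by
  decide +kernel

theorem cosets_ok (c : ℕ) (hc : c < 7680) : okCoset c = true := by
  have key : ∀ (b : ℕ), allBelow 960 (fun i => okCoset (b + i)) = true → b ≤ c → c < b + 960 →
      okCoset c = true := fun b h h1 h2 => by
    have h3 := allBelow_spec h (c - b) (by omega)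
    rwa [Nat.add_sub_cancel' h1] at h3
  rcases Nat.lt_or_ge c 960 with h | h
  · exact key 0 cosets_part0 (by omega) h
  rcases Nat.lt_or_ge c 1920 with h | h
  · exact key 960 cosets_part1 (by omega) h
  rcases Nat.lt_or_ge c 2880 with h | h
  · exact key 1920 cosets_part2 (by omega) h
  rcases Nat.lt_or_ge c 3840 with h | h
  · exact key 2880 cosets_part3 (by omega) h
  rcases Nat.lt_or_ge c 4800 with h | h
  · exact key 3840 cosets_part4 (by omega) h
  rcases Nat.lt_or_ge c 5760 with h | h
  · exact key 4800 cosets_part5 (by omega) h
  rcases Nat.lt_or_ge c 6720 with h | h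
  · exact key 5760 cosets_part6 (by omega) h
  exact key 6720 cosets_part7 h (by omega)

theorem candNums_lt : (candNums.all fun v => v.all fun x => Nat.blt x 5) = true := by decide +kernel

theorem candsSpec : CandsSpec.{u} := by
  intro G _ f hsix hcard y hy hy1 hy3 hyu
  have hk : ∀ w ∈ hRelsFive, (w.map f).prod = 1 := fun w hw => hsix.rels w (List.mem_filter.1 hw).1
  obtain ⟨hall, hwalk⟩ := regular_table (sel := hLetters) (d := 0) HCand.valid hsix.sq hk cand_rels
    cand_facts.2.2
  have hfive : lettersGroup hLetters f = five f := by
    unfold lettersGroup five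
    congr 1
    ext q
    simp [hLetters, eq_comm, or_assoc]
  rw [hfive, cand_facts.1] at hall
  let φ : ℕ → G := fun c =>
    ((cpath HCand.cert c).map fun x => if x < HCand.cert.g then selGen hLetters 0 f x else 1).prod
  have hlow : ∀ c < 7680, ∀ x ∈ cpath HCand.cert c, x < 5 := fun c hc x hx => by
    have h := cosets_ok c hc
    simp only [okCoset, Bool.and_eq_true, List.all_eq_true, Nat.blt_eq] at h
    exact h.1 x hx
  have hφw : ∀ c < 7680, ((cpath HCand.cert c).map (selGen hLetters 0 f)).prod = φ c := fun c hc =>
    congrArg List.prod (List.map_congr_left fun x hx => (if_pos (hlow c hc x hx)).symm)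
  have hφmem : ∀ c, φ c ∈ five f := fun c => by
    rw [← hfive]
    refine list_prod_mem fun q hq => ?_
    obtain ⟨x, -, rfl⟩ := List.mem_map.1 hq
    split_ifs with hx
    · refine Subgroup.subset_closure ⟨hLetters.getD x 0, ?_, rfl⟩
      rw [List.getD_eq_getElem _ _ (show x < hLetters.length from hx)]
      exact List.getElem_mem _
    · exact one_mem _
  haveI : Finite (five f) := Nat.finite_of_card_ne_zero (by rw [hcard]; norm_num)
  let Φ : Fin 7680 → five f := fun c => ⟨φ c, hφmem c⟩
  have hsurj : Function.Surjective Φ := fun q => by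
    obtain ⟨c, hc, e⟩ := hall q q.2
    exact ⟨⟨c, hc⟩, Subtype.ext e.symm⟩
  have hinj : Function.Injective Φ :=
    ((Nat.bijective_iff_surjective_and_card Φ).2 ⟨hsurj, by rw [Nat.card_fin, hcard]⟩).1
  have hinj' : ∀ a < 7680, ∀ b < 7680, φ a = φ b → a = b := fun a ha b hb e =>
    congrArg Fin.val (@hinj ⟨a, ha⟩ ⟨b, hb⟩ (Subtype.ext e))
  obtain ⟨c, hc, rfl⟩ := hall y hy
  change φ c ≠ 1 at hy1
  change φ c ^ 3 = 1 at hy3
  change φ c * (f 2 * f 3 * f 2) = f 2 * f 3 * f 2 * φ c at hyu
  have hc5 : ∀ x ∈ cpath HCand.cert c, x < 5 := hlow c hc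
  have hu5 : ∀ x ∈ uw, x < 5 := by decide
  have hu : (uw.map (selGen hLetters 0 f)).prod = f 2 * f 3 * f 2 := by
    simp [uw, selGen, hLetters, mul_assoc]
  have hev : ∀ (w : List ℕ) (a : ℕ), (∀ x ∈ w, x < 5) → wend w = some a →
      (w.map (selGen hLetters 0 f)).prod = φ a := fun w a hw he => hwalk w _ a hw he
  have hwalk_lt : ∀ (t : ℕ) (w : List ℕ) (a b : ℕ), a < 7680 → HCand.cert.walk t w a = some b →
      b < 7680 := by
    intro t w
    induction w with
    | nil => intro a b ha h; simp only [Cert.walk, Option.some.injEq] at h; omega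
    | cons x w ih =>
      intro a b ha h
      simp only [Cert.walk] at h
      cases hcond : (Nat.blt a HCand.cert.n && Nat.blt x HCand.cert.g &&
          Nat.blt (HCand.cert.time a x) t) with
      | false => simp [hcond] at h
      | true =>
        rw [hcond, cond_true] at h
        simp only [Bool.and_eq_true, Nat.blt_eq] at hcond
        exact ih _ b (cand_facts.1 ▸ Cert.dest_lt HCand.valid hcond.1.1 hcond.1.2) h
  have hone : φ 0 = 1 := rfl
  have h := cosets_ok c hc
  simp only [okCoset, Bool.and_eq_true, Bool.or_eq_true] at h
  rcases h.2 with ((h | h) | h) | h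
  · obtain rfl := Nat.eq_of_beq_eq_true h
    exact absurd hone hy1
  · exfalso
    cases he : wend (cpath HCand.cert c ++ (cpath HCand.cert c ++ cpath HCand.cert c)) with
    | none => simp [he] at h
    | some a =>
      have e := hev _ a (by simp only [List.mem_append]; rintro x (h | h | h) <;> exact hc5 x h) he
      rw [List.map_append, List.map_append, List.prod_append, List.prod_append, hφw c hc,
        ← mul_assoc, ← pow_two, ← pow_succ, hy3, ← hone] at e
      have := hinj' 0 (by norm_num) a (hwalk_lt _ _ 0 a (by norm_num) he) e
      subst this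
      simp [he] at h
  · exfalso
    cases he : wend (cpath HCand.cert c ++ uw) with
    | none => simp [he] at h
    | some a =>
      cases he' : wend (uw ++ cpath HCand.cert c) with
      | none => simp [he, he'] at h
      | some b =>
        have e := hev _ a (by simp only [List.mem_append]; rintro x (h | h); exacts [hc5 x h, hu5 x h]) he
        have e' := hev _ b (by simp only [List.mem_append]; rintro x (h | h); exacts [hu5 x h, hc5 x h]) he'
        rw [List.map_append, List.prod_append, hφw c hc, hu] at e e'
        have := hinj' a (hwalk_lt _ _ 0 a (by norm_num) he) b (hwalk_lt _ _ 0 b (by norm_num) he')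
          (by rw [← e, ← e', hyu])
        subst this
        simp [he, he'] at h
  · simp only [List.any_eq_true, decide_eq_true_eq] at h
    obtain ⟨v, hv, he⟩ := h
    obtain ⟨w, hw, rfl⟩ := List.mem_map.1 hv
    refine ⟨w, hw, ?_⟩
    have h5 : ∀ x ∈ w.map Fin.val, x < 5 := fun x hx => by
      have := List.all_eq_true.1 (List.all_eq_true.1 candNums_lt _ hv) x hx
      simpa using this
    show φ c = _
    rw [← hev _ c h5 he, ev, List.map_map]
    refine congrArg List.prod (List.map_congr_left fun x hx => ?_)
    show f (hLetters.getD (x : ℕ) 0) = f x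
    have hlt : (x : ℕ) < 5 := h5 _ (List.mem_map_of_mem hx)
    have key : ∀ x : Fin 6, (x : ℕ) < 5 → hLetters.getD (x : ℕ) 0 = x := by decide
    rw [key x hlt]

theorem bad_rels : okRels HBadA.cert (List.finRange 5) (hCase 0 0) 0 = true ∧
    okRels HBadB.cert (List.finRange 5) (hCase 1 0) 0 = true ∧
    okRels HBadC.cert (List.finRange 5) (hCase 1 1) 0 = true := by decide +kernel

theorem bad_bound {G : Type u} [Group G] (f : Fin 5 → G) (hf : ∀ i, f i * f i = 1)
    {C : Cert} {js : List Cert.Just} (V : Cert.Valid C js) {i k : ℕ}
    (hk : ∀ r ∈ hCase i k, ev f r = 1)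
    (hr : okRels C (List.finRange 5) (hCase i k) 0 = true) (hs : C.subs = []) (hn : C.n < 7680) :
    Nat.card (Subgroup.closure (Set.range f)) < 7680 := by
  have hs' : okSubs C (List.finRange 5) [] (0 : Fin 5) = true := by simp [okSubs, hs]
  have h := (index_bound (f := f) V hf hk hr hs').1
  rw [wordsGroup_nil, Subgroup.relIndex_bot_left] at h
  have e : lettersGroup (List.finRange 5) f = Subgroup.closure (Set.range f) := by
    simp [lettersGroup, Set.range]
  rw [e] at h
  omega

theorem hBadSpec : HBadSpec.{u} := by
  intro G _ _ f hf ik hik hr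
  simp only [List.mem_cons, List.not_mem_nil, or_false] at hik
  rcases hik with rfl | rfl | rfl
  · exact bad_bound f hf HBadA.valid hr bad_rels.1 rfl (by decide +kernel)
  · exact bad_bound f hf HBadB.valid hr bad_rels.2.1 rfl (by decide +kernel)
  · exact bad_bound f hf HBadC.valid hr bad_rels.2.2 rfl (by decide +kernel)

end CfsgLib.Spor.HSLocal
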