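import Cfsg.Agent.Lib.Spor.HSLocal.Data

/-!
How each relation of `Data.hBase` reduces to a product inside the two-local subgroup (generated
data): a rotation, then triples (segment between two letters `h` in the seven letters, the same
element as a word in `e, e⁻¹, v, v^b, w, w^b, b, b⁻¹`, the following segment).
-/

set_option autoImplicit false

namespace CfsgLib.Spor.HSLocal.HEltD

/-- the data, in the order of `Data.hBase` -/
def hCert : List (ℕ × List (List (Fin 7) × List (Fin 8) × List (Fin 7))) := [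
  (0, [([5], [0], []), ([5], [0], []), ([5], [0], []), ([5], [0], [])]),
  (0, [([5], [0], [2]), ([5], [0], [2])]),
  (0, [([5], [0], [1]), ([5], [0], [1])]),
  (0, [([5], [0], [3]), ([5], [0], [3])]),
  (0, [([], [], [5]), ([], [], [5]), ([], [], [5]), ([], [], [5])]),
  (0, [([], [], [5, 2]), ([], [], [5, 2])]),
  (0, [([], [], [5, 1]), ([], [], [5, 1])]),
  (0, [([], [], [5, 3]), ([], [], [5, 3])]),
  (0, [([5], [0], []), ([5], [0], [2]), ([], [], [5]), ([], [], [5, 2])]),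
  (0, [([5], [0], []), ([5], [0], [1]), ([], [], [5]), ([], [], [5, 1])]),
  (0, [([5], [0], []), ([5], [0], [3]), ([], [], [5]), ([], [], [5, 3])]),
  (0, []),
  (0, []),
  (0, [([5], [0], [2]), ([5], [0], [1, 2, 1, 2, 1])]),
  (0, [([5], [0], [2, 3, 2, 3, 2]), ([5], [0], [3])]),
  (0, [([], [], [5, 2]), ([], [], [5, 1, 2, 1, 2, 1])]),
  (0, [([], [], [5, 2, 3, 2, 3, 2]), ([], [], [5, 3])]),
  (0, []),
  (0, [([5], [0], []), ([5], [0], [2, 3, 2, 3, 2]), ([], [], [5]), ([], [], [5, 3])]),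
  (0, [([5], [0], []), ([5], [0], [1, 2, 1, 2, 1]), ([], [], [5]), ([], [], [5, 2])]),
  (0, [([5], [0], [1]), ([5], [0], [3, 1, 3, 1, 3, 1, 3])]),
  (0, [([], [], [5, 1]), ([], [], [5, 3, 1, 3, 1, 3, 1, 3])]),
  (0, []),
  (0, [([5, 1, 3, 1, 3], [0, 2], [5, 1, 2]), ([1, 3, 1, 3], [2], [1, 2, 1]), ([1, 3, 1, 3], [2], [2])]),
  (3, [([], [], [5, 1, 2]), ([1, 3, 1, 3], [2], [2, 1]), ([1, 3, 1, 3], [2], [2]), ([1, 3, 1, 3], [2], [5, 2])]),
  (0, [([], [], [5, 1]), ([], [], [5]), ([1, 3, 1, 3], [2], [2]), ([1, 3, 1, 3], [2], [1, 2, 1]), ([1, 3, 1, 3], [2], [2])]),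
  (0, [([5], [0], []), ([5], [0], []), ([5], [0], [2, 3]), ([1, 3, 1, 3], [2], [2, 3]), ([1, 3, 1, 3], [2], [2, 3]), ([1, 3, 1, 3], [2], [])]),
  (0, [([5], [0], []), ([5], [0], [2]), ([1, 3, 1, 3], [2], [3]), ([1, 3, 1, 3], [2], [3, 1, 3, 1, 3, 2])]),
  (0, [([5], [0], []), ([5], [0], [2, 3, 2]), ([1, 3, 1, 3], [2], [1, 3, 1]), ([1, 3, 1, 3], [2], [2, 3])]),
  (0, [([5], [0], []), ([5], [0], [2, 3, 1, 3, 1, 3]), ([1, 3, 1, 3], [2], [3]), ([1, 3, 1, 3], [2], [2])]),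
  (0, [([], [], [5]), ([], [], [5, 3]), ([], [], [5]), ([], [], [5, 3])]),
  (0, [([], [], [5]), ([], [], [5, 2]), ([], [], [5]), ([], [], [5, 2])]),
  (0, []),
  (0, []),
  (0, []),
  (0, [([1, 2], [6], [2, 1])])]

end CfsgLib.Spor.HSLocal.HEltD
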