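import Cfsg.Agent.Lib.Spor.HSLocal.MModel
import Cfsg.Agent.Lib.Spor.HSLocal.HEltCert

/-!
Decidable facts in the permutation model of the two-local subgroup that drive the choice of the
generator `h` of the involution centraliser.
-/

set_option autoImplicit false

namespace CfsgLib.Spor.HSLocal.HEltD

open MModel

/-- conjugate by `b` -/
def conjb (w : List (Fin 7)) : List (Fin 7) := [2, 1] ++ w ++ [1, 2]

/-- the powers of `e` -/
def ePow : List (List (Fin 7)) := [[], [5], [5, 5], [6]]

/-- `f` -/
def wF : List (Fin 7) := [2, 1, 0, 5, 0, 1, 2, 0, 6, 0]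

/-- `g` -/
def wG : List (Fin 7) := conjb wF

/-- the two possible fourth generators of `O₂(H)` -/
def rrs : List (List (Fin 7)) := [[4], [4] ++ wF]

/-- generators of `O₂(H)` -/
def gens5 (rr : List (Fin 7)) : List (List (Fin 7)) := [[5], wV, wVb, rr, conjb rr]

/-- words for the 64 elements of `O₂(H)` -/
def rList (rr : List (Fin 7)) : List (List (Fin 7)) :=
  ePow.flatMap fun x => [[], wV].flatMap fun y => [[], wVb].flatMap fun z =>
    [[], rr].flatMap fun u => [[], conjb rr].map fun u' => x ++ y ++ z ++ u ++ u'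

/-- the second candidate for the image of `v` -/
def wW2 : List (Fin 7) := [4, 5, 5] ++ wV

/-- the conditions on the image of `v` under `h` -/
noncomputable def cond (y : List (Fin 7)) : Bool :=
  wid (y ++ y) && wid (y ++ conjb y ++ conjb (conjb y)) &&
    weq (wV ++ conjb y ++ wV ++ conjb y) (y ++ wVb ++ y ++ wVb) &&
    weq ([1] ++ y ++ [1]) y && vList.all fun z => !(weq y z)

theorem rList_length : ∀ rr ∈ rrs, (rList rr).length = 64 := by decide +kernel

theorem rList_distinct : ∀ rr ∈ rrs, ((List.range 64).all fun i => (List.range 64).all fun j =>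
    (i <= j : Bool) || !(weq ((rList rr).getD i []) ((rList rr).getD j []))) = true := by
  decide +kernel

theorem rList_sylow : ∀ rr ∈ rrs, ((rList rr).all fun y =>
    !(wid (wB ++ y ++ (wB ++ y) ++ (wB ++ y))) ||
      (rList rr).any fun p => weq (p ++ wB ++ winv p) (wB ++ y)) = true := by
  decide +kernel

theorem rList_comm_b : ∀ rr ∈ rrs, ((rList rr).all fun y =>
    !(weq (y ++ wB) (wB ++ y)) || ePow.any fun z => weq y z) = true := by
  decide +kernel

theorem rList_comm_e : ∀ rr ∈ rrs, ((rList rr).all fun y => weq (y ++ [5]) ([5] ++ y)) = true := by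
  decide +kernel

theorem rList_central : ∀ rr ∈ rrs, ((rList rr).all fun y =>
    !((gens5 rr).all fun z => weq (y ++ z) (z ++ y)) || ePow.any fun z => weq y z) = true := by
  decide +kernel

theorem rList_avoid : ∀ rr ∈ rrs, ((rList rr).all fun y =>
    !(weq wB y) && !(weq wG y) && !(weq [1, 3] y)) = true := by
  decide +kernel

theorem rList_sq : ∀ rr ∈ rrs, ((rList rr).any fun y => weq (wG ++ wG) y) = true := by
  decide +kernel

theorem cand : ∀ rr ∈ rrs, ((rList rr).all fun y =>
    !(cond y) || (rr == [4] && (weq y [4] || weq y wW2))) = true := by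
  decide +kernel

theorem facts : (wid (wG ++ conjb wG ++ winv wG ++ winv (conjb wG)) &&
    wid (wG ++ conjb wG ++ conjb (conjb wG)) && weq ([1] ++ wB ++ [1]) [2, 1] &&
    weq [1, 5, 1] [6] && weq [3, 5, 3] [6] && weq (wV ++ [5]) ([5] ++ wV) &&
    weq ([4, 5]) ([5, 4]) && weq ([1] ++ wV ++ [1]) wV && !(wid [5, 5]) &&
    weq [5, 5, 5, 5] [] && weq (wV ++ conjb wV ++ conjb (conjb wV)) []) = true := by
  decide +kernel

/-- the new `a` -/
def wA' : List (Fin 7) := [0, 5] ++ wG

/-- `gs` of a word -/
def gsw (A : List (Fin 7)) : List (Fin 7) :=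
  A ++ wB ++ A ++ wB ++ A ++ [2, 1] ++ A ++ wB ++ A ++ wB ++ A ++ [2, 1]

/-- `a e a` of a word -/
def eew (A : List (Fin 7)) : List (Fin 7) := A ++ [5] ++ A

/-- `gf` of a word -/
def gfw (A : List (Fin 7)) : List (Fin 7) := [2, 1] ++ eew A ++ wB ++ winv (eew A)

/-- `gw` of a word -/
def gww (A : List (Fin 7)) : List (Fin 7) :=
  [2, 1] ++ A ++ wB ++ A ++ wB ++ A ++ [2, 1] ++ A ++ [2, 1] ++ A ++ wB

/-- the letters for the new `a` -/
def subA : Fin 7 → List (Fin 7) := ![wA', [1], [2], [3], wW2, [5], [6]]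

theorem shift_facts : (wid (wA' ++ wA') && weq (gsw wA') [1] && weq (gfw wA') wF &&
    weq (gww wA') wW2 && weq ([4]) (wW2 ++ winv ([5, 5] ++ wV)) &&
    Data.mRels.all fun r => wid (r.flatMap subA)) = true := by
  decide +kernel

/-- `e, e⁻¹, v, v^b, w, w^b, b, b⁻¹` -/
def g8 : Fin 8 → List (Fin 7) :=
  ![[5], [6], wV, wVb, [4], conjb [4], wB, [2, 1]]

/-- their conjugates by `h` -/
def g8h : Fin 8 → List (Fin 7) :=
  ![[6], [5], [4], conjb [4], wV, wVb, wB, [2, 1]]

/-- a letter of `Data.hBase` with `h` as the eighth letter -/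
def expand : Fin 5 → List (Fin 8) := ![[7], [7, 5], [1], [2], [3]]

/-- lift a word in seven letters -/
def up (w : List (Fin 7)) : List (Fin 8) := w.map Fin.castSucc

/-- one relation checked against its data -/
noncomputable def okRel (r : List (Fin 5))
    (c : ℕ × List (List (Fin 7) × List (Fin 8) × List (Fin 7))) : Bool :=
  let L := r.flatMap expand
  let L' := L.drop c.1 ++ L.take c.1
  match c.2 with
  | [] => (L.all fun z => z.val < 7) &&
      wid (L.map fun z => if h : z.val < 7 then (⟨z.val, h⟩ : Fin 7) else 0)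
  | ps => (L' == ps.flatMap fun p => 7 :: up p.1 ++ 7 :: up p.2.2) &&
      (ps.all fun p => weq p.1 (p.2.1.flatMap g8)) &&
      wid (ps.flatMap fun p => p.2.1.flatMap g8h ++ p.2.2)

theorem hBase_ok : hCert.length = Data.hBase.length ∧
    ((Data.hBase.zip hCert).all fun p => okRel p.1 p.2) = true := by
  decide +kernel

end CfsgLib.Spor.HSLocal.HEltD
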