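import Cfsg.Agent.Lib.Spor.HSLocal.MModel
import Cfsg.Agent.Lib.Spor.HSLocal.HEltData

/-!
The action of `h x` on `O₂(H)` in canonical position.
-/

set_option autoImplicit false

namespace CfsgLib.Spor.HSLocal.HEltD

open MModel

/-- `e, v, v^b, w, w^b` -/
def g5 : Fin 5 → List (Fin 7) := ![[5], wV, wVb, [4], conjb [4]]

/-- their conjugates by `x` in these generators -/
def xImg : Fin 5 → List (Fin 5) := ![[0, 0, 0], [1], [1, 2], [0, 0, 1, 3], [0, 2, 3, 4]]

/-- their conjugates by `h` in these generators -/
def cImg : Fin 5 → List (Fin 5) := ![[0, 0, 0], [3], [4], [1], [2]]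

/-- their conjugates by `h x` in these generators -/
def dImg (k : Fin 5) : List (Fin 5) := (xImg k).flatMap cImg

theorem xImg_ok : ((List.finRange 5).all fun k =>
    weq ([3] ++ g5 k ++ [3]) ((xImg k).flatMap g5)) = true := by
  decide +kernel

theorem dImg_three : ((List.finRange 5).all fun k =>
    weq ((((dImg k).flatMap dImg).flatMap dImg).flatMap g5) (g5 k)) = true := by
  decide +kernel

end CfsgLib.Spor.HSLocal.HEltD
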