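import Cfsg.Agent.Lib.Spor.HSLocal.Defs

/-!
An element of `H` outside `M` in canonical position up to the two parameters `i, k`.
-/

set_option autoImplicit false

namespace CfsgLib.Spor.HSLocal

universe u

variable {G : Type u} [Group G]

/-- `h` with `(h s)² = eⁱ` and `(h x)³ = eᵏ` -/
structure HPre (S : Setup G) (a b e h : G) (i k : ℕ) : Prop where
  mem : h ∈ S.H
  not_mem : h ∉ S.M
  sq : h * h = 1
  comm_b : h * b = b * h
  inv_e : h * e * h = e⁻¹
  conj_v : h * gv a b e * h = gw a b
  hs : h * gs a b * (h * gs a b) = e ^ i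
  hx : h * gx a b e * (h * gx a b e) * (h * gx a b e) = e ^ k

end CfsgLib.Spor.HSLocal
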