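import Cfsg.Agent.Lib.Spor.HSLocal.HEltImage
import Cfsg.Agent.Lib.Spor.HSLocal.HEltChooseData
import Cfsg.Agent.Lib.Spor.HSLocal.HEltPre

/-!
The position of `O₂(H)` and of the image of `v` under `h`, and the resulting canonical element.
-/

set_option autoImplicit false

namespace CfsgLib.Spor.HSLocal.HEltI

open MModel HEltD

universe u

variable {G : Type u} [Group G] [Finite G] {S : Setup G} {a b e : G}

omit [Finite G] in
theorem conj_ev {n : ℕ} (f : Fin n → G) (z : G) (σ : Fin n → List (Fin n))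
    (hσ : ∀ i, z * f i * z⁻¹ = ev f (σ i)) :
    ∀ l : List (Fin n), z * ev f l * z⁻¹ = ev f (l.flatMap σ)
  | [] => by simp [ev]
  | x :: l => by
    rw [List.flatMap_cons, ev_append, ev_cons, ← hσ, ← conj_ev f z σ hσ l]
    group

theorem e_mem_R (P : MPre S a b e) {rr : List (Fin 7)} (hR : IsR S a b e rr) : e ∈ S.R := by
  rw [hR]; exact Subgroup.subset_closure (by simp)

theorem comm_e_R (L : Local S) (P : MPre S a b e) {rr : List (Fin 7)} (hrr : rr ∈ rrs)
    (hR : IsR S a b e rr) {y : G} (hy : y ∈ S.R) : y * e = e * y := by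
  obtain ⟨w, hw, rfl⟩ := rList_cover L P hrr hR y hy
  have h1 := (ev_eq_iff L P _ _).2 (List.all_eq_true.1 (rList_comm_e rr hrr) w hw)
  rw [ev_append, ev_append] at h1
  simpa [ev, mlet] using h1

theorem e_pow_four (L : Local S) (P : MPre S a b e) : e ^ 4 = 1 := by
  have := (ev_eq_iff L P [5, 5, 5, 5] []).2 (by decide +kernel)
  simpa [ev, mlet, pow_succ, mul_assoc] using this

theorem ev_ePow (L : Local S) (P : MPre S a b e) {z : List (Fin 7)} (hz : z ∈ ePow) :
    ∃ i : ℕ, ev (mlet a b e) z = e ^ i := by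
  simp only [ePow, List.mem_cons, List.not_mem_nil, or_false] at hz
  rcases hz with rfl | rfl | rfl | rfl
  · exact ⟨0, by simp [ev]⟩
  · exact ⟨1, by simp [ev, mlet]⟩
  · exact ⟨2, by simp [ev, mlet, pow_two]⟩
  · refine ⟨3, ?_⟩
    have h4 := e_pow_four L P
    have : e⁻¹ = e ^ 3 := inv_eq_of_mul_eq_one_right (by rw [← pow_succ']; exact h4)
    simpa [ev, mlet] using this

/-- what `Pre0` and the position of `O₂(H)` give -/
structure Pre1 (S : Setup G) (a b e h : G) (rr : List (Fin 7)) : Prop extends Pre0 S a b e h where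
  rr_mem : rr ∈ rrs
  isR : IsR S a b e rr

theorem Pre1.hs_pow (L : Local S) (P : MPre S a b e) {rr : List (Fin 7)} {h : G}
    (K : Pre1 S a b e h rr) : ∃ i, h * gs a b * h⁻¹ * gs a b = e ^ i := by
  set s := gs a b
  have hsb : s * b * s = b⁻¹ := by
    have := P.q_sq
    rw [gq] at this
    refine (inv_eq_of_mul_eq_one_right ?_).symm
    calc b * (s * b * s) = s⁻¹ * (s * b * (s * b)) * s := by group
      _ = 1 := by rw [this, mul_one, inv_mul_cancel]
  have hsi : s⁻¹ = s := inv_eq_of_mul_eq_one_right P.s_sq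
  obtain ⟨w, hw, hwe⟩ := rList_cover L P K.rr_mem K.isR _ K.hs
  have hcomm : h * s * h⁻¹ * s * b = b * (h * s * h⁻¹ * s) := by
    have hb' : h⁻¹ * b⁻¹ = b⁻¹ * h⁻¹ := by rw [← mul_inv_rev, ← mul_inv_rev, K.comm_b]
    have h1 : s * b = b⁻¹ * s := by
      rw [← hsb, mul_assoc (s * b), P.s_sq, mul_one]
    have h2 : s * b⁻¹ = b * s := by
      rw [← hsb, ← mul_assoc, ← mul_assoc, P.s_sq, one_mul]
    calc h * s * h⁻¹ * s * b = h * s * (h⁻¹ * b⁻¹) * s := by rw [mul_assoc _ s b, h1]; group
      _ = h * (s * b⁻¹) * h⁻¹ * s := by rw [hb']; group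
      _ = h * b * s * h⁻¹ * s := by rw [h2]; group
      _ = b * (h * s * h⁻¹ * s) := by rw [K.comm_b]; group
  have h7 : weq (w ++ wB) (wB ++ w) = true := by
    rw [← ev_eq_iff L P, ev_append, ev_append, ev_wB P, hwe, hcomm]
  have h6 := List.all_eq_true.1 (rList_comm_b rr K.rr_mem) w hw
  rw [h7, Bool.not_true, Bool.false_or, List.any_eq_true] at h6
  obtain ⟨q, hq, hq'⟩ := h6
  obtain ⟨i, hi⟩ := ev_ePow L P hq
  exact ⟨i, by rw [← hwe, (ev_eq_iff L P _ _).2 hq', hi]⟩

theorem Pre1.conj_v_cases (L : Local S) (P : MPre S a b e) {rr : List (Fin 7)} {h : G}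
    (K : Pre1 S a b e h rr) :
    rr = [4] ∧ (h * gv a b e * h⁻¹ = gw a b ∨
      h * gv a b e * h⁻¹ = ev (mlet a b e) wW2) := by
  classical
  set s := gs a b
  set v := gv a b e
  have evEq : ∀ {u w : List (Fin 7)}, weq u w = true →
      ev (mlet a b e) u = ev (mlet a b e) w := fun h => (ev_eq_iff L P _ _).2 h
  obtain ⟨⟨⟨⟨⟨⟨⟨⟨⟨⟨f1, f2⟩, f3⟩, f4⟩, f5⟩, f6⟩, f7⟩, f8⟩, f9⟩, f10⟩, f11⟩ := by
    simpa only [Bool.and_eq_true] using HEltD.facts
  have hvV : v ∈ S.V := by rw [P.V_eq]; exact Subgroup.subset_closure (by simp [v])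
  have hvbV : b⁻¹ * v * b ∈ S.V := by rw [P.V_eq]; exact Subgroup.subset_closure (by simp [v])
  have hvR : v ∈ S.R := S.hVR hvV
  have hrR : h * v * h⁻¹ ∈ S.R := R_conj S K.mem hvR
  obtain ⟨w, hw, hwe⟩ := rList_cover L P K.rr_mem K.isR _ hrR
  set r := h * v * h⁻¹ with hr
  have hv2 : v * v = 1 := by rw [← pow_two]; exact S.hVexp v hvV
  have hvinv : v⁻¹ = v := inv_eq_of_mul_eq_one_right hv2
  have hCb : h * b * h⁻¹ = b := by rw [K.comm_b, mul_inv_cancel_right]
  have hCt : h * S.t * h⁻¹ = S.t := by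
    have := K.mem
    rw [S.hH, Subgroup.mem_centralizer_singleton_iff] at this
    rw [this, mul_inv_cancel_right]
  have hCr : h * r * h⁻¹ = v := by
    show h * (h * v * h⁻¹) * h⁻¹ = v
    rw [show h * (h * v * h⁻¹) * h⁻¹ = h * h * v * (h * h)⁻¹ by group]
    rcases K.sq with h1 | h1
    · rw [h1]; group
    · rw [h1, S.hVcomm.is_comm.comm ⟨S.t, L.t_mem⟩ ⟨v, hvV⟩ |> congrArg Subtype.val
        |> fun hh => (show S.t * v = v * S.t from hh), mul_inv_cancel_right]
  have hrr' : r * r = 1 := by
    show h * v * h⁻¹ * (h * v * h⁻¹) = 1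
    calc h * v * h⁻¹ * (h * v * h⁻¹) = h * (v * v) * h⁻¹ := by group
      _ = 1 := by rw [hv2, mul_one, mul_inv_cancel]
  have hrinv : r⁻¹ = r := inv_eq_of_mul_eq_one_right hrr'
  have hCvb : h * (b⁻¹ * v * b) * h⁻¹ = b⁻¹ * r * b := by
    show _ = b⁻¹ * (h * v * h⁻¹) * b
    calc h * (b⁻¹ * v * b) * h⁻¹ = (h * b * h⁻¹)⁻¹ * (h * v * h⁻¹) * (h * b * h⁻¹) := by group
      _ = _ := by rw [hCb]
  have hcond : HEltD.cond w = true := by
    simp only [HEltD.cond, Bool.and_eq_true, List.all_eq_true, Bool.not_eq_true']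
    refine ⟨⟨⟨⟨?_, ?_⟩, ?_⟩, ?_⟩, ?_⟩
    · rw [← ev_eq_one_iff L P, ev_append, hwe, hrr']
    · rw [← ev_eq_one_iff L P]
      simp only [ev_append, ev_conjb P, hwe]
      have h0 := evEq f11
      simp only [ev_append, ev_conjb P, ev_wV P] at h0
      have h1 : v * (b⁻¹ * v * b) * (b⁻¹ * (b⁻¹ * v * b) * b) = 1 := by simpa [ev] using h0
      calc r * (b⁻¹ * r * b) * (b⁻¹ * (b⁻¹ * r * b) * b)
          = h * (v * (b⁻¹ * v * b) * (b⁻¹ * (b⁻¹ * v * b) * b)) * h⁻¹ := by
            rw [← hCvb]
            calc h * v * h⁻¹ * (h * (b⁻¹ * v * b) * h⁻¹) *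
                  (b⁻¹ * (h * (b⁻¹ * v * b) * h⁻¹) * b)
                = h * v * (b⁻¹ * v * b) * h⁻¹ * ((h * b * h⁻¹)⁻¹ * (h * (b⁻¹ * v * b) * h⁻¹) *
                  (h * b * h⁻¹)) := by rw [hCb]; group
              _ = _ := by group
        _ = 1 := by rw [h1, mul_one, mul_inv_cancel]
    · rw [← ev_eq_iff L P]
      simp only [ev_append, ev_conjb P, ev_wV P, ev_wVb P, hwe]
      set rb := b⁻¹ * r * b with hrb
      have hrbR : rb ∈ S.R := hCvb ▸ R_conj S K.mem (S.hVR hvbV)
      have hrbinv : rb⁻¹ = rb := by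
        rw [hrb, mul_inv_rev, mul_inv_rev, inv_inv, hrinv]; group
      have hz := L.comm_R v hvR rb hrbR
      rw [hvinv, hrbinv] at hz
      have hfix : h * (v * rb * v * rb) * h⁻¹ = v * rb * v * rb := by
        rcases hz with hz | hz
        · rw [hz, mul_one, mul_inv_cancel]
        · rw [hz, hCt]
      have hCrb : h * rb * h⁻¹ = b⁻¹ * v * b := by
        calc h * rb * h⁻¹ = (h * b * h⁻¹)⁻¹ * (h * r * h⁻¹) * (h * b * h⁻¹) := by rw [hrb]; group
          _ = _ := by rw [hCb, hCr]
      calc v * rb * v * rb = h * (v * rb * v * rb) * h⁻¹ := hfix.symm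
        _ = r * (h * rb * h⁻¹) * r * (h * rb * h⁻¹) := by rw [hr]; group
        _ = r * (b⁻¹ * v * b) * r * (b⁻¹ * v * b) := by rw [hCrb]
    · rw [← ev_eq_iff L P]
      simp only [ev_append, hwe]
      have h1 : ev (mlet a b e) [1] = s := by simp [ev, mlet, s]
      rw [h1]
      obtain ⟨i, hi⟩ := K.hs_pow L P
      have hsRs : s * r * s ∈ S.R := by
        have hsH : s ∈ S.H := by
          have : s ∈ S.H ⊓ S.M := by rw [P.meet]; exact Subgroup.subset_closure (by simp [s])
          exact this.1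
        have := R_conj S hsH hrR
        rwa [inv_eq_of_mul_eq_one_right P.s_sq] at this
      have hCs : h * s * h⁻¹ = e ^ i * s := by
        rw [← hi, mul_assoc _ s s, P.s_sq, mul_one]
      have hv8 : s * v * s = v := by
        have h0 := evEq f8
        rw [ev_append, ev_append, ev_wV P, h1] at h0
        exact h0
      have hsi : s⁻¹ = s := inv_eq_of_mul_eq_one_right P.s_sq
      have hcm : s * r * s * e ^ i = e ^ i * (s * r * s) :=
        (Commute.pow_right (show Commute (s * r * s) e from comm_e_R L P K.rr_mem K.isR hsRs) i)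
      symm
      calc r = h * (s * v * s) * h⁻¹ := by rw [hv8]
        _ = h * s * h⁻¹ * (h * v * h⁻¹) * (h * s⁻¹ * h⁻¹) := by rw [hsi]; group
        _ = e ^ i * s * r * (h * s * h⁻¹)⁻¹ := by rw [← hCs, hr]; group
        _ = e ^ i * s * r * (e ^ i * s)⁻¹ := by rw [hCs]
        _ = e ^ i * (s * r * s) * (e ^ i)⁻¹ := by rw [mul_inv_rev, hsi]; group
        _ = s * r * s := by rw [← hcm, mul_inv_cancel_right]
    · intro z hz
      by_contra hne
      rw [Bool.not_eq_false] at hne
      have hrV : r ∈ S.V := by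
        rw [← hwe, evEq hne]
        exact vList_mem P z hz
      have hrbV : b⁻¹ * r * b ∈ S.V := by
        have hbM := inv_mem P.b_mem
        rw [S.hM, Subgroup.mem_normalizer_iff] at hbM
        simpa using (hbM r).1 hrV
      apply K.not_mem
      have hsub : ∀ z ∈ S.V, h * z * h⁻¹ ∈ S.V := by
        intro z hz
        rw [P.V_eq] at hz
        induction hz using Subgroup.closure_induction with
        | mem z hz =>
          rcases hz with rfl | rfl | rfl
          · rw [← P.t_eq, hCt]; exact L.t_mem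
          · exact hrV
          · rw [hCvb]; exact hrbV
        | one => simp
        | mul x y _ _ hx hy =>
          rw [show h * (x * y) * h⁻¹ = h * x * h⁻¹ * (h * y * h⁻¹) by group]
          exact mul_mem hx hy
        | inv x _ hx =>
          rw [show h * x⁻¹ * h⁻¹ = (h * x * h⁻¹)⁻¹ by group]
          exact inv_mem hx
      rw [S.hM, Subgroup.mem_normalizer_iff]
      intro z
      refine ⟨hsub z, fun hz => ?_⟩
      have h2 := hsub _ hz
      rcases K.sq with h3 | h3
      · rwa [show h * (h * z * h⁻¹) * h⁻¹ = h * h * z * (h * h)⁻¹ by group, h3, one_mul, inv_one,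
          mul_one] at h2
      · rw [show h * (h * z * h⁻¹) * h⁻¹ = h * h * z * (h * h)⁻¹ by group, h3] at h2
        have := mul_mem (mul_mem (inv_mem L.t_mem) h2) L.t_mem
        simpa [mul_assoc] using this
  have h2 := List.all_eq_true.1 (cand rr K.rr_mem) w hw
  rw [hcond, Bool.not_true, Bool.false_or, Bool.and_eq_true, Bool.or_eq_true, beq_iff_eq] at h2
  obtain ⟨h3, h4⟩ := h2
  refine ⟨h3, ?_⟩
  rcases h4 with h4 | h4
  · exact Or.inl (by rw [← hwe, evEq h4]; simp [ev, mlet])
  · exact Or.inr (by rw [← hwe, evEq h4])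

/-- moving `a` inside its coset of `O₂(M)` exchanges the two candidates -/
theorem shift_a (L : Local S) (P : MPre S a b e) (hR : IsR S a b e [4]) :
    ∃ a' : G, MPre S a' b e ∧ IsR S a' b e [4] ∧ gs a' b = gs a b ∧ gx a' b e = gx a b e ∧
      gv a' b e = gv a b e ∧ gw a' b = ev (mlet a b e) wW2 := by
  obtain ⟨⟨⟨⟨⟨g1, g2⟩, g3⟩, g4⟩, g5'⟩, g6'⟩ := by
    simpa only [Bool.and_eq_true] using HEltD.shift_facts
  have evEq : ∀ {u w : List (Fin 7)}, weq u w = true →
      ev (mlet a b e) u = ev (mlet a b e) w := fun h => (ev_eq_iff L P _ _).2 h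
  refine ⟨ev (mlet a b e) wA', ?_⟩
  set a' := ev (mlet a b e) wA' with ha'
  have ha : a' = a * e * gg a b e := by
    rw [ha', wA', ev_append, ev_wG P]
    simp [ev, mlet]
  have hsq : a' * a' = 1 := by
    rw [ha', ← ev_append, ev_eq_one_iff L P]
    exact g1
  have hs : gs a' b = gs a b := by
    have h1 := evEq g2
    simp only [gsw, ev_append, ev_wB P, ev_binv P] at h1
    rw [show ev (mlet a b e) [1] = gs a b by simp [ev, mlet]] at h1
    exact h1
  have hf : gf a' b e = gf a b e := by
    have h1 := evEq g3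
    simp only [gfw, eew, ev_append, ev_winv P, ev_wB P, ev_binv P, ev_wF P] at h1
    rw [show ev (mlet a b e) [5] = e by simp [ev, mlet]] at h1
    exact h1
  have hw : gw a' b = ev (mlet a b e) wW2 := by
    have h1 := evEq g4
    simp only [gww, ev_append, ev_wB P, ev_binv P] at h1
    exact h1
  have hg : gg a' b e = gg a b e := by rw [gg, gg, hf]
  have hx : gx a' b e = gx a b e := by rw [gx, gx, hg, hs]
  have hv : gv a' b e = gv a b e := by rw [gv, gv, hf]
  have hq : gq a' b = gq a b := by rw [gq, gq, hs]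
  have hwe' : gw a' b = gw a b * (e * e) * gv a b e := by
    rw [hw, wW2, ev_append, ev_wV P]
    simp [ev, mlet, mul_assoc]
  have hl : ∀ x, ev (mlet a b e) (subA x) = mlet a' b e x := by
    intro x
    fin_cases x
    · exact rfl
    · simp [subA, ev, mlet, hs]
    · simp [subA, ev, mlet, hq]
    · simp [subA, ev, mlet, hx]
    · show ev (mlet a b e) wW2 = gw a' b
      rw [hw]
    · simp [subA, ev, mlet]
    · simp [subA, ev, mlet]
  have hgA : gg a b e ∈ S.A := by rw [P.A_eq]; exact Subgroup.subset_closure (by simp)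
  have hgM : gg a b e ∈ S.M := by
    obtain ⟨p, -, hp⟩ := hgA
    rw [← hp]; exact p.2
  have hR' : IsR S a' b e [4] := by
    unfold IsR at hR ⊢
    simp only [ev, List.map_cons, List.map_nil, List.prod_cons, List.prod_nil, mul_one] at hR ⊢
    rw [show mlet a' b e 4 = gw a' b from rfl, hv, hwe']
    rw [show mlet a b e 4 = gw a b from rfl] at hR
    rw [hR]
    apply le_antisymm <;> rw [Subgroup.closure_le]
    · set K := Subgroup.closure ({e, gv a b e, b⁻¹ * gv a b e * b, gw a b * (e * e) * gv a b e,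
        b⁻¹ * (gw a b * (e * e) * gv a b e) * b} : Set G)
      have h1 : e ∈ K := Subgroup.subset_closure (by simp)
      have h2 : gv a b e ∈ K := Subgroup.subset_closure (by simp)
      have h3 : b⁻¹ * gv a b e * b ∈ K := Subgroup.subset_closure (by simp)
      have h4 : gw a b * (e * e) * gv a b e ∈ K := Subgroup.subset_closure (by simp)
      have h5 : b⁻¹ * (gw a b * (e * e) * gv a b e) * b ∈ K := Subgroup.subset_closure (by simp)
      rintro z (rfl | rfl | rfl | rfl | rfl)
      · exact h1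
      · exact h2
      · exact h3
      · have := mul_mem (mul_mem h4 (inv_mem h2)) (inv_mem (mul_mem h1 h1))
        simpa [mul_assoc] using this
      · have := mul_mem (mul_mem h5 (inv_mem h3)) (inv_mem (mul_mem h1 h1))
        have hbe : e * b = b * e := P.comm_eb
        have heq : b⁻¹ * (gw a b * (e * e) * gv a b e) * b * (b⁻¹ * gv a b e * b)⁻¹ * (e * e)⁻¹ =
            b⁻¹ * gw a b * b := by
          calc _ = b⁻¹ * gw a b * (e * e) * b * (e * e)⁻¹ := by group
            _ = b⁻¹ * gw a b * ((e * e) * b) * (e * e)⁻¹ := by group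
            _ = b⁻¹ * gw a b * (b * (e * e)) * (e * e)⁻¹ := by
              rw [mul_assoc e e b, hbe, ← mul_assoc e b e, hbe, mul_assoc b e e]
            _ = _ := by group
        rwa [heq] at this
    · set K := Subgroup.closure ({e, gv a b e, b⁻¹ * gv a b e * b, gw a b,
        b⁻¹ * gw a b * b} : Set G)
      have h1 : e ∈ K := Subgroup.subset_closure (by simp)
      have h2 : gv a b e ∈ K := Subgroup.subset_closure (by simp)
      have h3 : b⁻¹ * gv a b e * b ∈ K := Subgroup.subset_closure (by simp)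
      have h4 : gw a b ∈ K := Subgroup.subset_closure (by simp)
      have h5 : b⁻¹ * gw a b * b ∈ K := Subgroup.subset_closure (by simp)
      rintro z (rfl | rfl | rfl | rfl | rfl)
      · exact h1
      · exact h2
      · exact h3
      · exact mul_mem (mul_mem h4 (mul_mem h1 h1)) h2
      · have hee : b⁻¹ * (e * e) * b = e * e := by
          have hbe : e * b = b * e := P.comm_eb
          rw [mul_assoc, mul_assoc e e b, hbe, ← mul_assoc e b e, hbe, mul_assoc b e e,
            inv_mul_cancel_left]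
        rw [show b⁻¹ * (gw a b * (e * e) * gv a b e) * b =
          b⁻¹ * gw a b * b * (b⁻¹ * (e * e) * b) * (b⁻¹ * gv a b e * b) by group, hee]
        exact mul_mem (mul_mem h5 (mul_mem h1 h1)) h3
  have hgen : S.M = Subgroup.closure ({a', b, e} : Set G) := by
    apply le_antisymm
    · rw [P.gen, Subgroup.closure_le]
      set K := Subgroup.closure ({a', b, e} : Set G)
      have ka : a' ∈ K := Subgroup.subset_closure (by simp)
      have kb : b ∈ K := Subgroup.subset_closure (by simp)
      have ke : e ∈ K := Subgroup.subset_closure (by simp)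
      have kaea : a' * e * a' ∈ K := mul_mem (mul_mem ka ke) ka
      have kf : gf a' b e ∈ K := mul_mem (mul_mem (mul_mem (inv_mem kb) kaea) kb) (inv_mem kaea)
      have kg : gg a b e ∈ K := hg ▸ mul_mem (mul_mem (inv_mem kb) kf) kb
      rintro z (rfl | rfl | rfl)
      · have := mul_mem (mul_mem ka (inv_mem kg)) (inv_mem ke)
        rw [ha] at this
        simpa [mul_assoc] using this
      · exact kb
      · exact ke
    · rw [Subgroup.closure_le]
      rintro z (rfl | rfl | rfl)
      · rw [ha]; exact mul_mem (mul_mem P.a_mem P.e_mem) hgM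
      · exact P.b_mem
      · exact P.e_mem
  refine ⟨?_, hR', hs, hx, hv, hw⟩
  exact
    { a_mem := by rw [ha]; exact mul_mem (mul_mem P.a_mem P.e_mem) hgM
      b_mem := P.b_mem
      e_mem := P.e_mem
      a_sq := hsq
      b_cube := P.b_cube
      b_ne := P.b_ne
      t_eq := P.t_eq
      e_mem_Cy := P.e_mem_Cy
      comm_eb := P.comm_eb
      s_sq := by rw [hs]; exact P.s_sq
      q_sq := by rw [hq]; exact P.q_sq
      x_sq := by rw [hx]; exact P.x_sq
      w_sq := by
        rw [hw, ← ev_append, ev_eq_one_iff L P]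
        decide +kernel
      v_eq := by rw [hv, hs, hx]; exact P.v_eq
      gen := hgen
      rels := fun r hr => by
        rw [← ev_flatMap subA _ hl, ev_eq_one_iff L P]
        exact List.all_eq_true.1 g6' r hr
      A_eq := by rw [hf, hg]; exact P.A_eq
      V_eq := by rw [hv]; exact P.V_eq
      meet := by
        rw [P.meet, hs, hq, hx, hwe']
        have hv' : gv a b e = gs a b * gx a b e * (gs a b * gx a b e) := P.v_eq
        apply le_antisymm <;> rw [Subgroup.closure_le]
        · set K := Subgroup.closure ({gs a b, gq a b, gx a b e, e,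
            gw a b * (e * e) * gv a b e} : Set G)
          have h1 : gs a b ∈ K := Subgroup.subset_closure (by simp)
          have h3 : gx a b e ∈ K := Subgroup.subset_closure (by simp)
          have h4 : e ∈ K := Subgroup.subset_closure (by simp)
          have h2 : gv a b e ∈ K := hv' ▸ mul_mem (mul_mem h1 h3) (mul_mem h1 h3)
          have h5 : gw a b * (e * e) * gv a b e ∈ K := Subgroup.subset_closure (by simp)
          rintro z (rfl | rfl | rfl | rfl | rfl)
          · exact h1
          · exact Subgroup.subset_closure (by simp)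
          · exact h3
          · exact h4
          · have := mul_mem (mul_mem h5 (inv_mem h2)) (inv_mem (mul_mem h4 h4))
            simpa [mul_assoc] using this
        · set K := Subgroup.closure ({gs a b, gq a b, gx a b e, e, gw a b} : Set G)
          have h1 : gs a b ∈ K := Subgroup.subset_closure (by simp)
          have h3 : gx a b e ∈ K := Subgroup.subset_closure (by simp)
          have h4 : e ∈ K := Subgroup.subset_closure (by simp)
          have h2 : gv a b e ∈ K := hv' ▸ mul_mem (mul_mem h1 h3) (mul_mem h1 h3)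
          rintro z (rfl | rfl | rfl | rfl | rfl)
          · exact h1
          · exact Subgroup.subset_closure (by simp)
          · exact h3
          · exact h4
          · exact mul_mem (mul_mem (Subgroup.subset_closure (by simp)) (mul_mem h4 h4)) h2
      a_not := by
        intro h1
        apply P.a_not
        have heH : e ∈ S.H := by
          have : e ∈ S.H ⊓ S.M := by rw [P.meet]; exact Subgroup.subset_closure (by simp)
          exact this.1
        have hgH : gg a b e ∈ S.H := by
          rw [S.hH, Subgroup.mem_centralizer_singleton_iff]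
          exact L.A_comm _ hgA _ (L.V_le_A L.t_mem)
        rw [ha] at h1
        have := mul_mem (mul_mem h1 (inv_mem hgH)) (inv_mem heH)
        simpa [mul_assoc] using this }

theorem hPre_of (L : Local S) (P : MPre S a b e) {h : G} (K : Pre1 S a b e h [4])
    (hv : h * gv a b e * h⁻¹ = gw a b) : ∃ i k, HPre S a b e h i k := by
  classical
  set x := gx a b e
  have evEq : ∀ {u w : List (Fin 7)}, weq u w = true →
      ev (mlet a b e) u = ev (mlet a b e) w := fun h => (ev_eq_iff L P _ _).2 h
  have hxe : x * e * x = e⁻¹ := by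
    have := evEq (show weq [3, 5, 3] [6] = true by decide +kernel)
    simpa [ev, mlet, mul_assoc] using this
  have hx1 : ev (mlet a b e) [3] = x := by simp [ev, mlet, x]
  set f5 : Fin 5 → G := fun k => ev (mlet a b e) (HEltD.g5 k) with hf5
  have hev5 : ∀ l : List (Fin 5), ev (mlet a b e) (l.flatMap HEltD.g5) = ev f5 l :=
    fun l => ev_flatMap HEltD.g5 f5 (fun _ => rfl) l
  have hX : ∀ k, x * f5 k * x⁻¹ = ev f5 (xImg k) := by
    intro k
    have := evEq (List.all_eq_true.1 xImg_ok k (List.mem_finRange k))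
    rw [ev_append, ev_append, hev5, hx1] at this
    rw [inv_eq_of_mul_eq_one_right P.x_sq]
    exact this
  have hCb : h * b * h⁻¹ = b := by rw [K.comm_b, mul_inv_cancel_right]
  have he4 := e_pow_four L P
  have hCe : h * e * h⁻¹ = e * (e * (e * 1)) := by
    rw [K.conj_e]
    refine inv_eq_of_mul_eq_one_right ?_
    simpa [pow_succ, mul_assoc] using he4
  have hvV : gv a b e ∈ S.V := by rw [P.V_eq]; exact Subgroup.subset_closure (by simp)
  have hCw : h * gw a b * h⁻¹ = gv a b e := by
    rw [← hv, show h * (h * gv a b e * h⁻¹) * h⁻¹ = h * h * gv a b e * (h * h)⁻¹ by group]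
    rcases K.sq with h1 | h1
    · rw [h1]; group
    · rw [h1, show S.t * gv a b e = gv a b e * S.t from
        congrArg Subtype.val (S.hVcomm.is_comm.comm ⟨S.t, L.t_mem⟩ ⟨_, hvV⟩), mul_inv_cancel_right]
  have hC : ∀ k, h * f5 k * h⁻¹ = ev f5 (cImg k) := by
    intro k
    have e0 : f5 0 = e := by simp [f5, HEltD.g5, ev, mlet]
    have e1 : f5 1 = gv a b e := ev_wV P
    have e2 : f5 2 = b⁻¹ * gv a b e * b := ev_wVb P
    have e3 : f5 3 = gw a b := by simp [f5, HEltD.g5, ev, mlet]
    have e4 : f5 4 = b⁻¹ * gw a b * b := by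
      show ev (mlet a b e) (conjb [4]) = _
      rw [ev_conjb P]
      simp [ev, mlet]
    have hconjb : ∀ z, h * (b⁻¹ * z * b) * h⁻¹ = b⁻¹ * (h * z * h⁻¹) * b := fun z => by
      calc h * (b⁻¹ * z * b) * h⁻¹ = (h * b * h⁻¹)⁻¹ * (h * z * h⁻¹) * (h * b * h⁻¹) := by group
        _ = _ := by rw [hCb]
    fin_cases k
    · show h * f5 0 * h⁻¹ = f5 0 * (f5 0 * (f5 0 * 1))
      rw [e0]; exact hCe
    · show h * f5 1 * h⁻¹ = f5 3 * 1
      rw [mul_one, e1, e3]; exact hv
    · show h * f5 2 * h⁻¹ = f5 4 * 1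
      rw [mul_one, e2, e4, hconjb, hv]
    · show h * f5 3 * h⁻¹ = f5 1 * 1
      rw [mul_one, e1, e3]; exact hCw
    · show h * f5 4 * h⁻¹ = f5 2 * 1
      rw [mul_one, e2, e4, hconjb, hCw]
  have hD : ∀ k, h * x * f5 k * (h * x)⁻¹ = ev f5 (dImg k) := by
    intro k
    rw [show h * x * f5 k * (h * x)⁻¹ = h * (x * f5 k * x⁻¹) * h⁻¹ by group, hX,
      conj_ev f5 h cImg hC]
    rfl
  set ρ := h * x * (h * x) * (h * x) with hρ
  have hcent : ∀ k, ρ * f5 k * ρ⁻¹ = f5 k := by
    intro k
    have := evEq (List.all_eq_true.1 dImg_three k (List.mem_finRange k))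
    rw [hev5, ← conj_ev f5 (h * x) dImg hD, ← conj_ev f5 (h * x) dImg hD, ← hD] at this
    rw [show ev (mlet a b e) (HEltD.g5 k) = f5 k from rfl] at this
    rw [hρ]
    refine Eq.trans ?_ this
    group
  obtain ⟨w, hw, hwe⟩ := rList_cover L P K.rr_mem K.isR ρ K.hx
  have hc : ((gens5 [4]).all fun u => weq (w ++ u) (u ++ w)) = true := by
    refine List.all_eq_true.2 fun u hu => ?_
    have hu' : ∃ k, u = HEltD.g5 k := by
      simp only [gens5, List.mem_cons, List.not_mem_nil, or_false] at hu
      rcases hu with rfl | rfl | rfl | rfl | rfl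
      exacts [⟨0, rfl⟩, ⟨1, rfl⟩, ⟨2, rfl⟩, ⟨3, rfl⟩, ⟨4, rfl⟩]
    obtain ⟨k, rfl⟩ := hu'
    rw [← ev_eq_iff L P, ev_append, ev_append, hwe]
    show ρ * f5 k = f5 k * ρ
    exact mul_inv_eq_iff_eq_mul.1 (hcent k)
  have h2 := List.all_eq_true.1 (rList_central [4] K.rr_mem) w hw
  rw [hc, Bool.not_true, Bool.false_or, List.any_eq_true] at h2
  obtain ⟨p, hp, hp'⟩ := h2
  obtain ⟨k, hk⟩ := ev_ePow L P hp
  have hρk : ρ = e ^ k := by rw [← hwe, evEq hp', hk]
  have hx2 : x⁻¹ = x := inv_eq_of_mul_eq_one_right P.x_sq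
  have hsq : h * h = 1 := by
    rcases K.sq with h1 | h1
    · exact h1
    exfalso
    have ht2 : S.t * S.t = 1 := by
      have := pow_orderOf_eq_one S.t
      rwa [S.ht, pow_two] at this
    have hti : S.t⁻¹ = S.t := inv_eq_of_mul_eq_one_right ht2
    have hinv : (h * x)⁻¹ = x * h * S.t := by
      rw [mul_inv_rev, hx2, mul_assoc x h S.t]
      congr 1
      refine inv_eq_of_mul_eq_one_right ?_
      rw [← mul_assoc, h1, ht2]
    have hxH : x ∈ S.H := by
      have : x ∈ S.H ⊓ S.M := by rw [P.meet]; exact Subgroup.subset_closure (by simp [x])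
      exact this.1
    have hcomm : x * h * S.t = S.t * (x * h) := by
      have := mul_mem hxH K.mem
      rw [S.hH, Subgroup.mem_centralizer_singleton_iff] at this
      exact this
    have hcT : Commute (x * h) S.t := hcomm
    have hxh : x * ρ * x = ρ⁻¹ * S.t := by
      have h3 : x * ρ * x = (x * h) * (x * h) * (x * h) := by
        rw [hρ]
        calc x * (h * x * (h * x) * (h * x)) * x = x * h * (x * h) * (x * h) * (x * x) := by group
          _ = _ := by rw [P.x_sq, mul_one]
      have h4 : x * h = (h * x)⁻¹ * S.t := by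
        rw [hinv, mul_assoc, ht2, mul_one]
      have hc' : Commute (h * x)⁻¹ S.t := by
        rw [hinv]
        exact hcT.mul_left (Commute.refl _)
      rw [h3, hρ]
      calc x * h * (x * h) * (x * h) = ((h * x)⁻¹ * S.t) ^ 3 := by
            rw [← h4, pow_succ, pow_succ, pow_one]
        _ = ((h * x)⁻¹) ^ 3 * S.t ^ 3 := hc'.mul_pow 3
        _ = (h * x * (h * x) * (h * x))⁻¹ * S.t := by
            rw [pow_succ (h * x)⁻¹, pow_succ (h * x)⁻¹, pow_one, pow_succ S.t, pow_succ S.t,
              pow_one, ht2, one_mul]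
            group
    have h5 : x * e ^ k * x = (e ^ k)⁻¹ := by
      have h6 := conj_pow (a := x) (b := e) (i := k)
      rw [hx2, hxe, inv_pow] at h6
      exact h6.symm
    rw [hρk, h5] at hxh
    have h7 : S.t = 1 := by simpa using hxh
    have := S.ht
    rw [h7, orderOf_one] at this
    omega
  have hhi : h⁻¹ = h := inv_eq_of_mul_eq_one_right hsq
  obtain ⟨i, hi⟩ := K.hs_pow L P
  refine ⟨i, k, ⟨K.mem, K.not_mem, hsq, K.comm_b, ?_, ?_, ?_, ?_⟩⟩
  · have := K.conj_e; rwa [hhi] at this
  · rwa [hhi] at hv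
  · rw [← hi, hhi]; group
  · rw [← hρk]

end CfsgLib.Spor.HSLocal.HEltI
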