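import Cfsg.Agent.Lib.Spor.HSLocal.HEltPre
import Cfsg.Agent.Lib.Spor.HSLocal.HEltData

/-!
The element `h` with the generators of the two-local subgroup: generation of `H` and the relations
of the parameter case.
-/

set_option autoImplicit false

namespace CfsgLib.Spor.HSLocal

universe u

open MModel

variable {G : Type u} [Group G]

/-- the meet of `H` and `M` has order 1536 -/
theorem card_meet [Finite G] (S : Setup G) (L : Local S) : Nat.card ↥(S.H ⊓ S.M) = 1536 := by
  classical
  haveI : Fintype G := Fintype.ofFinite G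
  set B := (S.H ⊓ S.M).subgroupOf S.M with hB
  have hBcard : Nat.card B = Nat.card ↥(S.H ⊓ S.M) :=
    Nat.card_congr (Subgroup.subgroupOfEquivOfLe inf_le_right).toEquiv
  have htne : S.t ≠ 1 := fun h => by
    have := S.ht; rw [h, orderOf_one] at this; omega
  have hconj : ∀ g : S.M, (g : G) * S.t * (g : G)⁻¹ ∈ S.V := fun g => by
    have hg : (g : G) ∈ Subgroup.normalizer (S.V : Set G) := S.hM ▸ g.2
    exact (Subgroup.mem_normalizer_iff.1 hg S.t).1 L.t_mem
  have hker : ∀ g g' : S.M, (g : G) * S.t * (g : G)⁻¹ = (g' : G) * S.t * (g' : G)⁻¹ ↔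
      g⁻¹ * g' ∈ B := by
    intro g g'
    rw [hB, Subgroup.mem_subgroupOf, Subgroup.mem_inf, S.hH,
      Subgroup.mem_centralizer_singleton_iff]
    constructor
    · intro h
      refine ⟨?_, (g⁻¹ * g').2⟩
      simp only [Subgroup.coe_mul, InvMemClass.coe_inv]
      calc (g : G)⁻¹ * g' * S.t = (g : G)⁻¹ * ((g' : G) * S.t * (g' : G)⁻¹) * g' := by group
        _ = S.t * ((g : G)⁻¹ * g') := by rw [← h]; group
    · rintro ⟨h, -⟩
      simp only [Subgroup.coe_mul, InvMemClass.coe_inv] at h
      calc (g : G) * S.t * (g : G)⁻¹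
          = (g : G) * (S.t * ((g : G)⁻¹ * g')) * (g' : G)⁻¹ := by group
        _ = (g' : G) * S.t * (g' : G)⁻¹ := by rw [← h]; group
  let F : S.M ⧸ B → {v : S.V // v ≠ 1} := fun c =>
    ⟨⟨_, hconj c.out⟩, fun h => htne <| by
      have h' : (c.out : G) * S.t * (c.out : G)⁻¹ = 1 := congrArg Subtype.val h
      exact conj_eq_one_iff.1 h'⟩
  have hF : Function.Injective F := by
    intro c c' h
    have h' : (c.out : G) * S.t * (c.out : G)⁻¹ = (c'.out : G) * S.t * (c'.out : G)⁻¹ :=
      congrArg (fun v : {v : S.V // v ≠ 1} => ((v.1 : S.V) : G)) h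
    rw [← c.out_eq', ← c'.out_eq']
    exact QuotientGroup.eq.2 ((hker _ _).1 h')
  have h7 : B.index ≤ 7 := by
    have h := Nat.card_le_card_of_injective F hF
    have h8 : Nat.card {v : S.V // v ≠ 1} = 7 := by
      rw [Nat.card_eq_fintype_card, Fintype.card_subtype_compl, Fintype.card_subtype_eq,
        ← Nat.card_eq_fintype_card, S.hVcard]
    rw [h8] at h
    exact h
  have hmul := B.card_mul_index
  rw [hBcard, L.card_M] at hmul
  have h1 : Nat.card ↥(S.H ⊓ S.M) ∣ Nat.gcd 7680 10752 := Nat.dvd_gcd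
    (L.card_H ▸ Subgroup.card_dvd_of_le inf_le_left)
    (L.card_M ▸ Subgroup.card_dvd_of_le inf_le_right)
  rw [show Nat.gcd 7680 10752 = 1536 by norm_num] at h1
  have h2 : Nat.card ↥(S.H ⊓ S.M) ≤ 1536 := Nat.le_of_dvd (by norm_num) h1
  nlinarith

section

variable {S : Setup G} {a b e h : G} {i k : ℕ}

/-- the eight letters: those of `mlet` and `h` -/
def let8 (a b e h : G) : Fin 8 → G := Fin.snoc (mlet a b e) h

theorem ev_up (w : List (Fin 7)) : ev (let8 a b e h) (HEltD.up w) = ev (mlet a b e) w := by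
  simp [ev, HEltD.up, let8, List.map_map, Function.comp_def]

theorem conj_g8 (M : MGens S a b e) (K : HPre S a b e h i k) (j : Fin 8) :
    h * ev (mlet a b e) (HEltD.g8 j) * h = ev (mlet a b e) (HEltD.g8h j) := by
  have hP := M.toMPre
  have hbb : h * b⁻¹ = b⁻¹ * h := (Commute.inv_right K.comm_b).eq
  have he' : h * e⁻¹ * h = e := by
    calc h * e⁻¹ * h = h * (h * e * h) * h := by rw [K.inv_e]
      _ = h * h * e * (h * h) := by group
      _ = e := by rw [K.sq, one_mul, mul_one]
  have hw : h * gw a b * h = gv a b e := by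
    rw [← K.conj_v]
    calc h * (h * gv a b e * h) * h = h * h * gv a b e * (h * h) := by group
      _ = gv a b e := by rw [K.sq, one_mul, mul_one]
  have hcj : ∀ y : G, h * (b⁻¹ * y * b) * h = b⁻¹ * (h * y * h) * b := by
    intro y
    calc h * (b⁻¹ * y * b) * h = h * b⁻¹ * y * (b * h) := by group
      _ = b⁻¹ * h * y * (h * b) := by rw [hbb, K.comm_b]
      _ = b⁻¹ * (h * y * h) * b := by group
  have e5 : ev (mlet a b e) [5] = e := by simp [ev, mlet]
  have e6 : ev (mlet a b e) [6] = e⁻¹ := by simp [ev, mlet]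
  have e4 : ev (mlet a b e) [4] = gw a b := by simp [ev, mlet]
  have ewb : ev (mlet a b e) (HEltD.conjb [4]) = b⁻¹ * gw a b * b := by
    show ev (mlet a b e) ([2, 1] ++ [4] ++ [1, 2]) = _
    rw [ev_append, ev_append, ev_binv hP, e4, show ([1, 2] : List (Fin 7)) = wB from rfl, ev_wB hP]
  fin_cases j <;> simp only [HEltD.g8, HEltD.g8h]
  · show h * ev _ [5] * h = ev _ [6]; rw [e5, e6, K.inv_e]
  · show h * ev _ [6] * h = ev _ [5]; rw [e5, e6, he']
  · show h * ev _ wV * h = ev _ [4]; rw [ev_wV hP, e4, K.conj_v]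
  · show h * ev _ wVb * h = ev _ (HEltD.conjb [4]); rw [ev_wVb hP, ewb, hcj, K.conj_v]
  · show h * ev _ [4] * h = ev _ wV; rw [ev_wV hP, e4, hw]
  · show h * ev _ (HEltD.conjb [4]) * h = ev _ wVb; rw [ev_wVb hP, ewb, hcj, hw]
  · show h * ev _ wB * h = ev _ wB
    rw [ev_wB hP, K.comm_b, mul_assoc, K.sq, mul_one]
  · show h * ev _ [2, 1] * h = ev _ [2, 1]
    rw [ev_binv hP, hbb, mul_assoc, K.sq, mul_one]

theorem conj_word (M : MGens S a b e) (K : HPre S a b e h i k) :
    ∀ c : List (Fin 8), h * ev (mlet a b e) (c.flatMap HEltD.g8) * h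
      = ev (mlet a b e) (c.flatMap HEltD.g8h)
  | [] => by simp [ev, K.sq]
  | j :: c => by
    rw [List.flatMap_cons, List.flatMap_cons, ev_append, ev_append, ← conj_g8 M K j,
      ← conj_word M K c]
    have : ∀ y z : G, h * (y * z) * h = h * y * h * (h * z * h) := fun y z => by
      calc h * (y * z) * h = h * y * 1 * z * h := by rw [mul_one, mul_assoc h y z]
        _ = h * y * (h * h) * z * h := by rw [K.sq]
        _ = h * y * h * (h * z * h) := by group
    rw [this]

theorem base_rels [Finite G] (L : Local S) (M : MGens S a b e) (K : HPre S a b e h i k) :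
    ∀ r ∈ Data.hBase, ev ![h, h * e, gs a b, gq a b, gx a b e] r = 1 := by
  intro r hr
  obtain ⟨hlen, hall⟩ := HEltD.hBase_ok
  obtain ⟨n, hn, rfl⟩ := List.getElem_of_mem hr
  have hp : (Data.hBase[n], HEltD.hCert[n]'(hlen ▸ hn)) ∈ Data.hBase.zip HEltD.hCert := by
    rw [List.mem_iff_getElem]
    exact ⟨n, by simp [hlen, hn], List.getElem_zip ..⟩
  have hok := List.all_eq_true.1 hall _ hp
  generalize HEltD.hCert[n]'(hlen ▸ hn) = c at hok
  generalize Data.hBase[n] = r at hok
  simp only at hok
  have hexp : ev (let8 a b e h) (r.flatMap HEltD.expand)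
      = ev ![h, h * e, gs a b, gq a b, gx a b e] r := by
    refine ev_flatMap HEltD.expand _ (fun x => ?_) r
    fin_cases x <;> simp [HEltD.expand, ev, let8, mlet, Fin.snoc]
  rw [← hexp]
  obtain ⟨cn, ps⟩ := c
  cases ps with
  | nil =>
    simp only [HEltD.okRel, Bool.and_eq_true] at hok
    obtain ⟨h1, h2⟩ := hok
    have hev := (ev_eq_one_iff L M.toMPre _).2 h2
    rw [List.all_eq_true] at h1
    rw [← hev]
    simp only [ev, List.map_map]
    refine congrArg List.prod (List.map_congr_left fun z hz => ?_)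
    have hz' : z.val < 7 := by simpa using h1 z hz
    simp only [Function.comp_apply, dif_pos hz']
    simp [let8, Fin.snoc, hz']
    rfl
  | cons p ps =>
    simp only [HEltD.okRel, Bool.and_eq_true, beq_iff_eq, List.all_eq_true] at hok
    obtain ⟨⟨h1, h2⟩, h3⟩ := hok
    generalize p :: ps = qs at h1 h2 h3
    generalize r.flatMap HEltD.expand = W at h1 ⊢
    suffices h0 : ev (let8 a b e h) (W.drop cn ++ W.take cn) = 1 by
      rw [ev_append] at h0
      conv_lhs => rw [← List.take_append_drop cn W, ev_append]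
      exact mul_eq_one_comm.1 h0
    rw [h1, ← (ev_eq_one_iff L M.toMPre _).2 h3]
    clear h1 h3
    induction qs with
    | nil => rfl
    | cons q qs ih =>
      have h2' := (ev_eq_iff L M.toMPre _ _).2 (h2 q List.mem_cons_self)
      have hlet : let8 a b e h 7 = h := by simp [let8, Fin.snoc]
      rw [List.flatMap_cons, List.flatMap_cons, ev_append, ev_append,
        ih fun x hx => h2 x (List.mem_cons_of_mem _ hx), ev_cons,
        ev_cons, ev_up, ev_up, hlet, h2']
      simp only [ev_append]
      rw [← conj_word M K q.2.1]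
      group

theorem hCase_rels [Finite G] (S : Setup G) (L : Local S) {a b e h : G} {i k : ℕ}
    (M : MGens S a b e) (K : HPre S a b e h i k) (hi : i ≤ 4) (hk : k ≤ 4) :
    ∀ r ∈ hCase i k, ev ![h, h * e, gs a b, gq a b, gx a b e] r = 1 := by
  set f := ![h, h * e, gs a b, gq a b, gx a b e] with hf
  have he4 : e ^ 4 = 1 := by
    have h0 : weq [5, 5, 5, 5] [] = true := by
      have hh := HEltD.facts
      simp only [Bool.and_eq_true] at hh
      exact hh.1.2
    have h1 := (ev_eq_iff L M.toMPre _ _).2 h0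
    simpa [ev, mlet, pow_succ, mul_assoc] using h1
  have hrep : ∀ j : ℕ, ev f (List.replicate j [0, 1]).flatten = e ^ j := by
    intro j
    induction j with
    | zero => simp [ev]
    | succ j ih =>
      rw [List.replicate_succ, List.flatten_cons, ev_append, ih, pow_succ']
      congr 1
      simp [ev, hf, ← mul_assoc, K.sq]
  have hfin : ∀ j : ℕ, j ≤ 4 → e ^ j * e ^ ((4 - j) % 4) = 1 := by
    intro j hj
    rw [← pow_add]
    interval_cases j <;> simp [he4]
  intro r hr
  simp only [hCase, List.mem_append, List.mem_cons, List.not_mem_nil, or_false] at hr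
  rcases hr with hr | rfl | rfl | rfl
  · exact base_rels L M K r hr
  · rw [ev_append, hrep, show ev f [0, 2, 0, 2] = e ^ i by
      rw [← K.hs]; simp [ev, hf, mul_assoc], hfin i hi]
  · have h3 : ev f [0, 3, 0, 3] = e ^ i := by
      have hbsb : b * gs a b * b = gs a b := by
        have := M.q_sq
        rw [gq] at this
        calc b * gs a b * b = (gs a b)⁻¹ * (gs a b * b * (gs a b * b)) := by group
          _ = gs a b := by rw [this, mul_one, inv_eq_of_mul_eq_one_right M.s_sq]
      rw [← K.hs]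
      simp only [ev, hf, List.map_cons, List.map_nil, List.prod_cons, List.prod_nil, mul_one,
        Matrix.cons_val_zero, Matrix.cons_val, gq]
      calc h * (gs a b * b * (h * (gs a b * b))) = h * gs a b * (b * h) * gs a b * b := by group
        _ = h * gs a b * h * (b * gs a b * b) := by rw [← K.comm_b]; group
        _ = h * gs a b * (h * gs a b) := by rw [hbsb, mul_assoc (h * gs a b) h]
    rw [ev_append, hrep, h3, hfin i hi]
  · rw [ev_append, hrep, show ev f [0, 4, 0, 4, 0, 4] = e ^ k by
      rw [← K.hx]; simp [ev, hf, mul_assoc], hfin k hk]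

theorem gen_of_hPre [Finite G] (S : Setup G) (L : Local S) {a b e h : G} {i k : ℕ}
    (M : MGens S a b e) (K : HPre S a b e h i k) :
    S.H = Subgroup.closure ({h, h * e, gs a b, gq a b, gx a b e} : Set G) := by
  set N := Subgroup.closure ({h, h * e, gs a b, gq a b, gx a b e} : Set G) with hN
  have hm : ∀ y ∈ ({gs a b, gq a b, gx a b e, e, gw a b} : Set G), y ∈ S.H ⊓ S.M := fun y hy => by
    rw [M.meet]; exact Subgroup.subset_closure hy
  have hNH : N ≤ S.H := by
    refine (Subgroup.closure_le _).2 ?_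
    rintro y (rfl | rfl | rfl | rfl | rfl)
    · exact K.mem
    · exact S.H.mul_mem K.mem (hm e (by simp)).1
    · exact (hm _ (by simp)).1
    · exact (hm _ (by simp)).1
    · exact (hm _ (by simp)).1
  have hh : h ∈ N := Subgroup.subset_closure (by simp)
  have he : e ∈ N := by
    have : h * (h * e) ∈ N := N.mul_mem hh (Subgroup.subset_closure (by simp))
    rwa [← mul_assoc, K.sq, one_mul] at this
  have hBN : S.H ⊓ S.M ≤ N := by
    rw [M.meet]
    refine (Subgroup.closure_le _).2 ?_
    rintro y (rfl | rfl | rfl | rfl | rfl)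
    · exact Subgroup.subset_closure (by simp)
    · exact Subgroup.subset_closure (by simp)
    · exact Subgroup.subset_closure (by simp)
    · exact he
    · rw [← K.conj_v, M.v_eq]
      have h1 : gs a b * gx a b e ∈ N :=
        N.mul_mem (Subgroup.subset_closure (by simp)) (Subgroup.subset_closure (by simp))
      exact N.mul_mem (N.mul_mem hh (N.mul_mem h1 h1)) hh
  have hne : S.H ⊓ S.M ≠ N := fun heq => K.not_mem (heq ▸ hh).2
  refine (Subgroup.eq_of_le_of_card_ge hNH ?_).symm
  have h1 := Subgroup.card_dvd_of_le hBN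
  rw [card_meet S L] at h1
  have h2 : Nat.card N ∣ 7680 := L.card_H ▸ Subgroup.card_dvd_of_le hNH
  have h3 : Nat.card N ≠ 1536 := fun hc =>
    hne (Subgroup.eq_of_le_of_card_ge hBN (by rw [card_meet S L, hc]))
  rw [L.card_H]
  obtain ⟨d, hd⟩ := h1
  have h4 : d ∣ 5 := by
    refine Nat.dvd_of_mul_dvd_mul_left (show (0 : ℕ) < 1536 by norm_num) ?_
    rw [← hd]; exact h2
  rcases (Nat.dvd_prime (by norm_num : Nat.Prime 5)).1 h4 with rfl | rfl <;> omega

end

end CfsgLib.Spor.HSLocal
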