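import Cfsg.Agent.Lib.Spor.HSLocal.RTwo
import Cfsg.Agent.Lib.Spor.HSLocal.HEltChoose
import Cfsg.Agent.Lib.Spor.HSLocal.HEltRels

/-!
Generators of the involution centraliser in canonical position.
-/

set_option autoImplicit false

namespace CfsgLib.Spor.HSLocal

open HEltI HEltD MModel

universe u

variable {G : Type u} [Group G] [Finite G] {S : Setup G} {a b e h : G}

theorem hPre_shift (L : Local S) (P : MPre S a b e) {i k : ℕ} (K : HPre S a b e h i k) :
    HPre S a b e (h * e) (i + 2) (k + 1) := by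
  have he4 := e_pow_four L P
  have evEq : ∀ {u w : List (Fin 7)}, weq u w = true →
      ev (mlet a b e) u = ev (mlet a b e) w := fun h => (ev_eq_iff L P _ _).2 h
  have hse : gs a b * e * gs a b = e⁻¹ := by
    simpa [ev, mlet, mul_assoc] using evEq (show weq [1, 5, 1] [6] = true by decide +kernel)
  have hxe : gx a b e * e * gx a b e = e⁻¹ := by
    simpa [ev, mlet, mul_assoc] using evEq (show weq [3, 5, 3] [6] = true by decide +kernel)
  have hve : gv a b e * e = e * gv a b e := by
    have := evEq (show weq (wV ++ [5]) ([5] ++ wV) = true by decide +kernel)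
    rw [ev_append, ev_append, ev_wV P] at this
    simpa [ev, mlet] using this
  have hwe : gw a b * e = e * gw a b := by
    simpa [ev, mlet] using evEq (show weq [4, 5] [5, 4] = true by decide +kernel)
  have heh : e * h = h * e⁻¹ := by
    rw [← K.inv_e]
    simp only [← mul_assoc]
    rw [K.sq, one_mul]
  have heH : e ∈ S.H := by
    have : e ∈ S.H ⊓ S.M := by rw [P.meet]; exact Subgroup.subset_closure (by simp)
    exact this.1
  refine ⟨mul_mem K.mem heH, fun h1 => K.not_mem ?_, ?_, ?_, ?_, ?_, ?_, ?_⟩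
  · have := mul_mem h1 (inv_mem P.e_mem)
    simpa [mul_assoc] using this
  · calc h * e * (h * e) = h * (e * h) * e := by group
      _ = h * (h * e⁻¹) * e := by rw [heh]
      _ = h * h := by group
      _ = 1 := K.sq
  · rw [mul_assoc, P.comm_eb, ← mul_assoc, K.comm_b, mul_assoc]
  · calc h * e * e * (h * e) = h * e * (e * h) * e := by group
      _ = h * e * (h * e⁻¹) * e := by rw [heh]
      _ = h * e * h := by group
      _ = e⁻¹ := K.inv_e
  · calc h * e * gv a b e * (h * e) = h * (e * gv a b e) * h * e := by group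
      _ = h * (gv a b e * e) * h * e := by rw [hve]
      _ = h * gv a b e * (e * h) * e := by group
      _ = h * gv a b e * (h * e⁻¹) * e := by rw [heh]
      _ = h * gv a b e * h := by group
      _ = gw a b := K.conj_v
  · set s := gs a b
    have hsi : s⁻¹ = s := inv_eq_of_mul_eq_one_right P.s_sq
    have hes : e * s = s * e⁻¹ := by
      rw [← hse]
      simp only [← mul_assoc]
      rw [P.s_sq, one_mul]
    have hse' : e⁻¹ * s = s * e := by
      rw [← hse, mul_assoc (s * e), P.s_sq, mul_one]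
    have he2 : e⁻¹ * e⁻¹ = e ^ 2 := by
      rw [← mul_inv_rev]
      refine inv_eq_of_mul_eq_one_right ?_
      rw [← pow_two, ← pow_add, he4]
    calc h * e * s * (h * e * s) = h * (e * s) * h * (e * s) := by group
      _ = h * s * (e⁻¹ * h) * (e * s) := by rw [hes]; group
      _ = h * s * (h * e) * (e * s) := by
        rw [show e⁻¹ * h = h * e from by
          rw [← K.inv_e, mul_assoc (h * e), K.sq, mul_one]]
      _ = h * s * h * (e * (e * s)) := by group
      _ = h * s * h * (e * (s * e⁻¹)) := by rw [hes]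
      _ = h * s * h * ((e * s) * e⁻¹) := by group
      _ = h * s * (h * s) * (e⁻¹ * e⁻¹) := by rw [hes]; group
      _ = e ^ (i + 2) := by rw [K.hs, he2, pow_add]
  · set x := gx a b e
    have hex : e * x = x * e⁻¹ := by
      rw [← hxe]
      simp only [← mul_assoc]
      rw [P.x_sq, one_mul]
    have hex' : e⁻¹ * x = x * e := by
      rw [← hxe, mul_assoc (x * e), P.x_sq, mul_one]
    have hy : Commute (h * x) e := by
      show h * x * e = e * (h * x)
      rw [← mul_assoc e, heh, mul_assoc h e⁻¹, hex', ← mul_assoc]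
    have h1 : h * e * x = h * x * e⁻¹ := by rw [mul_assoc, hex, ← mul_assoc]
    calc h * e * x * (h * e * x) * (h * e * x) = (h * x * e⁻¹) ^ 3 := by
          rw [h1, pow_succ, pow_succ, pow_one]
      _ = (h * x) ^ 3 * (e⁻¹) ^ 3 := hy.inv_right.mul_pow 3
      _ = e ^ k * (e⁻¹) ^ 3 := by rw [← K.hx, pow_succ (h * x), pow_succ (h * x), pow_one]
      _ = e ^ (k + 1) := by
        rw [pow_add, pow_one]
        congr 1
        rw [inv_pow]
        refine inv_eq_of_mul_eq_one_right ?_
        rw [← pow_succ, he4]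

theorem hPre_mod (L : Local S) (P : MPre S a b e) {i k : ℕ} (K : HPre S a b e h i k) :
    HPre S a b e h (i % 4) (k % 4) :=
  ⟨K.mem, K.not_mem, K.sq, K.comm_b, K.inv_e, K.conj_v,
    by rw [K.hs]; exact pow_eq_pow_mod i (e_pow_four L P),
    by rw [K.hx]; exact pow_eq_pow_mod k (e_pow_four L P)⟩

theorem hPre_normalise (L : Local S) (P : MPre S a b e) {i k : ℕ} (K : HPre S a b e h i k) :
    ∃ h' i' k', i' < 2 ∧ k' < 2 ∧ HPre S a b e h' i' k' := by
  have step : ∀ j : ℕ, ∃ h', HPre S a b e h' ((i + 2 * j) % 4) ((k + j) % 4) := by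
    intro j
    suffices hj : ∃ h', HPre S a b e h' (i + 2 * j) (k + j) by
      obtain ⟨h', K'⟩ := hj
      exact ⟨h', hPre_mod L P K'⟩
    induction j with
    | zero => exact ⟨h, K⟩
    | succ j ih =>
      obtain ⟨h', K'⟩ := ih
      exact ⟨h' * e, hPre_shift L P K'⟩
  have hj : ∃ j < 4, (i + 2 * j) % 4 < 2 ∧ (k + j) % 4 < 2 := by
    have key : ∀ i' < 4, ∀ k' < 4, ∃ j < 4, (i' + 2 * j) % 4 < 2 ∧ (k' + j) % 4 < 2 := by
      decide
    obtain ⟨j, hj, h1, h2⟩ := key (i % 4) (Nat.mod_lt _ (by omega)) (k % 4) (Nat.mod_lt _ (by omega))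
    exact ⟨j, hj, by omega, by omega⟩
  obtain ⟨j, -, h1, h2⟩ := hj
  obtain ⟨h', K'⟩ := step j
  exact ⟨h', _, _, h1, h2, K'⟩

theorem exists_gens (S : Setup G) (L : Local S) (hbad : HBadSpec.{u}) {a b e : G}
    (P : MPre S a b e) : ∃ a b e h : G, MGens S a b e ∧ HElt S a b e h := by
  classical
  obtain ⟨rr, hrr, hR⟩ : ∃ rr ∈ rrs, IsR S a b e rr := by
    rcases r_cases S L P with h1 | h1
    · refine ⟨[4], by simp [rrs], ?_⟩
      unfold IsR
      rw [show ev (mlet a b e) [4] = gw a b by simp [ev, mlet]]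
      exact h1
    · refine ⟨[4] ++ wF, by simp [rrs], ?_⟩
      unfold IsR
      rw [ev_rr1 P]
      exact h1
  obtain ⟨h, K0⟩ := exists_pre0 L P hrr hR
  have K1 : Pre1 S a b e h rr := ⟨K0, hrr, hR⟩
  obtain ⟨hrr4, hv⟩ := K1.conj_v_cases L P
  subst hrr4
  obtain ⟨a', P', hR', h', i, k, K⟩ : ∃ a', MPre S a' b e ∧ IsR S a' b e [4] ∧
      ∃ h' i k, HPre S a' b e h' i k := by
    rcases hv with hv | hv
    · obtain ⟨i, k, K⟩ := hPre_of L P K1 hv
      exact ⟨a, P, hR, h, i, k, K⟩
    · obtain ⟨a', P', hR', hs', hx', hv', hw'⟩ := shift_a L P hR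
      have K1' : Pre1 S a' b e h [4] :=
        ⟨⟨K0.mem, K0.not_mem, K0.comm_b, K0.conj_e, K0.sq, by rw [hs']; exact K0.hs,
          by rw [hx']; exact K0.hx⟩, hrr, hR'⟩
      obtain ⟨i, k, K⟩ := hPre_of L P' K1' (by rw [hv', hw']; exact hv)
      exact ⟨a', P', hR', h, i, k, K⟩
  have M : MGens S a' b e := ⟨P', by
    have := hR'
    unfold IsR at this
    rwa [show ev (mlet a' b e) [4] = gw a' b by simp [ev, mlet]] at this⟩
  obtain ⟨g, i', k', hi, hk, K'⟩ := hPre_normalise L P' K
  have hgen := gen_of_hPre S L M K'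
  refine ⟨a', b, e, g, M, ?_⟩
  by_cases hgood : i' = 0 ∧ k' = 1
  · obtain ⟨rfl, rfl⟩ := hgood
    exact ⟨K'.mem, K'.not_mem, K'.sq, K'.comm_b, K'.inv_e, K'.conj_v,
      by rw [K'.hs, pow_zero], by rw [K'.hx, pow_one], hgen⟩
  exfalso
  have hmem : (i', k') ∈ [((0 : ℕ), (0 : ℕ)), (1, 0), (1, 1)] := by
    interval_cases i' <;> interval_cases k' <;> simp at hgood ⊢
  set f : Fin 5 → G := ![g, g * e, gs a' b, gq a' b, gx a' b e] with hf
  have hsq : ∀ i, f i * f i = 1 := by
    intro i
    fin_cases i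
    · exact K'.sq
    · exact (hPre_shift L P' K').sq
    · exact P'.s_sq
    · exact P'.q_sq
    · exact P'.x_sq
  have hlt := hbad G f hsq (i', k') hmem fun r hr =>
    hCase_rels S L M K' (by omega) (by omega) r hr
  have hrange : Set.range f = ({g, g * e, gs a' b, gq a' b, gx a' b e} : Set G) := by
    ext z
    simp only [Set.mem_range, Set.mem_insert_iff, Set.mem_singleton_iff]
    constructor
    · rintro ⟨j, rfl⟩
      fin_cases j <;> simp [f]
    · rintro (rfl | rfl | rfl | rfl | rfl)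
      exacts [⟨0, rfl⟩, ⟨1, rfl⟩, ⟨2, rfl⟩, ⟨3, rfl⟩, ⟨4, rfl⟩]
  rw [hrange, ← hgen, L.card_H] at hlt
  exact lt_irrefl _ hlt

end CfsgLib.Spor.HSLocal
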