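import Cfsg.Agent.Lib.Spor.HSLocal.HEltData
import Mathlib.GroupTheory.Perm.Sign

/-!
An element of `H` outside `M` centralising `b`, through the image of `H` in `Sym(5)`.
-/

set_option autoImplicit false
set_option maxRecDepth 4000
set_option synthInstance.maxSize 1024

namespace CfsgLib.Spor.HSLocal.HEltI

open MModel HEltD
open Equiv (Perm)

universe u

/-- a three-cycle -/
def β₀ : Perm (Fin 5) := Equiv.swap 0 1 * Equiv.swap 1 2

/-- the transposition centralising it -/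
def η₀ : Perm (Fin 5) := Equiv.swap 3 4

theorem conj_β₀ : ∀ β : Perm (Fin 5), β * β * β = 1 → β ≠ 1 → ∃ c, c * β * c⁻¹ = β₀ := by
  decide +kernel

theorem no_gamma : ∀ γ : Perm (Fin 5), γ * γ = 1 → γ ≠ 1 →
    γ * (β₀⁻¹ * γ * β₀) = β₀⁻¹ * γ * β₀ * γ →
    γ * (β₀⁻¹ * γ * β₀) * (β₀⁻¹ * (β₀⁻¹ * γ * β₀) * β₀) = 1 →
    γ * (η₀ * γ * η₀⁻¹) ≠ η₀ * γ * η₀⁻¹ * γ := by
  decide +kernel

theorem sigma_xi : ∀ σ : Perm (Fin 5), σ * σ = 1 → σ * β₀ * σ = β₀⁻¹ →
    Equiv.Perm.sign σ = -1 → ∀ ξ : Perm (Fin 5), ξ * ξ = 1 → Equiv.Perm.sign ξ = -1 →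
      σ * ξ * (σ * ξ) = 1 → σ * ξ ≠ 1 → ξ ≠ η₀ →
        η₀ * σ * η₀⁻¹ * σ = 1 ∧ η₀ * ξ * (η₀ * ξ) * (η₀ * ξ) = 1 := by
  decide +kernel

theorem sign_η₀ : Equiv.Perm.sign η₀ = -1 := by decide +kernel

theorem η₀_comm : η₀ * β₀ * η₀⁻¹ = β₀ := by decide +kernel

theorem η₀_sq : η₀ * η₀ = 1 := by decide +kernel

variable {G : Type u} [Group G] [Finite G] {S : Setup G} {a b e : G}

theorem ev_wF (P : MPre S a b e) : ev (mlet a b e) wF = gf a b e := by
  have ha : a⁻¹ = a := inv_eq_of_mul_eq_one_right P.a_sq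
  show ev (mlet a b e) ([2, 1] ++ [0, 5, 0] ++ wB ++ [0, 6, 0]) = _
  rw [ev_append, ev_append, ev_append, ev_binv P, ev_wB P]
  simp [ev, mlet, gf, ha, mul_assoc]

theorem ev_conjb (P : MPre S a b e) (w : List (Fin 7)) :
    ev (mlet a b e) (conjb w) = b⁻¹ * ev (mlet a b e) w * b := by
  rw [conjb, show ([1, 2] : List (Fin 7)) = wB from rfl, ev_append, ev_append, ev_binv P, ev_wB P]

theorem ev_wG (P : MPre S a b e) : ev (mlet a b e) wG = gg a b e := by
  rw [wG, ev_conjb P, ev_wF P]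
  rfl

theorem ev_rr1 (P : MPre S a b e) :
    ev (mlet a b e) ([4] ++ wF) = gw a b * gf a b e := by
  rw [ev_append, ev_wF P]
  simp [ev, mlet]

/-- `O₂(H)` is generated by the five standard elements for the fourth generator `rr` -/
def IsR (S : Setup G) (a b e : G) (rr : List (Fin 7)) : Prop :=
  S.R = Subgroup.closure ({e, gv a b e, b⁻¹ * gv a b e * b, ev (mlet a b e) rr,
    b⁻¹ * ev (mlet a b e) rr * b} : Set G)

theorem rList_mem (P : MPre S a b e) {rr : List (Fin 7)} (hR : IsR S a b e rr) :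
    ∀ y ∈ rList rr, ev (mlet a b e) y ∈ S.R := by
  have hm : ∀ z ∈ ({e, gv a b e, b⁻¹ * gv a b e * b, ev (mlet a b e) rr,
      b⁻¹ * ev (mlet a b e) rr * b} : Set G), z ∈ S.R := fun z hz => by
    rw [hR]; exact Subgroup.subset_closure hz
  have he : e ∈ S.R := hm _ (by simp)
  have h1 : ∀ x ∈ ePow, ev (mlet a b e) x ∈ S.R := by
    intro x hx
    simp only [ePow, List.mem_cons, List.not_mem_nil, or_false] at hx
    rcases hx with rfl | rfl | rfl | rfl
    · exact one_mem _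
    · simpa [ev, mlet] using he
    · simpa [ev, mlet] using mul_mem he he
    · simpa [ev, mlet] using inv_mem he
  intro y hy
  simp only [rList, List.mem_flatMap, List.mem_map, List.mem_cons, List.not_mem_nil,
    or_false] at hy
  obtain ⟨x, hx, y₁, hy₁, z, hz, u, hu, u', hu', rfl⟩ := hy
  rw [ev_append, ev_append, ev_append, ev_append]
  refine mul_mem (mul_mem (mul_mem (mul_mem (h1 x hx) ?_) ?_) ?_) ?_
  · rcases hy₁ with rfl | rfl
    · exact one_mem _
    · exact ev_wV P ▸ hm _ (by simp)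
  · rcases hz with rfl | rfl
    · exact one_mem _
    · exact ev_wVb P ▸ hm _ (by simp)
  · rcases hu with rfl | rfl
    · exact one_mem _
    · exact hm _ (by simp)
  · rcases hu' with rfl | rfl
    · exact one_mem _
    · exact ev_conjb P rr ▸ hm _ (by simp)

theorem rList_cover (L : Local S) (P : MPre S a b e) {rr : List (Fin 7)} (hrr : rr ∈ rrs)
    (hR : IsR S a b e rr) : ∀ x ∈ S.R, ∃ y ∈ rList rr, ev (mlet a b e) y = x := by
  classical
  haveI := Fintype.ofFinite G
  let F : Finset G := ((rList rr).map (ev (mlet a b e))).toFinset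
  have hsub : F ⊆ (S.R : Set G).toFinset := by
    intro z hz
    obtain ⟨w, hw, rfl⟩ := List.mem_map.1 (List.mem_toFinset.1 hz)
    exact Set.mem_toFinset.2 (rList_mem P hR w hw)
  have hd := rList_distinct rr hrr
  simp only [List.all_eq_true, List.mem_range, Bool.or_eq_true, decide_eq_true_eq,
    Bool.not_eq_true'] at hd
  have hlen := rList_length rr hrr
  have hnd : ((rList rr).map (ev (mlet a b e))).Nodup := by
    rw [List.nodup_iff_getElem?_ne_getElem?]
    intro i j hij hj heq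
    rw [List.length_map] at hj
    have hi : i < (rList rr).length := lt_trans hij hj
    rw [List.getElem?_eq_getElem (by rwa [List.length_map]),
      List.getElem?_eq_getElem (by rwa [List.length_map]), Option.some_inj,
      List.getElem_map, List.getElem_map] at heq
    rcases hd j (hlen ▸ hj) i (hlen ▸ hi) with h | h
    · omega
    · rw [List.getD_eq_getElem?_getD, List.getD_eq_getElem?_getD,
        List.getElem?_eq_getElem hi, List.getElem?_eq_getElem hj] at h
      simp only [Option.getD_some] at h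
      rw [(ev_eq_iff L P _ _).1 heq.symm] at h
      exact Bool.noConfusion h
  have hcard : (S.R : Set G).toFinset.card ≤ F.card := by
    rw [List.toFinset_card_of_nodup hnd, List.length_map, hlen, Set.toFinset_card,
      ← Nat.card_eq_fintype_card]
    exact L.card_R.le
  intro x hx
  have hx' : x ∈ F := Finset.eq_of_subset_of_card_le hsub hcard ▸ Set.mem_toFinset.2 hx
  obtain ⟨w, hw, e'⟩ := List.mem_map.1 (List.mem_toFinset.1 hx')
  exact ⟨w, hw, e'⟩

/-- what the image in `Sym(5)` gives about `h` -/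
structure Pre0 (S : Setup G) (a b e h : G) : Prop where
  mem : h ∈ S.H
  not_mem : h ∉ S.M
  comm_b : h * b = b * h
  conj_e : h * e * h⁻¹ = e⁻¹
  sq : h * h = 1 ∨ h * h = S.t
  hs : h * gs a b * h⁻¹ * gs a b ∈ S.R
  hx : h * gx a b e * (h * gx a b e) * (h * gx a b e) ∈ S.R

theorem R_le_H (S : Setup G) : S.R ≤ S.H := by
  rw [S.hR]; exact Subgroup.map_subtype_le _

theorem R_conj (S : Setup G) {z y : G} (hz : z ∈ S.H) (hy : y ∈ S.R) : z * y * z⁻¹ ∈ S.R := by
  rw [S.hR] at hy ⊢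
  obtain ⟨p, hp, rfl⟩ := hy
  exact ⟨⟨z, hz⟩ * p * ⟨z, hz⟩⁻¹,
    (inferInstance : (Cfsg.pCore 2 S.H).Normal).conj_mem p hp _, rfl⟩

theorem exists_pre0 (L : Local S) (P : MPre S a b e) {rr : List (Fin 7)} (hrr : rr ∈ rrs)
    (hR : IsR S a b e rr) : ∃ h, Pre0 S a b e h := by
  classical
  obtain ⟨⟨⟨⟨⟨⟨⟨⟨⟨⟨f1, f2⟩, f3⟩, f4⟩, f5⟩, f6⟩, f7⟩, f8⟩, f9⟩, f10⟩, f11⟩ := by
    simpa only [Bool.and_eq_true] using HEltD.facts
  have cover := rList_cover L P hrr hR
  have evEq : ∀ {u v : List (Fin 7)}, weq u v = true →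
      ev (mlet a b e) u = ev (mlet a b e) v := fun h => (ev_eq_iff L P _ _).2 h
  -- elements of `H ⊓ M`
  have hB : ∀ z ∈ ({gs a b, gq a b, gx a b e, e, gw a b} : Set G), z ∈ S.H ⊓ S.M := fun z hz => by
    rw [P.meet]; exact Subgroup.subset_closure hz
  have hsH : gs a b ∈ S.H := (hB _ (by simp)).1
  have hxH : gx a b e ∈ S.H := (hB _ (by simp)).1
  have heH : e ∈ S.H := (hB _ (by simp)).1
  have hbH : b ∈ S.H := by
    have h1 : gq a b ∈ S.H := (hB _ (by simp)).1
    rw [← ev_wB P]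
    simpa [ev, wB, mlet] using mul_mem hsH h1
  have hgA : gg a b e ∈ S.A := by rw [P.A_eq]; exact Subgroup.subset_closure (by simp)
  have hgH : gg a b e ∈ S.H := by
    rw [S.hH, Subgroup.mem_centralizer_singleton_iff]
    exact (L.A_comm _ hgA _ (L.V_le_A L.t_mem))
  have heR : e ∈ S.R := by rw [hR]; exact Subgroup.subset_closure (by simp)
  have e_ne : e * e ≠ 1 := by
    intro h1
    have h3 : ev (mlet a b e) [5, 5] = 1 := by simpa [ev, mlet] using h1
    rw [ev_eq_one_iff L P] at h3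
    rw [h3] at f9
    exact Bool.noConfusion f9
  have e_four : e * e * (e * e) = 1 := by
    simpa [ev, mlet, mul_assoc] using evEq f10
  have comm_e : ∀ y ∈ S.R, y * e = e * y := by
    intro y hy
    obtain ⟨w, hw, rfl⟩ := cover y hy
    have h1 := evEq (List.all_eq_true.1 (rList_comm_e rr hrr) w hw)
    rw [ev_append, ev_append] at h1
    simpa [ev, mlet] using h1
  have ePow_ev : ∀ z ∈ ePow, ev (mlet a b e) z = 1 ∨ ev (mlet a b e) z = e ∨
      ev (mlet a b e) z = e * e ∨ ev (mlet a b e) z = e⁻¹ := by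
    intro z hz
    simp only [ePow, List.mem_cons, List.not_mem_nil, or_false] at hz
    rcases hz with rfl | rfl | rfl | rfl <;> simp [ev, mlet]
  have e_act : ∀ z ∈ S.H, z * e * z⁻¹ = e ∨ z * e * z⁻¹ = e⁻¹ := by
    intro z hz
    have hzR := R_conj S hz heR
    obtain ⟨w, hw, hwe⟩ := cover _ hzR
    have hc : ((gens5 rr).all fun u => weq (w ++ u) (u ++ w)) = true := by
      refine List.all_eq_true.2 fun u hu => (ev_eq_iff L P _ _).1 ?_
      have huR : ev (mlet a b e) u ∈ S.R := by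
        have hm : ∀ q ∈ ({e, gv a b e, b⁻¹ * gv a b e * b, ev (mlet a b e) rr,
            b⁻¹ * ev (mlet a b e) rr * b} : Set G), q ∈ S.R := fun q hq => by
          rw [hR]; exact Subgroup.subset_closure hq
        simp only [gens5, List.mem_cons, List.not_mem_nil, or_false] at hu
        rcases hu with rfl | rfl | rfl | rfl | rfl
        · simpa [ev, mlet] using heR
        · exact ev_wV P ▸ hm _ (by simp)
        · exact ev_wVb P ▸ hm _ (by simp)
        · exact hm _ (by simp)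
        · exact ev_conjb P rr ▸ hm _ (by simp)
      have h1 := comm_e _ (R_conj S (inv_mem hz) huR)
      rw [inv_inv] at h1
      rw [ev_append, ev_append, hwe]
      calc z * e * z⁻¹ * ev (mlet a b e) u
          = z * (e * (z⁻¹ * ev (mlet a b e) u * z)) * z⁻¹ := by group
        _ = z * (z⁻¹ * ev (mlet a b e) u * z * e) * z⁻¹ := by rw [h1]
        _ = ev (mlet a b e) u * (z * e * z⁻¹) := by group
    have h2 := List.all_eq_true.1 (rList_central rr hrr) w hw
    rw [hc, Bool.not_true, Bool.false_or, List.any_eq_true] at h2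
    obtain ⟨p, hp, hp'⟩ := h2
    have h3 : z * e * z⁻¹ = ev (mlet a b e) p := hwe.symm.trans (evEq hp')
    rcases ePow_ev p hp with h4 | h4 | h4 | h4 <;> rw [h4] at h3
    · exfalso
      rw [conj_eq_one_iff] at h3
      exact e_ne (by rw [h3, one_mul])
    · exact Or.inl h3
    · exfalso
      apply e_ne
      have h5 : z * (e * e) * z⁻¹ = 1 := by
        calc z * (e * e) * z⁻¹ = z * e * z⁻¹ * (z * e * z⁻¹) := by group
          _ = 1 := by rw [h3, e_four]
      rwa [conj_eq_one_iff] at h5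
    · exact Or.inr h3
  have inv_ne : e⁻¹ ≠ e := fun h1 => e_ne (by
    calc e * e = e⁻¹ * e := by rw [h1]
      _ = 1 := inv_mul_cancel e)
  -- the image in `Sym(5)`
  let π₀ : S.H →* Perm (Fin 5) := S.eH.toMonoidHom.comp (QuotientGroup.mk' _)
  have ker₀ : ∀ z : S.H, π₀ z = 1 ↔ (z : G) ∈ S.R := by
    intro z
    show S.eH _ = 1 ↔ _
    rw [MulEquiv.map_eq_one_iff, QuotientGroup.mk'_apply, QuotientGroup.eq_one_iff]
    constructor
    · intro h1; rw [S.hR]; exact ⟨z, h1, rfl⟩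
    · intro h1
      rw [S.hR] at h1
      obtain ⟨p, hp, hp'⟩ := h1
      rwa [show p = z from Subtype.ext hp'] at hp
  have surj₀ : Function.Surjective π₀ := S.eH.surjective.comp (QuotientGroup.mk'_surjective _)
  have hb_notR : b ∉ S.R := by
    intro h1
    obtain ⟨w, hw, hwe⟩ := cover _ h1
    have h2 := List.all_eq_true.1 (rList_avoid rr hrr) w hw
    simp only [Bool.and_eq_true, Bool.not_eq_true'] at h2
    rw [(ev_eq_iff L P _ _).1 ((ev_wB P).trans hwe.symm)] at h2
    exact Bool.noConfusion h2.1.1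
  have hb3 : b * b * b = 1 := by
    simpa [pow_succ] using P.b_cube
  obtain ⟨c, hc⟩ := conj_β₀ (π₀ ⟨b, hbH⟩)
    (by rw [← map_mul, ← map_mul, show (⟨b, hbH⟩ * ⟨b, hbH⟩ * ⟨b, hbH⟩ : S.H) = 1 from
      Subtype.ext hb3, map_one])
    (fun h1 => hb_notR ((ker₀ _).1 h1))
  let π : S.H →* Perm (Fin 5) := (MulAut.conj c).toMonoidHom.comp π₀
  have hπ : ∀ z, π z = c * π₀ z * c⁻¹ := fun z => rfl
  have ker : ∀ z : S.H, π z = 1 ↔ (z : G) ∈ S.R := fun z => by
    rw [hπ, conj_eq_one_iff, ker₀]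
  have surj : Function.Surjective π := (MulAut.conj c).surjective.comp surj₀
  have inR : ∀ z : S.H, π z = 1 → (z : G) ∈ S.R := fun z => (ker z).1
  have hβ : π ⟨b, hbH⟩ = β₀ := hc
  -- the sign
  let ε : S.H →* ℤˣ :=
    { toFun := fun z => if (z : G) * e * (z : G)⁻¹ = e then 1 else -1
      map_one' := by simp
      map_mul' := by
        intro y z
        have e1 : ((y * z : S.H) : G) * e * ((y * z : S.H) : G)⁻¹ =
            (y : G) * ((z : G) * e * (z : G)⁻¹) * (y : G)⁻¹ := by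
          simp [mul_assoc]
        rw [e1]
        have hinv : ∀ w : G, w * e⁻¹ * w⁻¹ = (w * e * w⁻¹)⁻¹ := fun w => by group
        rcases e_act _ y.2 with hy | hy <;> rcases e_act _ z.2 with hz | hz <;>
          rw [hz] <;> simp only [hinv, hy, inv_inv, inv_ne, if_true, if_false] <;> simp }
  have hεR : Cfsg.pCore 2 S.H ≤ ε.ker := by
    intro z hz
    rw [MonoidHom.mem_ker]
    have h1 := comm_e _ (show (z : G) ∈ S.R by rw [S.hR]; exact ⟨z, hz, rfl⟩)
    show (if (z : G) * e * (z : G)⁻¹ = e then (1 : ℤˣ) else -1) = 1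
    rw [if_pos (by rw [h1, mul_inv_cancel_right])]
  let φ : Perm (Fin 5) →* ℤˣ := (QuotientGroup.lift _ ε hεR).comp
    (S.eH.symm.toMonoidHom.comp (MulAut.conj c).symm.toMonoidHom)
  have hφ : ∀ z, φ (π z) = ε z := by
    intro z
    show QuotientGroup.lift _ ε hεR (S.eH.symm ((MulAut.conj c).symm ((MulAut.conj c) (π₀ z)))) = _
    rw [MulEquiv.symm_apply_apply]
    show QuotientGroup.lift _ ε hεR (S.eH.symm (S.eH _)) = _
    rw [MulEquiv.symm_apply_apply]
    rfl
  have hse : gs a b * e * gs a b = e⁻¹ := by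
    simpa [ev, mlet, mul_assoc] using evEq f4
  have hxe : gx a b e * e * gx a b e = e⁻¹ := by
    simpa [ev, mlet, mul_assoc] using evEq f5
  have εneg : ∀ {z : G} (hz : z ∈ S.H), z * z = 1 → z * e * z = e⁻¹ → ε ⟨z, hz⟩ = -1 := by
    intro z hz h1 h2
    show (if z * e * z⁻¹ = e then (1 : ℤˣ) else -1) = -1
    rw [inv_eq_of_mul_eq_one_right h1, h2, if_neg inv_ne]
  have hsurj : Function.Surjective φ := by
    intro u
    rcases Int.units_eq_one_or u with rfl | rfl
    · exact ⟨1, map_one φ⟩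
    · exact ⟨π ⟨gs a b, hsH⟩, by rw [hφ, εneg hsH P.s_sq hse]⟩
  have hsign : ∀ z, Equiv.Perm.sign (π z) = ε z := fun z => by
    rw [← hφ, Equiv.Perm.eq_sign_of_surjective_hom hsurj]
  -- `h`
  obtain ⟨⟨h0, h0H⟩, h0η⟩ := surj η₀
  have hy : b⁻¹ * (h0 * b * h0⁻¹) ∈ S.R := inR (⟨b, hbH⟩⁻¹ * (⟨h0, h0H⟩ * ⟨b, hbH⟩ * ⟨h0, h0H⟩⁻¹))
    (by rw [map_mul, map_mul, map_mul, map_inv, map_inv, h0η, hβ, η₀_comm, inv_mul_cancel])
  obtain ⟨w, hw, hwe⟩ := cover _ hy
  have h2 := List.all_eq_true.1 (rList_sylow rr hrr) w hw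
  have h3 : wid (wB ++ w ++ (wB ++ w) ++ (wB ++ w)) = true := by
    rw [← ev_eq_one_iff L P]
    simp only [ev_append, ev_wB P, hwe, mul_inv_cancel_left]
    calc h0 * b * h0⁻¹ * (h0 * b * h0⁻¹) * (h0 * b * h0⁻¹) = h0 * (b * b * b) * h0⁻¹ := by group
      _ = 1 := by rw [hb3, mul_one, mul_inv_cancel]
  rw [h3, Bool.not_true, Bool.false_or, List.any_eq_true] at h2
  obtain ⟨p, hp, hp'⟩ := h2
  set ρ := ev (mlet a b e) p with hρdef
  have hρ : ρ ∈ S.R := rList_mem P hR p hp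
  have h4 : ρ * b * ρ⁻¹ = h0 * b * h0⁻¹ := by
    have := evEq hp'
    rwa [ev_append, ev_append, ev_winv P, ev_wB P, ev_append, ev_wB P, hwe,
      mul_inv_cancel_left] at this
  set h := ρ⁻¹ * h0 with hhdef
  have hH : h ∈ S.H := mul_mem (inv_mem (R_le_H S hρ)) h0H
  have hη : π ⟨h, hH⟩ = η₀ := by
    rw [show (⟨h, hH⟩ : S.H) = ⟨ρ, R_le_H S hρ⟩⁻¹ * ⟨h0, h0H⟩ from rfl, map_mul, map_inv,
      (ker ⟨ρ, R_le_H S hρ⟩).2 hρ, h0η, inv_one, one_mul]
  have hcb : h * b = b * h := by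
    calc h * b = ρ⁻¹ * (h0 * b * h0⁻¹) * h0 := by rw [hhdef]; group
      _ = b * h := by rw [← h4, hhdef]; group
  -- outside `M`
  have hγ2 : gg a b e * gg a b e ∈ S.R := by
    obtain ⟨y, hy, hy'⟩ := List.any_eq_true.1 (rList_sq rr hrr)
    have := evEq hy'
    rw [ev_append, ev_wG P] at this
    rw [this]
    exact rList_mem P hR y hy
  have hnot : h ∉ S.M := by
    intro hM
    have hgconj : h * gg a b e * h⁻¹ ∈ S.A := by
      obtain ⟨p, hp, hp'⟩ := hgA
      exact ⟨⟨h, hM⟩ * p * ⟨h, hM⟩⁻¹,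
        (inferInstance : (Cfsg.pCore 2 S.M).Normal).conj_mem p hp _, by simp [← hp']⟩
    set γ := π ⟨gg a b e, hgH⟩ with hγ
    refine no_gamma γ ?_ ?_ ?_ ?_ ?_
    · rw [hγ, ← map_mul]; exact (ker _).2 hγ2
    · intro h1
      obtain ⟨y, hy, hy'⟩ := cover _ ((ker _).1 h1)
      have h5 := List.all_eq_true.1 (rList_avoid rr hrr) y hy
      simp only [Bool.and_eq_true, Bool.not_eq_true'] at h5
      rw [(ev_eq_iff L P _ _).1 ((ev_wG P).trans hy'.symm)] at h5
      exact Bool.noConfusion h5.1.2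
    · rw [hγ, ← hβ, ← map_inv, ← map_mul, ← map_mul, ← map_mul, ← map_mul]
      congr 1
      refine Subtype.ext ?_
      have h5 := (ev_eq_one_iff L P _).2 f1
      simp only [ev_append, ev_winv P, ev_conjb P, ev_wG P] at h5
      rw [mul_inv_eq_one, mul_inv_eq_iff_eq_mul] at h5
      exact h5
    · rw [hγ, ← hβ, ← map_inv, ← map_mul, ← map_mul, ← map_mul, ← map_mul, ← map_mul, ← map_mul]
      refine (congrArg π (Subtype.ext ?_)).trans (map_one π)
      have h5 := (ev_eq_one_iff L P _).2 f2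
      simp only [ev_append, ev_conjb P, ev_wG P] at h5
      exact h5
    · rw [hγ, ← hη, ← map_inv, ← map_mul, ← map_mul, ← map_mul, ← map_mul]
      exact congrArg π (Subtype.ext (L.A_comm _ hgA _ hgconj))
  have hsq : h * h = 1 ∨ h * h = e ∨ h * h = e * e ∨ h * h = e⁻¹ := by
    have h5 : h * h ∈ S.R := inR (⟨h, hH⟩ * ⟨h, hH⟩) (by rw [map_mul, hη, η₀_sq])
    obtain ⟨y, hy, hy'⟩ := cover _ h5
    have h6 := List.all_eq_true.1 (rList_comm_b rr hrr) y hy
    have h7 : weq (y ++ wB) (wB ++ y) = true := by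
      rw [← ev_eq_iff L P, ev_append, ev_append, ev_wB P, hy']
      rw [mul_assoc, hcb, ← mul_assoc, hcb, mul_assoc]
    rw [h7, Bool.not_true, Bool.false_or, List.any_eq_true] at h6
    obtain ⟨q, hq, hq'⟩ := h6
    rw [← hy', evEq hq']
    exact ePow_ev q hq
  have he' : h * e * h⁻¹ = e⁻¹ := by
    rcases e_act h hH with h5 | h5
    · exfalso
      have h6 := hsign ⟨h, hH⟩
      rw [hη, sign_η₀] at h6
      have h7 : ε ⟨h, hH⟩ = 1 := if_pos h5
      rw [h7] at h6
      exact absurd h6 (by decide)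
    · exact h5
  refine ⟨h, hH, hnot, hcb, he', ?_, ?_, ?_⟩
  · have hfix : ∀ q, h * h = q → h * q * h⁻¹ = q := by
      rintro q rfl; group
    rcases hsq with h5 | h5 | h5 | h5
    · exact Or.inl h5
    · exfalso; exact inv_ne (he'.symm.trans (hfix e h5))
    · exact Or.inr (h5.trans P.t_eq.symm)
    · exfalso
      have h8 := hfix _ h5
      rw [show h * e⁻¹ * h⁻¹ = (h * e * h⁻¹)⁻¹ by group, he', inv_inv] at h8
      exact inv_ne h8.symm
  all_goals
    set σ := π ⟨gs a b, hsH⟩ with hσ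
    set ξ := π ⟨gx a b e, hxH⟩ with hξ
    obtain ⟨hA, hC⟩ := sigma_xi σ
      (by rw [hσ, ← map_mul]; exact (congrArg π (Subtype.ext P.s_sq)).trans (map_one π))
      (by
        rw [hσ, ← hβ, ← map_inv, ← map_mul, ← map_mul]
        refine congrArg π (Subtype.ext ?_)
        have h5 := evEq f3
        rw [ev_append, ev_append, ev_wB P, ev_binv P] at h5
        simpa [ev, mlet] using h5)
      (by rw [hσ, hsign]; exact εneg hsH P.s_sq hse)
      ξ
      (by rw [hξ, ← map_mul]; exact (congrArg π (Subtype.ext P.x_sq)).trans (map_one π))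
      (by rw [hξ, hsign]; exact εneg hxH P.x_sq hxe)
      (by
        rw [hσ, hξ, ← map_mul, ← map_mul]
        refine (ker _).2 ?_
        show gs a b * gx a b e * (gs a b * gx a b e) ∈ S.R
        rw [← P.v_eq, hR]
        exact Subgroup.subset_closure (by simp))
      (by
        rw [hσ, hξ, ← map_mul]
        intro h5
        obtain ⟨y, hy, hy'⟩ := cover _ ((ker _).1 h5)
        have h6 := List.all_eq_true.1 (rList_avoid rr hrr) y hy
        simp only [Bool.and_eq_true, Bool.not_eq_true'] at h6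
        have h7 : ev (mlet a b e) [1, 3] = gs a b * gx a b e := by simp [ev, mlet]
        rw [(ev_eq_iff L P _ _).1 (h7.trans hy'.symm)] at h6
        exact Bool.noConfusion h6.2)
      (by
        rw [hξ, ← hη]
        intro h5
        have h6 : (((⟨h, hH⟩ : S.H) * ⟨gx a b e, hxH⟩⁻¹ : S.H) : G) ∈ S.R :=
          inR _ (by rw [map_mul, map_inv, h5, mul_inv_cancel])
        apply hnot
        have h7 := mul_mem (L.R_le_M h6) (hB (gx a b e) (by simp)).2
        simpa using h7)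
  · exact inR (⟨h, hH⟩ * ⟨gs a b, hsH⟩ * ⟨h, hH⟩⁻¹ * ⟨gs a b, hsH⟩)
      (by rw [map_mul, map_mul, map_mul, map_inv, hη, ← hσ, hA])
  · exact inR (⟨h, hH⟩ * ⟨gx a b e, hxH⟩ * (⟨h, hH⟩ * ⟨gx a b e, hxH⟩) * (⟨h, hH⟩ * ⟨gx a b e, hxH⟩))
      (by rw [map_mul, map_mul, map_mul, hη, ← hξ, hC])

end CfsgLib.Spor.HSLocal.HEltI
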