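import Cfsg.Agent.Lib.Spor.PermOut.HS
import Cfsg.Agent.Lib.J1Unique.Pres
import Cfsg.Agent.Lib.Spor.HSLocal.Data
import Cfsg.Agent.Lib.Spor.HSLocal.HomData

/-!
The six permutations of one hundred points generate a copy of the Higman-Sims group: a group
presented by relations they satisfy, of order at most `44352000`, is isomorphic to it.
-/

set_option autoImplicit false
set_option maxRecDepth 100000
set_option maxHeartbeats 1000000
set_option linter.style.haveILetI false

namespace CfsgLib.Spor.HSLocal

open Cfsg CfsgLib.Spor CfsgLib.Spor.Config CfsgLib.Spor.PermOut CfsgLib.J1Unique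
open CfsgLib.Spor.HSConfig (bigV bigW pairStab gens_pair pairStab_fix hsList hsGens)

/-- the permutation of a letter -/
noncomputable def sigma (k : ℕ) : Equiv.Perm (Fin 100) := permOf 100 (HomData.sixC.getD k 0)

/-- the program from the model stores the six codes -/
theorem fromModel_ok : slp 100 (HSData.gens.headD 0) HomData.fromModel HSData.gens.length
    (fill HSData.gens 0 .nil) = true := by decide +kernel

theorem sixPos_ok : HomData.sixPos.map (fun i =>
    (fill (HomData.fromModel.map Prod.fst) HSData.gens.length (fill HSData.gens 0 .nil)).get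
      (HSData.gens.headD 0) i) = HomData.sixC := by decide +kernel

theorem fromSix_ok : slp 100 (HomData.sixC.headD 0) HomData.fromSix 6
    (fill HomData.sixC 0 .nil) = true := by decide +kernel

/-- the transversals as codes -/
def levels : List Lev := HomData.levs.map fun l => (l.1, none, l.2.map fun i =>
  (fill (HomData.fromSix.map Prod.fst) 6 (fill HomData.sixC 0 .nil)).get (HomData.sixC.headD 0) i)

theorem levels_ok : levOK 100 0 levels [] = true := by decide +kernel

theorem levels_prod : (levels.map fun l => l.2.2.length).prod = 44352000 := by decide +kernel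

/-- the words act trivially -/
def wordsTriv (W : List (List ℕ)) : Bool :=
  W.all fun w => (w.all fun k => Nat.blt k 6) &&
    allN 100 fun x => Nat.beq (app (w.map fun k => HomData.sixC.getD k 0) x) x

theorem exists_model_six : ∃ M : Subgroup (Equiv.Perm (Fin 100)),
    Nonempty (Cfsg.Spor.HS ≃* M) ∧ Nat.card M = 44352000 ∧ ∀ k < 6, InM M (HomData.sixC.getD k 0) := by
  haveI : IsSimpleGroup pairStab := ConwaySimple.isSimple_hs
  obtain ⟨M, ⟨e⟩, hM⟩ := exists_model (K := pairStab) HSConfig.hsList_length HSData.pts_ok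
    HSConfig.hsList_nodup HSConfig.ncard_100 (pairStab_fix 24 (-24)) gens_pair HSData.gens
    (by decide +kernel) HSData.progs_ok HSData.moves_ok
  obtain ⟨e'⟩ := HSIso.pairStab_equiv_hs
  refine ⟨M, ⟨e'.symm.trans e⟩, ?_, fun k hk => ?_⟩
  · rw [← Nat.card_congr e.toEquiv, ConwaySimple.natCard_hsStd]
  have hd : InM M (HSData.gens.headD 0) := hM _ (by decide +kernel)
  obtain ⟨-, hall⟩ := inM_slp hd _ _ _ fromModel_ok (all_fill HSData.gens 0 (t := .nil) hM trivial)
  rw [← sixPos_ok, List.getD_eq_getElem _ _ (by rw [List.length_map]; exact hk), List.getElem_map]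
  exact hall.get hd _

theorem sigma_rep {k : ℕ} (hk : k < 6) : PermOut.Rep (sigma k) (HomData.sixC.getD k 0) := by
  obtain ⟨M, -, -, h⟩ := exists_model_six
  exact (h k hk).rep

theorem sigma_rels {W : List (List ℕ)} (h : wordsTriv W = true) :
    ∀ w ∈ W, wv sigma w = 1 := by
  intro w hw
  simp only [wordsTriv, List.all_eq_true, Bool.and_eq_true, Nat.blt_eq, allN_iff, Nat.beq_eq] at h
  obtain ⟨h1, h2⟩ := h w hw
  have e : w.map sigma = (w.map fun k => HomData.sixC.getD k 0).map (permOf 100) := by
    rw [List.map_map]; rfl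
  refine Equiv.ext fun i => Fin.ext ?_
  rw [wv, e, app_prod _ (fun a ha => ?_) i, h2 i i.2]
  · rfl
  · obtain ⟨k, hk, rfl⟩ := List.mem_map.1 ha
    exact sigma_rep (h1 k hk)

/-- A group presented by true relations of the six permutations, of order at most that of the
Higman-Sims group, is isomorphic to it. -/
theorem pres_equiv_hs {W : List (List ℕ)} (hlt : ∀ w ∈ W, ∀ x ∈ w, x < 6)
    (htriv : wordsTriv W = true) (hne : Nat.card (PG 6 W) ≠ 0)
    (hle : Nat.card (PG 6 W) ≤ 44352000) : Nonempty (Cfsg.Spor.HS ≃* PG 6 W) := by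
  classical
  haveI : Finite (PG 6 W) := Nat.finite_of_card_ne_zero hne
  obtain ⟨M, ⟨e⟩, hcard, hmem⟩ := exists_model_six
  let ρ : PG 6 W →* Equiv.Perm (Fin 100) := toG 6 W sigma hlt (sigma_rels htriv)
  have hρ : ∀ k < 6, InM ρ.range (HomData.sixC.getD k 0) := fun k hk =>
    ⟨sigma k, ⟨pg 6 W k, toG_pg sigma hlt _ hk⟩, sigma_rep hk⟩
  have hle' : ρ.range ≤ M := by
    rw [MonoidHom.range_eq_map, ← closure_pg W, MonoidHom.map_closure, Subgroup.closure_le]
    rintro _ ⟨_, ⟨k, hk, rfl⟩, rfl⟩
    show ρ (pg 6 W k) ∈ M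
    rw [toG_pg sigma hlt _ hk]
    exact (hmem k hk).mem
  have hall6 : ∀ c ∈ HomData.sixC, InM ρ.range c := by
    intro c hc
    obtain ⟨k, hk, rfl⟩ := List.getElem_of_mem hc
    rw [← List.getD_eq_getElem _ 0 hk]
    exact hρ k (hk.trans_eq (by decide +kernel))
  have hd : InM ρ.range (HomData.sixC.headD 0) := hall6 _ (by decide +kernel)
  obtain ⟨-, hall⟩ := inM_slp hd _ _ _ fromSix_ok (all_fill HomData.sixC 0 (t := .nil) hall6 trivial)
  have hlev : ∀ l ∈ levels, ∀ t ∈ l.2.2, InM ρ.range t := by
    intro l hl t ht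
    obtain ⟨q, -, rfl⟩ := List.mem_map.1 hl
    obtain ⟨i, -, rfl⟩ := List.mem_map.1 ht
    exact hall.get hd i
  obtain ⟨hel, hcardel⟩ := elts_spec levels [] levels_ok hlev
  have hge : 44352000 ≤ Nat.card ρ.range := by
    rw [← levels_prod, ← hcardel, ← Nat.card_eq_finsetCard]
    exact Nat.card_le_card_of_injective (fun g => (⟨g.1, (hel g.1 g.2).1⟩ : ρ.range))
      fun a b h => Subtype.ext (Subtype.mk.inj h)
  have heq : ρ.range = M := Subgroup.eq_of_le_of_card_ge hle' (hcard.trans_le hge)
  have hsurj : Function.Surjective ρ.rangeRestrict := ρ.rangeRestrict_surjective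
  have hbij : Function.Bijective ρ.rangeRestrict := by
    refine (Nat.bijective_iff_surjective_and_card _).2 ⟨hsurj, ?_⟩
    exact le_antisymm (hle.trans hge) (Nat.card_le_card_of_surjective _ hsurj)
  exact ⟨e.trans ((MulEquiv.subgroupCongr heq.symm).trans (MulEquiv.ofBijective _ hbij).symm)⟩

end CfsgLib.Spor.HSLocal
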