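import Cfsg.Agent.Lib.Spor.HSLocal.Defs
import Cfsg.Agent.Lib.Spor.HSLocal.HomPerm
import Cfsg.Agent.Lib.PresCert.Walk
import Cfsg.Agent.Lib.PresCert.Presented
import Cfsg.Agent.Lib.Spor.HSLocal.TcMainCert
import Cfsg.Agent.Lib.Spor.HSLocal.TcFiveCert
import Cfsg.Agent.Lib.Spor.HSLocal.TcSqxCert
import Cfsg.Agent.Lib.Spor.HSLocal.TcBad0Cert
import Cfsg.Agent.Lib.Spor.HSLocal.TcBad1Cert
import Cfsg.Agent.Lib.Spor.HSLocal.TcBad2Cert
import Cfsg.Agent.Lib.Spor.HSLocal.TcBad4Cert
import Cfsg.Agent.Lib.Spor.HSLocal.TcBad5Cert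
import Cfsg.Agent.Lib.Spor.HSLocal.TcBad6Cert
import Cfsg.Agent.Lib.Spor.HSLocal.TcBad7Cert

/-!
The forced relation: the right candidate gives a homomorphism from the Higman-Sims group, every
other candidate makes the last generator fall into the subgroup of the first five.
-/

set_option autoImplicit false
set_option maxRecDepth 100000

namespace CfsgLib.Spor.HSLocal

open CfsgLib.PresCert CfsgLib.J1Unique

universe u

/-- all relators when the forced relation picks `c` -/
def known (c : List (Fin 6)) : List (List (Fin 6)) :=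
  (List.finRange 6).map (fun i => [i, i]) ++ Data.rels ++
    [Data.chain ++ [2, 3] ++ Data.chain.reverse ++ c.reverse]

theorem known_eq_one {G : Type u} [Group G] {f : Fin 6 → G} (h : Six f) {c : List (Fin 6)}
    (hc : cbc f = ev f c) : ∀ w ∈ known c, (w.map f).prod = 1 := by
  intro w hw
  simp only [known, List.mem_append, List.mem_map, List.mem_singleton] at hw
  rcases hw with (⟨i, -, rfl⟩ | hw) | rfl
  · simpa using h.sq i
  · exact h.rels w hw
  · simp only [List.map_append, List.prod_append]
    rw [prod_reverse_of_invol f h.sq, prod_reverse_of_invol f h.sq]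
    simp only [List.map_cons, List.map_nil, List.prod_cons, List.prod_nil, mul_one]
    rw [mul_inv_eq_one]
    exact hc

theorem five_eq {G : Type u} [Group G] (f : Fin 6 → G) :
    wordsGroup [[0], [1], [2], [3], [4]] f = five f := by
  refine congrArg Subgroup.closure (Set.ext fun q => ?_)
  simp only [List.mem_cons, List.not_mem_nil, or_false, Set.mem_ofPred_eq, Set.mem_insert_iff,
    Set.mem_singleton_iff]
  constructor
  · rintro ⟨w, rfl | rfl | rfl | rfl | rfl, rfl⟩ <;> simp
  · rintro (rfl | rfl | rfl | rfl | rfl)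
    exacts [⟨[0], by simp⟩, ⟨[1], by simp⟩, ⟨[2], by simp⟩, ⟨[3], by simp⟩, ⟨[4], by simp⟩]

/-- the six letters -/
def sel6 : List (Fin 6) := [0, 1, 2, 3, 4, 5]

/-- the checks of a collapsing certificate -/
noncomputable def badOK (C : Cert) (c : List (Fin 6)) : Bool :=
  okRels C sel6 (known c) 0 && okSubs C sel6 [[0], [1], [2], [3], [4]] 0 &&
    decide (5 < C.g ∧ C.walk 524288 [5] 0 = some 0)

theorem mem_five_of_cert {G : Type u} [Group G] {f : Fin 6 → G} (h : Six f) {c : List (Fin 6)}
    (hc : cbc f = ev f c) {C : Cert} {js : List Cert.Just} (V : Cert.Valid C js)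
    (hb : badOK C c = true) : f 5 ∈ five f := by
  simp only [badOK, Bool.and_eq_true, decide_eq_true_eq] at hb
  obtain ⟨⟨hr, hs⟩, hg, hw⟩ := hb
  have := word_mem V h.sq (known_eq_one h hc) hr hs [5] (fun x hx => by
    rw [List.mem_singleton] at hx; omega) _ hw
  rw [five_eq] at this
  simpa [sel6] using this

theorem bad0 : badOK TcBad0.cert (Data.cands.getD 0 []) = true := by decide +kernel
theorem bad1 : badOK TcBad1.cert (Data.cands.getD 1 []) = true := by decide +kernel
theorem bad2 : badOK TcBad2.cert (Data.cands.getD 2 []) = true := by decide +kernel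
theorem bad4 : badOK TcBad4.cert (Data.cands.getD 4 []) = true := by decide +kernel
theorem bad5 : badOK TcBad5.cert (Data.cands.getD 5 []) = true := by decide +kernel
theorem bad6 : badOK TcBad6.cert (Data.cands.getD 6 []) = true := by decide +kernel
theorem bad7 : badOK TcBad7.cert (Data.cands.getD 7 []) = true := by decide +kernel

/-- every other candidate collapses -/
theorem collapseSpec : CollapseSpec.{u} := by
  intro G _ f h c hc hne hcb
  obtain ⟨i, hi, rfl⟩ := List.getElem_of_mem hc
  rw [← List.getD_eq_getElem _ ([] : List (Fin 6)) hi] at hne hcb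
  have h8 : i < 8 := hi.trans_eq (by decide +kernel)
  interval_cases i
  · exact mem_five_of_cert h hcb TcBad0.valid bad0
  · exact mem_five_of_cert h hcb TcBad1.valid bad1
  · exact mem_five_of_cert h hcb TcBad2.valid bad2
  · exact absurd rfl hne
  · exact mem_five_of_cert h hcb TcBad4.valid bad4
  · exact mem_five_of_cert h hcb TcBad5.valid bad5
  · exact mem_five_of_cert h hcb TcBad6.valid bad6
  · exact mem_five_of_cert h hcb TcBad7.valid bad7

/-- the relators of the presentation -/
def presRels : List (List ℕ) := (known trueCand).map fun w => w.map Fin.val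

theorem presRels_lt : ∀ w ∈ presRels, ∀ x ∈ w, x < 6 := by decide +kernel

theorem presRels_triv : wordsTriv presRels = true := by decide +kernel

theorem sqx_ok : (okRels TcSqx.cert ([2, 3, 4] : List (Fin 6)) (known trueCand) 0 &&
    okSubs TcSqx.cert ([2, 3, 4] : List (Fin 6)) [] 0 && Nat.beq TcSqx.cert.n 96) = true := by
  decide +kernel

theorem five_ok : (okRels TcFive.cert ([0, 1, 2, 3, 4] : List (Fin 6)) (known trueCand) 0 &&
    okSubs TcFive.cert ([0, 1, 2, 3, 4] : List (Fin 6)) [[2], [3], [4]] 0 &&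
      Nat.beq TcFive.cert.n 80) = true := by decide +kernel

theorem main_ok : (okRels TcMain.cert sel6 (known trueCand) 0 &&
    okSubs TcMain.cert sel6 [[0], [1], [2], [3], [4]] 0 && Nat.beq TcMain.cert.n 5775) = true := by
  decide +kernel

/-- the order of the presented group is at most that of the Higman-Sims group -/
theorem card_pres : Nat.card (PG 6 presRels) ≠ 0 ∧ Nat.card (PG 6 presRels) ≤ 44352000 := by
  set f : Fin 6 → PG 6 presRels := fun i => pg 6 presRels i with hfdef
  have hk : ∀ w ∈ known trueCand, (w.map f).prod = 1 := by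
    intro w hw
    have h := pg_rel (n := 6) (rels := presRels) (List.mem_map.2 ⟨w, hw, rfl⟩)
    rw [wv, List.map_map] at h
    exact h
  have hsq : ∀ i, f i * f i = 1 := fun i => by
    have h := hk [i, i] (List.mem_append_left _ (List.mem_append_left _
      (List.mem_map.2 ⟨i, List.mem_finRange i, rfl⟩)))
    simpa using h
  obtain ⟨⟨hr1, hs1⟩, hn1⟩ := (by simpa only [Bool.and_eq_true, Nat.beq_eq] using sqx_ok :
    (_ ∧ _) ∧ TcSqx.cert.n = 96)
  obtain ⟨⟨hr2, hs2⟩, hn2⟩ := (by simpa only [Bool.and_eq_true, Nat.beq_eq] using five_ok :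
    (_ ∧ _) ∧ TcFive.cert.n = 80)
  obtain ⟨⟨hr3, hs3⟩, hn3⟩ := (by simpa only [Bool.and_eq_true, Nat.beq_eq] using main_ok :
    (_ ∧ _) ∧ TcMain.cert.n = 5775)
  have i1 := index_bound TcSqx.valid hsq hk hr1 hs1
  have i2 := index_bound TcFive.valid hsq hk hr2 hs2
  have i3 := index_bound TcMain.valid hsq hk hr3 hs3
  rw [wordsGroup_nil, hn1] at i1
  rw [show ([[2], [3], [4]] : List (List (Fin 6))) = ([2, 3, 4] : List (Fin 6)).map fun x => [x] from rfl,
    wordsGroup_singletons, hn2] at i2
  rw [show ([[0], [1], [2], [3], [4]] : List (List (Fin 6))) =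
      ([0, 1, 2, 3, 4] : List (Fin 6)).map fun x => [x] from rfl,
    wordsGroup_singletons, hn3] at i3
  have hmono : ∀ l l' : List (Fin 6), (∀ x ∈ l, x ∈ l') → lettersGroup l f ≤ lettersGroup l' f :=
    fun l l' hl => Subgroup.closure_mono fun _ ⟨x, hx, e⟩ => ⟨x, hl x hx, e⟩
  have c1 := CardLE.step bot_le CardLE.bot i1
  have c2 := CardLE.step (hmono _ _ (by decide)) c1 i2
  have c3 := CardLE.step (hmono _ _ (by decide)) c2 i3
  have htop : lettersGroup sel6 f = ⊤ := by
    rw [eq_top_iff, ← closure_pg presRels, lettersGroup]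
    refine Subgroup.closure_mono ?_
    rintro _ ⟨x, hx, rfl⟩
    exact ⟨⟨x, hx⟩, (by decide : ∀ i : Fin 6, i ∈ sel6) _, rfl⟩
  rw [htop] at c3
  obtain ⟨h0, hle⟩ := c3
  rw [Subgroup.card_top] at h0 hle
  exact ⟨h0, hle.trans (by norm_num)⟩

/-- the right candidate gives a homomorphism from the Higman-Sims group -/
theorem homSpec : HomSpec.{u} := by
  intro G _ f h hc
  obtain ⟨e⟩ := pres_equiv_hs presRels_lt presRels_triv card_pres.1 card_pres.2
  let X : ℕ → G := fun k => if hk : k < 6 then f ⟨k, hk⟩ else 1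
  have hX : ∀ w ∈ presRels, wv X w = 1 := by
    intro w hw
    obtain ⟨w, hw', rfl⟩ := List.mem_map.1 hw
    rw [wv, List.map_map, List.map_congr_left (g := f) fun i _ => by simp [X]]
    exact known_eq_one h hc w hw'
  refine ⟨(toG 6 presRels X presRels_lt hX).comp e.toMonoidHom, fun i => ⟨e.symm (pg 6 presRels i), ?_⟩⟩
  show toG 6 presRels X presRels_lt hX (e (e.symm (pg 6 presRels i))) = f i
  rw [MulEquiv.apply_symm_apply, toG_pg X presRels_lt hX i.2]
  simp [X]

end CfsgLib.Spor.HSLocal
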