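import Mathlib

/-!
Finite checks on `(ℤ/4)³` for the splitting of the two-local subgroup.
-/

set_option autoImplicit false
set_option maxRecDepth 100000

namespace CfsgLib.Spor.HSLocal.LocalFin

/-- coordinates of `O₂(M)` -/
abbrev C4 : Type := ZMod 4 × ZMod 4 × ZMod 4

/-- the linear map with the given images of the basis -/
def lin (p q r v : C4) : C4 :=
  (v.1 * p.1 + v.2.1 * q.1 + v.2.2 * r.1,
    v.1 * p.2.1 + v.2.1 * q.2.1 + v.2.2 * r.2.1,
    v.1 * p.2.2 + v.2.1 * q.2.2 + v.2.2 * r.2.2)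

theorem lin_eq (p q r v : C4) :
    lin p q r v = v.1.val • p + v.2.1.val • q + v.2.2.val • r := by
  ext <;> simp [lin]

/-- number of fixed vectors -/
def fixCard (f : C4 → C4) : ℕ := (Finset.univ.filter fun v => f v = v).card

/-- the three basis vectors -/
def basisList : List C4 := [(1, 0, 0), (0, 1, 0), (0, 0, 1)]

/-- the action of an element of the eventual complement -/
def act (W W2 I : C4 → C4) (x y z : Bool) (v : C4) : C4 :=
  let v1 := if z then I v else v
  let v2 := if y then W2 v1 else v1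
  if x then W v2 else v2

/-- the eight candidates for an image with the prescribed double -/
def pList : List C4 :=
  [(1, 1, 0), (1, 1, 2), (1, 3, 0), (1, 3, 2), (3, 1, 0), (3, 1, 2), (3, 3, 0), (3, 3, 2)]

/-- the eight candidates for an image with the prescribed double -/
def qList : List C4 :=
  [(0, 0, 1), (0, 0, 3), (0, 2, 1), (0, 2, 3), (2, 0, 1), (2, 0, 3), (2, 2, 1), (2, 2, 3)]

theorem mem_pList : ∀ p : C4, p + p = (2, 2, 0) → p ∈ pList := by decide +kernel

theorem mem_qList : ∀ q : C4, q + q = (0, 0, 2) → q ∈ qList := by decide +kernel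

/-- the action of the first involution -/
def mW (p q : C4) : C4 → C4 := lin (1, 0, 0) p q

/-- the action of the exchanging involution -/
def mI (s : ZMod 4) : C4 → C4 := lin (s, 0, 0) (0, 0, 1) (0, 1, 0)

/-- the action of the second involution -/
def mW2 (s : ZMod 4) (p q v : C4) : C4 := mI s (mW p q (mI s v))

/-- the properties of the action which follow from the setup -/
def Hyp (s : ZMod 4) (p q : C4) : Prop :=
  (∀ v ∈ basisList, mW p q (mW p q v) = v) ∧
    (∀ v ∈ basisList, mW p q (mW2 s p q v) = mW2 s p q (mW p q v)) ∧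
    fixCard (mW p q) = fixCard (mI s) ∧
    fixCard (mW p q) = fixCard (fun v => mW p q (mW2 s p q v))

/-- a shift making the second four-group elementary -/
def Shift (s c : ZMod 4) (p q a : C4) : Prop :=
  a + mW p q a = 0 ∧ a + mW p q (mI s a) + (c, 0, 0) = mI s a + mW2 s p q a

instance (s : ZMod 4) (p q : C4) : Decidable (Hyp s p q) := by unfold Hyp; infer_instance

instance (s c : ZMod 4) (p q a : C4) : Decidable (Shift s c p q a) := by
  unfold Shift; infer_instance

theorem exists_shift : ∀ s ∈ [(1 : ZMod 4), 3], ∀ p ∈ pList, ∀ q ∈ qList, Hyp s p q →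
    ∀ c ∈ [(0 : ZMod 4), 2], ∃ a : C4, Shift s c p q a := by
  decide +kernel

theorem act_inj : ∀ s ∈ [(1 : ZMod 4), 3], ∀ p ∈ pList, ∀ q ∈ qList, ∀ x y z x' y' z' : Bool,
    act (mW p q) (mW2 s p q) (mI s) x y z (0, 2, 0) =
        act (mW p q) (mW2 s p q) (mI s) x' y' z' (0, 2, 0) →
      act (mW p q) (mW2 s p q) (mI s) x y z (0, 0, 2) =
        act (mW p q) (mW2 s p q) (mI s) x' y' z' (0, 0, 2) →
      x = x' ∧ y = y' ∧ z = z' := by
  decide +kernel

/-- vectors of order at most two -/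
abbrev E8 : Type := {v : C4 // v + v = 0}

/-- bases of the vectors of order at most two -/
abbrev T8 : Type := {w : E8 × E8 × E8 // w.1.1 ≠ 0 ∧ w.2.1.1 ≠ 0 ∧ w.2.1.1 ≠ w.1.1 ∧ w.2.2.1 ≠ 0 ∧
  w.2.2.1 ≠ w.1.1 ∧ w.2.2.1 ≠ w.2.1.1 ∧ w.2.2.1 ≠ w.1.1 + w.2.1.1}

theorem card_T8 : Nat.card T8 = 168 := by
  rw [Nat.card_eq_fintype_card]
  decide +kernel

theorem half : ∀ v : C4, v + v = 0 → ∃ w : C4, w + w = v := by decide +kernel

theorem two_torsion : Fintype.card E8 = 8 := by decide +kernel

theorem even_cases : ∀ v : C4, v + v = 0 → ∃ i j k : Fin 2,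
    v = (i.1 : ℕ) • ((2, 0, 0) : C4) + (j.1 : ℕ) • ((0, 2, 0) : C4) + (k.1 : ℕ) • ((0, 0, 2) : C4) := by
  decide +kernel

theorem four_nsmul : ∀ v : C4, v + v + v + v = 0 := by decide +kernel

end CfsgLib.Spor.HSLocal.LocalFin
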