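import Cfsg.Agent.Lib.Spor.HSLocal.Defs
import Cfsg.Agent.Lib.Spor.HSLocal.LocalFin
import Cfsg.Agent.Lib.Base.Cores
import Cfsg.Agent.Lib.PGroups.Basic
import Cfsg.Agent.Lib.Coprime.Gaschutz
import Cfsg.Agent.Lib.Classical.PSLSimple
import Cfsg.Agent.Lib.Classical.Order

/-!
The two-local facts of the setup: orders, the centraliser of `V`, and the splitting of `M` over
`O₂(M)`. For the splitting, the transvections of `O₂(H)` and a conjugate exchanging two of their
centralised planes act on `O₂(M) ≅ (ℤ/4)³` with equally many fixed points; a finite check then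
gives an elementary four-group normalised by an involution.
-/

set_option autoImplicit false
set_option linter.style.haveILetI false
set_option linter.unusedSectionVars false
set_option maxRecDepth 100000

namespace CfsgLib.Spor.HSLocal

universe u

open Subgroup LocalFin

namespace LocalAux

variable {G : Type u} [Group G]

theorem gl32_simple : IsSimpleGroup (GL (Fin 3) (ZMod 2)) ∧
    Nat.card (GL (Fin 3) (ZMod 2)) = 168 := by
  haveI : Fact (Nat.Prime 2) := ⟨Nat.prime_two⟩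
  have h168 : Nat.card (GL (Fin 3) (ZMod 2)) = 168 := by
    rw [CfsgLib.Classical.card_GL_fin, Nat.card_zmod]; rfl
  haveI : IsSimpleGroup (Matrix.ProjectiveSpecialLinearGroup (Fin 3) (ZMod 2)) :=
    CfsgLib.Classical.isSimpleGroup_PSL_fin 3 (by norm_num) (by norm_num)
  have hcen3 : Subgroup.center (Matrix.SpecialLinearGroup (Fin 3) (ZMod 2)) = ⊥ := by
    rw [Subgroup.eq_bot_iff_card, CfsgLib.Classical.card_center_SL_fin 3 (by norm_num),
      Nat.card_zmod]
    rfl
  let j : Matrix.ProjectiveSpecialLinearGroup (Fin 3) (ZMod 2) ≃*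
      Matrix.SpecialLinearGroup (Fin 3) (ZMod 2) :=
    (QuotientGroup.quotientMulEquivOfEq hcen3).trans QuotientGroup.quotientBot
  have hbij : Function.Bijective (Matrix.SpecialLinearGroup.toGL :
      Matrix.SpecialLinearGroup (Fin 3) (ZMod 2) →* GL (Fin 3) (ZMod 2)) := by
    refine ⟨Matrix.SpecialLinearGroup.toGL_injective, fun g => ?_⟩
    refine ⟨⟨g.1, ?_⟩, Units.ext rfl⟩
    exact congrArg Units.val (Subsingleton.elim (Matrix.GeneralLinearGroup.det g) 1)
  let e := j.trans (MulEquiv.ofBijective _ hbij)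
  haveI : Nontrivial (GL (Fin 3) (ZMod 2)) :=
    Finite.one_lt_card_iff_nontrivial.1 (by rw [h168]; norm_num)
  exact ⟨IsSimpleGroup.isSimpleGroup_of_surjective e.toMonoidHom e.surjective, h168⟩

/-- A map with small fibres from a large group is surjective. -/
theorem surj_of_fibres [Finite G] {T : Type*} [Finite T] (P K : Subgroup G) (F : P → T)
    (hF : ∀ x y, F x = F y → (x : G)⁻¹ * y ∈ K)
    (hle : Nat.card T * Nat.card K ≤ Nat.card P) : Function.Surjective F := by
  classical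
  by_contra h
  simp only [Function.Surjective, not_forall, not_exists] at h
  obtain ⟨c, hc⟩ := h
  let rep : T → P := Function.invFun F
  have hrep : ∀ x, F (rep (F x)) = F x := fun x => Function.invFun_eq ⟨x, rfl⟩
  let g : P → {d : T // d ≠ c} × K := fun x =>
    (⟨F x, hc x⟩, ⟨(rep (F x) : G)⁻¹ * x, hF _ _ (hrep x)⟩)
  have hg : Function.Injective g := by
    intro x y e
    have e1 : F x = F y := congrArg Subtype.val (congrArg Prod.fst e)
    have e2 : (rep (F x) : G)⁻¹ * x = (rep (F y) : G)⁻¹ * y :=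
      congrArg Subtype.val (congrArg Prod.snd e)
    rw [e1] at e2
    exact Subtype.ext (mul_left_cancel e2)
  have h1 := Nat.card_le_card_of_injective g hg
  have h2 : Nat.card {d : T // d ≠ c} < Nat.card T := by
    haveI := Fintype.ofFinite T
    rw [Nat.card_eq_fintype_card, Nat.card_eq_fintype_card]
    exact Fintype.card_subtype_lt (x := c) (by simp)
  rw [Nat.card_prod] at h1
  exact absurd hle (not_le.2 (lt_of_le_of_lt h1 (Nat.mul_lt_mul_of_pos_right h2 Nat.card_pos)))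

theorem card_sup_mul [Finite G] {H K : Subgroup G} (h : H ≤ Subgroup.normalizer (K : Set G)) :
    Nat.card ↥(H ⊔ K) * Nat.card ↥(H ⊓ K) = Nat.card H * Nat.card K := by
  have hK : K ≤ Subgroup.normalizer (K : Set G) := le_normalizer
  haveI : (K.subgroupOf (Subgroup.normalizer (K : Set G))).Normal :=
    normal_subgroupOf_of_le_normalizer le_rfl
  have e := CfsgLib.Base.card_sup_mul_card_inf (H.subgroupOf (Subgroup.normalizer (K : Set G)))
    (K.subgroupOf (Subgroup.normalizer (K : Set G)))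
  rw [← subgroupOf_sup h hK] at e
  have ei : H.subgroupOf (Subgroup.normalizer (K : Set G)) ⊓
      K.subgroupOf (Subgroup.normalizer (K : Set G)) =
      (H ⊓ K).subgroupOf (Subgroup.normalizer (K : Set G)) := (comap_inf _ _ _).symm
  rw [ei, Nat.card_congr (subgroupOfEquivOfLe (sup_le h hK)).toEquiv,
    Nat.card_congr (subgroupOfEquivOfLe (inf_le_left.trans h)).toEquiv,
    Nat.card_congr (subgroupOfEquivOfLe h).toEquiv,
    Nat.card_congr (subgroupOfEquivOfLe hK).toEquiv] at e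
  exact e

theorem mem_sup_comm {A B : Subgroup G} (h : ∀ a ∈ A, ∀ b ∈ B, Commute a b) {x : G}
    (hx : x ∈ A ⊔ B) : ∃ a ∈ A, ∃ b ∈ B, x = a * b := by
  set f := MonoidHom.noncommCoprod A.subtype B.subtype fun a b => h _ a.2 _ b.2 with hf
  have hr : A ⊔ B ≤ f.range := sup_le
    (fun a ha => ⟨(⟨a, ha⟩, 1), mul_one a⟩) (fun b hb => ⟨(1, ⟨b, hb⟩), one_mul b⟩)
  obtain ⟨⟨a, b⟩, hab⟩ := hr hx
  exact ⟨a, a.2, b, b.2, hab.symm⟩

variable (S : Setup G)

theorem tt : S.t * S.t = 1 := by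
  rw [← pow_two]; have := pow_orderOf_eq_one S.t; rwa [S.ht] at this

theorem t_ne : S.t ≠ 1 := fun h => by
  have := S.ht; rw [h, orderOf_one] at this; omega

theorem mem_H {x : G} : x ∈ S.H ↔ x * S.t = S.t * x := by
  rw [S.hH]; exact mem_centralizer_singleton_iff

theorem R_le_H : S.R ≤ S.H := by rw [S.hR]; exact map_subtype_le _

theorem conj_R {h r : G} (hh : h ∈ S.H) (hr : r ∈ S.R) : h * r * h⁻¹ ∈ S.R := by
  rw [S.hR] at hr ⊢
  obtain ⟨r', hr', rfl⟩ := hr
  exact ⟨⟨h, hh⟩ * r' * ⟨h, hh⟩⁻¹, (Cfsg.pCore_normal 2 S.H).conj_mem r' hr' _, by simp⟩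

theorem t_mem_R : S.t ∈ S.R := by
  have htH : S.t ∈ S.H := (mem_H S).2 rfl
  set N := zpowers (⟨S.t, htH⟩ : S.H) with hN
  haveI : N.Normal := ⟨fun n hn g => by
    obtain ⟨k, rfl⟩ := mem_zpowers_iff.1 hn
    have hc : Commute g (⟨S.t, htH⟩ : S.H) := Subtype.ext ((mem_H S).1 g.2)
    rw [(hc.zpow_right k).eq, mul_inv_cancel_right]
    exact zpow_mem (mem_zpowers _) k⟩
  have hp : IsPGroup 2 N := IsPGroup.of_card (n := 1) (by
    rw [hN, Nat.card_zpowers, ← orderOf_injective S.H.subtype S.H.subtype_injective]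
    simpa using S.ht)
  rw [S.hR]
  exact ⟨⟨S.t, htH⟩, CfsgLib.Base.le_pCore hp (mem_zpowers _), rfl⟩

theorem Cy_le_R : S.Cy ≤ S.R := fun _ h => (S.hCyle h).1

theorem Cy_comm {c x : G} (hc : c ∈ S.Cy) (hx : x ∈ S.R) : Commute c x :=
  (mem_centralizer_iff.1 (S.hCyle hc).2 x hx).symm

theorem R_split {x : G} (hx : x ∈ S.R) : ∃ c ∈ S.Cy, ∃ e ∈ S.E, x = c * e :=
  mem_sup_comm (fun _ hc _ he => Cy_comm S hc (S.hEle he)) (S.hprod.symm ▸ hx)

theorem center_R' {x : G} (hx : x ∈ S.R) (h : ∀ y ∈ S.R, x * y = y * x) : x ∈ S.Cy := by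
  obtain ⟨c, hc, e, he, rfl⟩ := R_split S hx
  refine mul_mem hc ?_
  have : e ∈ S.E ⊓ centralizer (S.E : Set G) := by
    refine ⟨he, mem_centralizer_iff.2 fun y hy => ?_⟩
    have h1 : Commute (c * e) y := h y (S.hEle hy)
    have h2 : Commute c y := Cy_comm S hc (S.hEle hy)
    have := h2.inv_left.mul_left h1
    rw [inv_mul_cancel_left] at this
    exact this.symm.eq
  rw [← S.hmeet] at this
  exact this.1

theorem t_mem_Cy : S.t ∈ S.Cy :=
  center_R' S (t_mem_R S) fun _ hy => ((mem_H S).1 (R_le_H S hy)).symm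

/-- a generator of the cyclic centre of `O₂(H)` -/
theorem exists_e : ∃ e ∈ S.Cy, e * e = S.t ∧ e ^ 4 = 1 ∧
    ∀ x ∈ S.Cy, x = 1 ∨ x = e ∨ x = S.t ∨ x = e⁻¹ := by
  haveI := S.hCy
  obtain ⟨⟨e, he⟩, hgen⟩ := IsCyclic.exists_generator (α := S.Cy)
  have hord : orderOf e = 4 := by
    rw [← S.hCycard, ← orderOf_eq_card_of_forall_mem_zpowers hgen, Subgroup.orderOf_mk]
  have hcases : ∀ x ∈ S.Cy, ∃ k : ℕ, k < 4 ∧ x = e ^ k := by
    intro x hx
    obtain ⟨j, hj⟩ := mem_zpowers_iff.1 (hgen ⟨x, hx⟩)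
    refine ⟨(j % 4).toNat, by omega, ?_⟩
    have hx' : e ^ j = x := congrArg Subtype.val hj
    rw [← hx', ← zpow_natCast, Int.toNat_of_nonneg (Int.emod_nonneg _ (by norm_num))]
    rw [← zpow_mod_orderOf e j, hord]
    rfl
  have h4 : e ^ 4 = 1 := hord ▸ pow_orderOf_eq_one e
  have h2 : e ^ 2 = S.t := by
    obtain ⟨k, hk, hkt⟩ := hcases _ (t_mem_Cy S)
    have := tt S
    rw [hkt, ← pow_add] at this
    have hd := orderOf_dvd_of_pow_eq_one this
    rw [hord] at hd
    interval_cases k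
    · exact absurd (hkt.trans (pow_zero e)) (t_ne S)
    · norm_num at hd
    · exact hkt.symm
    · norm_num at hd
  refine ⟨e, he, by rw [← pow_two, h2], h4, fun x hx => ?_⟩
  obtain ⟨k, hk, rfl⟩ := hcases x hx
  interval_cases k
  · simp
  · simp
  · exact Or.inr (Or.inr (Or.inl h2))
  · refine Or.inr (Or.inr (Or.inr (eq_inv_of_mul_eq_one_left ?_)))
    rw [← pow_succ, h4]

theorem sq_Cy' : ∀ x ∈ S.Cy, x * x = 1 ∨ x * x = S.t := by
  obtain ⟨e, -, he2, -, hc⟩ := exists_e S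
  intro x hx
  rcases hc x hx with rfl | rfl | rfl | rfl
  · exact Or.inl (one_mul 1)
  · exact Or.inr he2
  · exact Or.inl (tt S)
  · refine Or.inr ?_
    rw [← mul_inv_rev, he2]
    exact inv_eq_of_mul_eq_one_right (tt S)

theorem inv_Cy {x : G} (hx : x ∈ S.Cy) (h2 : x * x = 1) : x = 1 ∨ x = S.t := by
  obtain ⟨e, -, he2, -, hc⟩ := exists_e S
  rcases hc x hx with rfl | rfl | rfl | rfl
  · exact Or.inl rfl
  · exact absurd (he2.symm.trans h2) (t_ne S)
  · exact Or.inr rfl
  · rw [← mul_inv_rev, inv_eq_one, he2] at h2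
    exact absurd h2 (t_ne S)

variable [Finite G]

theorem card_meet : Nat.card ↥(S.Cy ⊓ S.E) = 2 := by
  rw [S.hmeet, ← S.hEex.2]
  have : S.E ⊓ centralizer (S.E : Set G) = (center S.E).map S.E.subtype := by
    ext x
    constructor
    · rintro ⟨h1, h2⟩
      exact ⟨⟨x, h1⟩, mem_center_iff.2 fun y => Subtype.ext (mem_centralizer_iff.1 h2 y y.2), rfl⟩
    · rintro ⟨y, hy, rfl⟩
      exact ⟨y.2, mem_centralizer_iff.2 fun z hz =>
        congrArg Subtype.val (mem_center_iff.1 hy ⟨z, hz⟩)⟩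
  rw [this, card_map_of_injective S.E.subtype_injective]

theorem comm_R' : ∀ x ∈ S.R, ∀ y ∈ S.R,
    x * y * x⁻¹ * y⁻¹ = 1 ∨ x * y * x⁻¹ * y⁻¹ = S.t := by
  intro x hx y hy
  obtain ⟨c, hc, e, he, rfl⟩ := R_split S hx
  obtain ⟨d, hd, f, hf, rfl⟩ := R_split S hy
  have e1 : c * e * (d * f) * (c * e)⁻¹ * (d * f)⁻¹ = e * f * e⁻¹ * f⁻¹ := by
    have h1 : Commute c (e * (d * f) * e⁻¹) :=
      Cy_comm S hc (mul_mem (mul_mem (S.hEle he) hy) (inv_mem (S.hEle he)))
    have h2 : Commute d e := Cy_comm S hd (S.hEle he)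
    calc c * e * (d * f) * (c * e)⁻¹ * (d * f)⁻¹
        = (c * (e * (d * f) * e⁻¹)) * c⁻¹ * (d * f)⁻¹ := by group
      _ = e * (d * f) * e⁻¹ * (d * f)⁻¹ := by rw [h1.eq]; group
      _ = (e * d) * (f * e⁻¹ * f⁻¹) * d⁻¹ := by group
      _ = d * (e * f * e⁻¹ * f⁻¹) * d⁻¹ := by rw [← h2.eq]; group
      _ = e * f * e⁻¹ * f⁻¹ := by
        rw [(Cy_comm S hd (S.hEle (mul_mem (mul_mem (mul_mem he hf) (inv_mem he)) (inv_mem hf)))).eq,
          mul_inv_cancel_right]
  rw [e1]
  set z := e * f * e⁻¹ * f⁻¹ with hz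
  have hzE : (⟨e, he⟩ * ⟨f, hf⟩ * ⟨e, he⟩⁻¹ * ⟨f, hf⟩⁻¹ : S.E) ∈ center S.E := by
    rw [← S.hEex.1.2.2]
    exact Subgroup.commutator_mem_commutator (mem_top _) (mem_top _)
  have hzm : z ∈ S.Cy ⊓ S.E := by
    rw [S.hmeet]
    refine Subgroup.mem_inf.2 ⟨mul_mem (mul_mem (mul_mem he hf) (inv_mem he)) (inv_mem hf), ?_⟩
    exact mem_centralizer_iff.2 fun w hw => congrArg Subtype.val (mem_center_iff.1 hzE ⟨w, hw⟩)
  have h2 : (⟨z, hzm⟩ : ↥(S.Cy ⊓ S.E)) ^ 2 = 1 := card_meet S ▸ pow_card_eq_one'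
  exact inv_Cy S hzm.1 (by simpa [pow_two] using congrArg Subtype.val h2)

theorem card_R' : Nat.card S.R = 64 := by
  have h := card_sup_mul (H := S.Cy) (K := S.E) fun c hc =>
    centralizer_le_normalizer _ (mem_centralizer_iff.2 fun y hy => (Cy_comm S hc (S.hEle hy)).eq.symm)
  rw [S.hprod, card_meet S, S.hCycard, S.hEcard] at h
  omega

theorem card_pCore_H : Nat.card (Cfsg.pCore 2 S.H) = 64 := by
  rw [← card_map_of_injective S.H.subtype_injective, ← S.hR, card_R' S]

theorem card_H' : Nat.card S.H = 7680 := by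
  rw [Subgroup.card_eq_card_quotient_mul_card_subgroup (Cfsg.pCore 2 S.H),
    Nat.card_congr S.eH.toEquiv, card_pCore_H S, Nat.card_perm, Nat.card_eq_fintype_card,
    Fintype.card_fin]
  rfl

/-- An abelian subgroup of `O₂(H)` containing the centre has order at most `16`. -/
theorem abelian_le {B : Subgroup G} (hBR : B ≤ S.R) (hc : ∀ x ∈ B, ∀ y ∈ B, x * y = y * x)
    (hCy : S.Cy ≤ B) : Nat.card B ≤ 16 := by
  have hd := card_dvd_of_le hBR
  rw [card_R' S] at hd
  by_contra hlt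
  have hbig : Nat.card B = 32 ∨ Nat.card B = 64 := by
    have := Nat.le_of_dvd (by norm_num) hd
    interval_cases h : Nat.card B <;> omega
  rcases hbig with h32 | h64
  · have hne : ¬ S.R ≤ B := fun h => by
      have := card_dvd_of_le h
      rw [card_R' S, h32] at this
      norm_num at this
    obtain ⟨x, hxR, hxB⟩ := SetLike.not_le_iff_exists.1 hne
    have hidx : (B.subgroupOf S.R).index = 2 := by
      have := (B.subgroupOf S.R).index_mul_card
      rw [Nat.card_congr (subgroupOfEquivOfLe hBR).toEquiv, h32, card_R' S] at this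
      omega
    set K := B ⊓ centralizer ({x} : Set G) with hK
    have hKC : K ≤ S.Cy := by
      rintro y ⟨hyB, hyx⟩
      refine center_R' S (hBR hyB) fun w hw => ?_
      by_cases hwB : w ∈ B
      · exact hc y hyB w hwB
      · have h1 : x⁻¹ * w ∈ B := by
          have := (Subgroup.mul_mem_iff_of_index_two hidx
            (a := (⟨x, hxR⟩ : S.R)⁻¹) (b := ⟨w, hw⟩))
          simp only [inv_mem_iff, mem_subgroupOf, Subgroup.coe_mul, Subgroup.coe_inv] at this
          exact this.2 ⟨fun h => absurd h hxB, fun h => absurd h hwB⟩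
        have hyx' : Commute y x := (mem_centralizer_singleton_iff.1 hyx)
        have h2 : Commute y (x⁻¹ * w) := hc y hyB _ h1
        have := hyx'.mul_right h2
        rwa [mul_inv_cancel_left] at this
    have h4 : Nat.card K ≤ 4 := S.hCycard ▸ Nat.le_of_dvd Nat.card_pos (card_dvd_of_le hKC)
    have hs := surj_of_fibres B K (T := Fin 2 ⊕ Fin 2)
      (fun y => by classical exact if Commute x (y : G) then Sum.inl 0 else Sum.inr 0) ?_ ?_
    · obtain ⟨y, hy⟩ := hs (Sum.inl 1)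
      simp only at hy
      split at hy <;> simp at hy
    · intro y z e
      refine Subgroup.mem_inf.2 ⟨mul_mem (inv_mem y.2) z.2, mem_centralizer_singleton_iff.2 ?_⟩
      split at e <;> rename_i hy <;> split at e <;> rename_i hz <;> simp at e
      · exact (hy.inv_right.mul_right hz).symm.eq
      · have ey := (comm_R' S x hxR _ (hBR y.2)).resolve_left fun h => hy (by
          rw [mul_inv_eq_one, mul_inv_eq_iff_eq_mul] at h; exact h)
        have ez := (comm_R' S x hxR _ (hBR z.2)).resolve_left fun h => hz (by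
          rw [mul_inv_eq_one, mul_inv_eq_iff_eq_mul] at h; exact h)
        rw [mul_inv_eq_iff_eq_mul] at ey ez
        refine Commute.eq (Commute.symm ?_)
        show x * ((y : G)⁻¹ * z) = (y : G)⁻¹ * z * x
        rw [← mul_inv_eq_iff_eq_mul]
        calc x * ((y : G)⁻¹ * z) * x⁻¹ = (x * y * x⁻¹)⁻¹ * (x * z * x⁻¹) := by group
          _ = (y : G)⁻¹ * z := by rw [ey, ez]; group
    · rw [Nat.card_sum, Nat.card_eq_fintype_card, Fintype.card_fin, h32]
      omega
  · have hle : S.R ≤ S.Cy := fun x hx => by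
      have e : B = S.R := eq_of_le_of_card_ge hBR (by rw [card_R' S, h64])
      exact center_R' S hx fun y hy => hc x (e.symm ▸ hx) y (e.symm ▸ hy)
    have := card_dvd_of_le hle
    rw [card_R' S, S.hCycard] at this
    norm_num at this

theorem A_le_M : S.A ≤ S.M := map_subtype_le _

theorem conj_A {m a : G} (hm : m ∈ S.M) (ha : a ∈ S.A) : m * a * m⁻¹ ∈ S.A := by
  obtain ⟨a', ha', rfl⟩ := ha
  exact ⟨⟨m, hm⟩ * a' * ⟨m, hm⟩⁻¹, (Cfsg.pCore_normal 2 S.M).conj_mem a' ha' _, by simp⟩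

theorem card_pCore_M : Nat.card (Cfsg.pCore 2 S.M) = 64 := by
  rw [Nat.card_congr S.eOM.toEquiv, Nat.card_congr Multiplicative.toAdd, Nat.card_prod,
    Nat.card_prod, Nat.card_zmod]

theorem card_A' : Nat.card S.A = 64 := by
  rw [Setup.A, card_map_of_injective S.M.subtype_injective, card_pCore_M S]

theorem card_M' : Nat.card S.M = 10752 := by
  rw [Subgroup.card_eq_card_quotient_mul_card_subgroup (Cfsg.pCore 2 S.M),
    Nat.card_congr S.eM.toEquiv, gl32_simple.2, card_pCore_M S]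

/-- the coordinates of an element of `O₂(M)` -/
theorem exists_coord {x : G} (hx : x ∈ S.A) :
    ∃ v : Cfsg.pCore 2 S.M, ((v : S.M) : G) = x := by
  obtain ⟨v, hv, rfl⟩ := hx
  exact ⟨⟨v, hv⟩, rfl⟩

theorem A_comm' : ∀ x ∈ S.A, ∀ y ∈ S.A, x * y = y * x := by
  intro x hx y hy
  obtain ⟨v, rfl⟩ := exists_coord S hx
  obtain ⟨w, rfl⟩ := exists_coord S hy
  have : v * w = w * v := S.eOM.injective (by rw [map_mul, map_mul, mul_comm])
  exact congrArg (fun u : Cfsg.pCore 2 S.M => ((u : S.M) : G)) this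

theorem A_four {x : G} (hx : x ∈ S.A) : x ^ 4 = 1 := by
  obtain ⟨v, rfl⟩ := exists_coord S hx
  have : v ^ 4 = 1 := S.eOM.injective (by
    rw [map_one, map_pow, pow_succ, pow_succ, pow_succ, pow_one]
    exact congrArg Multiplicative.ofAdd (four_nsmul (Multiplicative.toAdd (S.eOM v))))
  exact congrArg (fun u : Cfsg.pCore 2 S.M => ((u : S.M) : G)) this

theorem A_sqrt {x : G} (hx : x ∈ S.A) (h2 : x * x = 1) : ∃ y ∈ S.A, y * y = x := by
  obtain ⟨v, rfl⟩ := exists_coord S hx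
  have h2' : v * v = 1 := Subtype.ext (Subtype.ext h2)
  obtain ⟨w, hw⟩ := half (Multiplicative.toAdd (S.eOM v)) (by
    rw [← toAdd_mul, ← map_mul, h2', map_one, toAdd_one])
  set y := S.eOM.symm (Multiplicative.ofAdd w) with hy
  refine ⟨((y : S.M) : G), ⟨y, y.2, rfl⟩, ?_⟩
  have : y * y = v := S.eOM.injective (by
    rw [map_mul, hy, MulEquiv.apply_symm_apply, ← ofAdd_add, hw, ofAdd_toAdd])
  exact congrArg (fun u : Cfsg.pCore 2 S.M => ((u : S.M) : G)) this

theorem V_le_M : S.V ≤ S.M := S.hM ▸ le_normalizer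

theorem V_le_A' : S.V ≤ S.A := by
  haveI : (S.V.subgroupOf S.M).Normal := by rw [S.hM]; infer_instance
  have hp : IsPGroup 2 (S.V.subgroupOf S.M) := IsPGroup.of_card (n := 3) (by
    rw [Nat.card_congr (subgroupOfEquivOfLe (V_le_M S)).toEquiv, S.hVcard]; norm_num)
  intro v hv
  exact ⟨⟨v, V_le_M S hv⟩, CfsgLib.Base.le_pCore hp hv, rfl⟩

theorem V_sq {v : G} (hv : v ∈ S.V) : v * v = 1 := by rw [← pow_two]; exact S.hVexp v hv

theorem V_eq' : ∀ x ∈ S.A, x ^ 2 = 1 → x ∈ S.V := by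
  intro x hx h2
  classical
  let T := {y : G // y ∈ S.A ∧ y * y = 1}
  let f : T → E8 := fun y => ⟨Multiplicative.toAdd (S.eOM (exists_coord S y.2.1).choose), by
    have h := (exists_coord S y.2.1).choose_spec
    have h2' : (exists_coord S y.2.1).choose * (exists_coord S y.2.1).choose = 1 :=
      Subtype.ext (Subtype.ext (by simpa [h] using y.2.2))
    rw [← toAdd_mul, ← map_mul, h2', map_one, toAdd_one]⟩
  have hf : Function.Injective f := by
    intro y z e
    have := S.eOM.injective (Multiplicative.toAdd.injective (congrArg Subtype.val e))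
    exact Subtype.ext (by
      rw [← (exists_coord S y.2.1).choose_spec, this, (exists_coord S z.2.1).choose_spec])
  have hT : Nat.card T ≤ 8 := (Nat.card_le_card_of_injective f hf).trans
    (le_of_eq (by rw [Nat.card_eq_fintype_card, two_torsion]))
  let g : S.V → T := fun v => ⟨v, V_le_A' S v.2, V_sq S v.2⟩
  have hg : Function.Injective g := fun v w e => Subtype.ext (congrArg Subtype.val e :)
  have hb : Function.Bijective g := (Nat.bijective_iff_injective_and_card g).2 ⟨hg,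
    le_antisymm (Nat.card_le_card_of_injective g hg) (by rw [S.hVcard]; exact hT)⟩
  obtain ⟨v, hv⟩ := hb.2 ⟨x, hx, by rw [← pow_two]; exact h2⟩
  have : (v : G) = x := congrArg Subtype.val hv
  exact this ▸ v.2

theorem t_mem' : S.t ∈ S.V := by
  by_contra hne
  obtain ⟨e, he, he2, -, -⟩ := exists_e S
  set B := (S.V ⊔ zpowers S.t) ⊔ S.Cy with hB
  have hgen : B = Subgroup.closure ((S.V : Set G) ∪ (S.Cy : Set G)) := by
    rw [Subgroup.closure_union, Subgroup.closure_eq, Subgroup.closure_eq, hB, sup_assoc,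
      sup_eq_right.2 (zpowers_le.2 (t_mem_Cy S))]
  have hBR : B ≤ S.R := sup_le (sup_le S.hVR (zpowers_le.2 (t_mem_R S))) (Cy_le_R S)
  have hBc : ∀ x ∈ B, ∀ y ∈ B, x * y = y * x := by
    rw [hgen]
    haveI := S.hVcomm
    haveI : IsMulCommutative (Subgroup.closure ((S.V : Set G) ∪ (S.Cy : Set G))) :=
      Subgroup.isMulCommutative_closure (by
        rintro a (ha | ha) b (hb | hb)
        · exact congrArg Subtype.val (mul_comm' (⟨a, ha⟩ : S.V) ⟨b, hb⟩)
        · exact (Cy_comm S hb (S.hVR ha)).eq.symm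
        · exact (Cy_comm S ha (S.hVR hb)).eq
        · exact (Cy_comm S ha (Cy_le_R S hb)).eq)
    exact fun x hx y hy => congrArg Subtype.val (mul_comm' (⟨x, hx⟩ : Subgroup.closure _) ⟨y, hy⟩)
  have hle := abelian_le S hBR hBc le_sup_right
  set B0 := S.V ⊔ zpowers S.t with hB0
  have h8 : 8 < Nat.card B0 := by
    refine lt_of_le_of_ne (S.hVcard ▸ Nat.le_of_dvd Nat.card_pos (card_dvd_of_le le_sup_left))
      fun h => hne ?_
    have := eq_of_le_of_card_ge (le_sup_left : S.V ≤ B0) (by rw [← h, S.hVcard])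
    exact this ▸ mem_sup_right (mem_zpowers _)
  have hB0sq : ∀ x ∈ B0, x * x = 1 := by
    intro x hx
    obtain ⟨v, hv, w, hw, rfl⟩ := mem_sup_comm (fun a ha b hb => by
      obtain ⟨k, rfl⟩ := mem_zpowers_iff.1 hb
      exact Commute.zpow_right ((Cy_comm S (t_mem_Cy S) (S.hVR ha)).symm) k) hx
    obtain ⟨k, rfl⟩ := mem_zpowers_iff.1 hw
    have hc : Commute (S.t ^ k) v := (Cy_comm S (zpow_mem (t_mem_Cy S) k) (S.hVR hv))
    rw [hc.mul_mul_mul_comm, V_sq S hv, ← (Commute.refl S.t).mul_zpow k, tt S, one_zpow, one_mul]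
  have hd : Nat.card B0 ∣ 64 := card_R' S ▸ card_dvd_of_le
    ((le_sup_left : B0 ≤ B).trans hBR)
  have h16 : 16 ≤ Nat.card B0 := by
    have := Nat.le_of_dvd (by norm_num) hd
    interval_cases h : Nat.card B0 <;> omega
  have : 16 < Nat.card B := by
    refine lt_of_le_of_ne (h16.trans (Nat.le_of_dvd Nat.card_pos (card_dvd_of_le le_sup_left)))
      fun h => ?_
    have h' := eq_of_le_of_card_ge (le_sup_left : B0 ≤ B) (h ▸ h16)
    have heB : e ∈ B0 := h' ▸ mem_sup_right he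
    exact t_ne S (he2.symm.trans (hB0sq e heB))
  omega

theorem centV_le_M : centralizer (S.V : Set G) ≤ S.M := S.hM ▸ centralizer_le_normalizer _

theorem centV_le_H : centralizer (S.V : Set G) ≤ S.H := fun x hx =>
  (mem_H S).2 (mem_centralizer_iff.1 hx _ (t_mem' S)).symm

theorem A_le_centV : S.A ≤ centralizer (S.V : Set G) := fun a ha =>
  mem_centralizer_iff.2 fun v hv => A_comm' S v (V_le_A' S hv) a ha

theorem cent_V' : centralizer (S.V : Set G) = S.A := by
  refine le_antisymm (fun x hx => ?_) (A_le_centV S)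
  haveI := gl32_simple.1
  set C := (centralizer (S.V : Set G)).subgroupOf S.M with hC
  haveI : C.Normal := ⟨fun c hc m => by
    rw [hC, mem_subgroupOf] at hc ⊢
    refine mem_centralizer_iff.2 fun v hv => ?_
    have hm : (m : G)⁻¹ * v * m ∈ S.V := by
      have hmn : (m : G)⁻¹ ∈ normalizer (S.V : Set G) := inv_mem (S.hM ▸ m.2)
      have := (mem_normalizer_iff.1 hmn v).1 hv
      rwa [inv_inv] at this
    simp only [Subgroup.coe_mul, Subgroup.coe_inv]
    calc v * ((m : G) * c * (m : G)⁻¹) = m * (((m : G)⁻¹ * v * m) * c) * (m : G)⁻¹ := by group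
      _ = m * (c * ((m : G)⁻¹ * v * m)) * (m : G)⁻¹ := by rw [mem_centralizer_iff.1 hc _ hm]
      _ = (m : G) * c * (m : G)⁻¹ * v := by group⟩
  set f := S.eM.toMonoidHom.comp (QuotientGroup.mk' (Cfsg.pCore 2 S.M)) with hf
  have hfs : Function.Surjective f := S.eM.surjective.comp (QuotientGroup.mk'_surjective _)
  have hker : f.ker = Cfsg.pCore 2 S.M := by
    refine Eq.trans ?_ (QuotientGroup.ker_mk' (Cfsg.pCore 2 S.M))
    exact MonoidHom.ker_mulEquiv_comp _ S.eM
  rcases Subgroup.Normal.eq_bot_or_eq_top ((inferInstance : C.Normal).map f hfs) with h | h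
  · have h1 : (⟨x, centV_le_M S hx⟩ : S.M) ∈ f.ker :=
      MonoidHom.mem_ker.2 (mem_bot.1 (h ▸ mem_map_of_mem f (by rw [hC, mem_subgroupOf]; exact hx)))
    rw [hker] at h1
    exact ⟨_, h1, rfl⟩
  · exfalso
    have hCtop : C = ⊤ := by
      have h1 : C ⊔ f.ker = ⊤ := by rw [← comap_map_eq, h, comap_top]
      have h2 : f.ker ≤ C := by
        rw [hker]
        exact fun a ha => (by rw [hC, mem_subgroupOf]; exact A_le_centV S ⟨a, ha, rfl⟩)
      rwa [sup_eq_left.2 h2] at h1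
    have hMH : S.M ≤ S.H := fun m hm => by
      have : (⟨m, hm⟩ : S.M) ∈ C := hCtop ▸ mem_top _
      rw [hC, mem_subgroupOf] at this
      exact centV_le_H S this
    have := card_dvd_of_le hMH
    rw [card_M' S, card_H' S] at this
    norm_num at this

theorem cent_R' : ∀ x ∈ S.H, (∀ y ∈ S.R, x * y = y * x) → x ∈ S.Cy := by
  intro x hx hxc
  by_cases hxR : x ∈ S.R
  · exact center_R' S hxR hxc
  exfalso
  set C := (centralizer (S.R : Set G)).subgroupOf S.H with hC
  haveI : C.Normal := ⟨fun c hc h => by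
    rw [hC, mem_subgroupOf] at hc ⊢
    refine mem_centralizer_iff.2 fun r hr => ?_
    have hm : (h : G)⁻¹ * r * h ∈ S.R := by
      simpa using conj_R S (inv_mem h.2) hr
    simp only [Subgroup.coe_mul, Subgroup.coe_inv]
    calc r * ((h : G) * c * (h : G)⁻¹) = h * (((h : G)⁻¹ * r * h) * c) * (h : G)⁻¹ := by group
      _ = h * (c * ((h : G)⁻¹ * r * h)) * (h : G)⁻¹ := by rw [mem_centralizer_iff.1 hc _ hm]
      _ = (h : G) * c * (h : G)⁻¹ * r := by group⟩
  set f := S.eH.toMonoidHom.comp (QuotientGroup.mk' (Cfsg.pCore 2 S.H)) with hf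
  have hfs : Function.Surjective f := S.eH.surjective.comp (QuotientGroup.mk'_surjective _)
  haveI : (C.map f).Normal := (inferInstance : C.Normal).map f hfs
  have hmem : f ⟨x, hx⟩ ∈ C.map f := mem_map_of_mem f (by
    rw [hC, mem_subgroupOf]
    exact mem_centralizer_iff.2 fun y hy => (hxc y hy).symm)
  have hne : f ⟨x, hx⟩ ≠ 1 := fun h1 => hxR (by
    rw [hf, MonoidHom.comp_apply, MulEquiv.coe_toMonoidHom, map_eq_one_iff _ S.eH.injective,
      QuotientGroup.mk'_apply, QuotientGroup.eq_one_iff] at h1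
    rw [S.hR]
    exact ⟨_, h1, rfl⟩)
  haveI : Nontrivial (C.map f) := ⟨⟨⟨_, hmem⟩, 1, fun h => hne (congrArg Subtype.val h)⟩⟩
  have hA5 := Equiv.Perm.alternatingGroup_le_of_normal (α := Fin 5) (by simp)
    (N := C.map f) inferInstance
  have h5 : 5 ∣ Nat.card C := by
    refine dvd_trans ?_ (Subgroup.card_map_dvd C f)
    refine dvd_trans ?_ (card_dvd_of_le hA5)
    rw [Nat.card_eq_fintype_card]
    decide +kernel
  have hCV : C.map S.H.subtype ≤ S.M := by
    rintro _ ⟨c, hc, rfl⟩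
    rw [hC, SetLike.mem_coe, mem_subgroupOf] at hc
    exact centV_le_M S (centralizer_le (SetLike.coe_subset_coe.2 S.hVR) hc)
  have := card_dvd_of_le hCV
  rw [card_map_of_injective S.H.subtype_injective, card_M' S] at this
  have := h5.trans this
  norm_num at this

theorem R_le_M' : S.R ≤ S.M := by
  intro x hx
  rw [S.hM]
  refine mem_normalizer_fintype fun v hv => ?_
  rcases comm_R' S x hx v (S.hVR hv) with h | h
  · rw [mul_inv_eq_one] at h
    rwa [h]
  · rw [mul_inv_eq_iff_eq_mul] at h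
    rw [h]
    exact mul_mem (t_mem' S) hv

theorem Cy_le_A' : S.Cy ≤ S.A := by
  rw [← cent_V' S]
  exact fun c hc => mem_centralizer_iff.2 fun v hv => (Cy_comm S hc (S.hVR hv)).eq.symm

theorem card_inter' : Nat.card ↥(S.R ⊓ S.A) = 16 := by
  have hle := abelian_le S (B := S.R ⊓ S.A) inf_le_left
    (fun x hx y hy => A_comm' S x hx.2 y hy.2) (le_inf (Cy_le_R S) (Cy_le_A' S))
  have h8 : 8 < Nat.card ↥(S.R ⊓ S.A) := by
    refine lt_of_le_of_ne (S.hVcard ▸ Nat.le_of_dvd Nat.card_pos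
      (card_dvd_of_le (le_inf S.hVR (V_le_A' S)))) fun h => ?_
    obtain ⟨e, he, he2, -, -⟩ := exists_e S
    have h' := eq_of_le_of_card_ge (le_inf S.hVR (V_le_A' S)) (by rw [← h, S.hVcard])
    have : e ∈ S.V := h'.symm ▸ ⟨Cy_le_R S he, Cy_le_A' S he⟩
    exact t_ne S (he2.symm.trans (V_sq S this))
  have hd : Nat.card ↥(S.R ⊓ S.A) ∣ 64 := card_R' S ▸ card_dvd_of_le inf_le_left
  interval_cases h : Nat.card ↥(S.R ⊓ S.A) <;> omega

/-! ### Coordinates -/

/-- the element with the given coordinates -/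
def phi (e f g : G) (v : C4) : G := e ^ v.1.val * f ^ v.2.1.val * g ^ v.2.2.val

/-- a coordinate system of `O₂(M)` -/
structure Basis (e f g : G) : Prop where
  e_mem : e ∈ S.A
  f_mem : f ∈ S.A
  g_mem : g ∈ S.A
  e_sq : e * e = S.t
  indep : f * f ∉ zpowers S.t
  indep' : g * g ∉ zpowers S.t ⊔ zpowers (f * f)

variable {S} {e f g : G}

theorem phi_mem (B : Basis S e f g) (v : C4) : phi e f g v ∈ S.A :=
  mul_mem (mul_mem (pow_mem B.e_mem _) (pow_mem B.f_mem _)) (pow_mem B.g_mem _)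

theorem phi_zero : phi e f g 0 = 1 := by simp [phi]

theorem phi_add (B : Basis S e f g) (u v : C4) :
    phi e f g (u + v) = phi e f g u * phi e f g v := by
  have h : ∀ x ∈ S.A, ∀ a b : ZMod 4, x ^ (a + b).val = x ^ a.val * x ^ b.val := by
    intro x hx a b
    rw [ZMod.val_add, ← pow_eq_pow_mod _ (A_four S hx), pow_add]
  have c1 : Commute (f ^ u.2.1.val) (e ^ v.1.val) :=
    (show Commute f e from A_comm' S f B.f_mem e B.e_mem).pow_pow _ _
  have c2 : Commute (g ^ u.2.2.val) (e ^ v.1.val) :=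
    (show Commute g e from A_comm' S g B.g_mem e B.e_mem).pow_pow _ _
  have c3 : Commute (g ^ u.2.2.val) (f ^ v.2.1.val) :=
    (show Commute g f from A_comm' S g B.g_mem f B.f_mem).pow_pow _ _
  simp only [phi, Prod.fst_add, Prod.snd_add]
  rw [h _ B.e_mem, h _ B.f_mem, h _ B.g_mem]
  calc e ^ u.1.val * e ^ v.1.val * (f ^ u.2.1.val * f ^ v.2.1.val) *
        (g ^ u.2.2.val * g ^ v.2.2.val)
      = e ^ u.1.val * (e ^ v.1.val * f ^ u.2.1.val) * (f ^ v.2.1.val * g ^ u.2.2.val) *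
          g ^ v.2.2.val := by group
    _ = e ^ u.1.val * (f ^ u.2.1.val * e ^ v.1.val) * (g ^ u.2.2.val * f ^ v.2.1.val) *
          g ^ v.2.2.val := by rw [c1.eq, c3.eq]
    _ = e ^ u.1.val * f ^ u.2.1.val * (e ^ v.1.val * g ^ u.2.2.val) * f ^ v.2.1.val *
          g ^ v.2.2.val := by group
    _ = e ^ u.1.val * f ^ u.2.1.val * (g ^ u.2.2.val * e ^ v.1.val) * f ^ v.2.1.val *
          g ^ v.2.2.val := by rw [c2.eq]
    _ = _ := by group

theorem phi_nsmul (B : Basis S e f g) (n : ℕ) (v : C4) :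
    phi e f g (n • v) = phi e f g v ^ n := by
  induction n with
  | zero => rw [zero_nsmul, pow_zero, phi_zero]
  | succ n ih => rw [succ_nsmul, pow_succ, phi_add B, ih]

theorem phi_two (B : Basis S e f g) : phi e f g (2, 0, 0) = S.t ∧
    phi e f g (0, 2, 0) = f * f ∧ phi e f g (0, 0, 2) = g * g := by
  have : (2 : ZMod 4).val = 2 := rfl
  refine ⟨?_, ?_, ?_⟩ <;> simp [phi, this, pow_two, B.e_sq]

theorem phi_inj (B : Basis S e f g) : Function.Injective (phi e f g) := by
  obtain ⟨h1, h2, h3⟩ := phi_two B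
  have hsm : ∀ w : C4, w + w = 0 → phi e f g w = 1 → w = 0 := by
    intro w hw h
    obtain ⟨i, j, k, rfl⟩ := even_cases w hw
    rw [phi_add B, phi_add B, phi_nsmul B, phi_nsmul B, phi_nsmul B, h1, h2, h3] at h
    have hj : j = 0 := by
      by_contra hj
      have hk : k = 0 := by
        by_contra hk
        have hk1 : k.1 = 1 := by omega
        rw [hk1, pow_one, mul_eq_one_iff_inv_eq] at h
        exact B.indep' (h ▸ inv_mem (mul_mem (mem_sup_left (pow_mem (mem_zpowers _) _))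
          (mem_sup_right (pow_mem (mem_zpowers _) _))))
      have hj1 : j.1 = 1 := by omega
      rw [hk, hj1, pow_one, Fin.val_zero, pow_zero, mul_one, mul_eq_one_iff_inv_eq] at h
      exact B.indep (h ▸ inv_mem (pow_mem (mem_zpowers _) _))
    have hk : k = 0 := by
      by_contra hk
      have hk1 : k.1 = 1 := by omega
      rw [hk1, hj, pow_one, Fin.val_zero, pow_zero, mul_one, mul_eq_one_iff_inv_eq] at h
      exact B.indep' (h ▸ inv_mem (mem_sup_left (pow_mem (mem_zpowers _) _)))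
    have hi : i = 0 := by
      by_contra hi
      have hi1 : i.1 = 1 := by omega
      rw [hi1, hj, hk, pow_one, Fin.val_zero, pow_zero, pow_zero, mul_one, mul_one] at h
      exact t_ne S h
    subst hi; subst hj; subst hk; simp
  intro u v h
  have h0 : phi e f g (u - v) = 1 := by
    have := phi_add B (u - v) v
    rw [sub_add_cancel, h, eq_comm, mul_eq_right] at this
    exact this
  have h2v : (u - v) + (u - v) = 0 := by
    refine hsm _ (by rw [← add_assoc]; exact four_nsmul _) ?_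
    rw [phi_add B, h0, one_mul]
  exact sub_eq_zero.1 (hsm _ h2v h0)

theorem phi_surj (B : Basis S e f g) {x : G} (hx : x ∈ S.A) : ∃ v, phi e f g v = x := by
  let F : C4 → S.A := fun v => ⟨phi e f g v, phi_mem B v⟩
  have hb : Function.Bijective F := (Nat.bijective_iff_injective_and_card F).2
    ⟨fun u v h => phi_inj B (congrArg Subtype.val h), by
      rw [card_A' S, Nat.card_prod, Nat.card_prod, Nat.card_zmod]⟩
  obtain ⟨v, hv⟩ := hb.2 ⟨x, hx⟩
  exact ⟨v, congrArg Subtype.val hv⟩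

/-- conjugation in coordinates -/
theorem conj_phi (B : Basis S e f g) {x : G} {p q r : C4}
    (hp : x * e * x⁻¹ = phi e f g p) (hq : x * f * x⁻¹ = phi e f g q)
    (hr : x * g * x⁻¹ = phi e f g r) (v : C4) :
    x * phi e f g v * x⁻¹ = phi e f g (lin p q r v) := by
  rw [lin_eq, phi_add B, phi_add B, phi_nsmul B, phi_nsmul B, phi_nsmul B, ← hp, ← hq, ← hr,
    conj_pow, conj_pow, conj_pow]
  simp only [phi]
  group

/-- fixed points in coordinates -/
theorem fix_eq (B : Basis S e f g) {x : G} {L : C4 → C4}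
    (hL : ∀ v, x * phi e f g v * x⁻¹ = phi e f g (L v)) :
    fixCard L = Nat.card {a : G // a ∈ S.A ∧ x * a * x⁻¹ = a} := by
  rw [fixCard, ← Fintype.card_subtype, ← Nat.card_eq_fintype_card]
  refine Nat.card_congr (Equiv.ofBijective (fun v : {v : C4 // L v = v} =>
    (⟨phi e f g v.1, phi_mem B _, by rw [hL, v.2]⟩ : {a : G // a ∈ S.A ∧ x * a * x⁻¹ = a}))
    ⟨fun u v h => Subtype.ext (phi_inj B (congrArg Subtype.val h)), fun a => ?_⟩)
  obtain ⟨v, hv⟩ := phi_surj B a.2.1
  refine ⟨⟨v, phi_inj B ?_⟩, Subtype.ext hv⟩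
  rw [← hL, hv, a.2.2]

/-- conjugation of fixed-point sets -/
theorem fix_conj {m x a0 : G} (hm : m ∈ S.M) (ha0 : a0 ∈ S.A) :
    Nat.card {a : G // a ∈ S.A ∧ x * a * x⁻¹ = a} =
      Nat.card {a : G // a ∈ S.A ∧ (m * x * m⁻¹ * a0) * a * (m * x * m⁻¹ * a0)⁻¹ = a} := by
  refine Nat.card_congr ((MulAut.conj m).toEquiv.subtypeEquiv fun a => ?_)
  simp only [MulEquiv.toEquiv_eq_coe, MulEquiv.coe_toEquiv, MulAut.conj_apply]
  have key : m * a * m⁻¹ ∈ S.A →
      (m * x * m⁻¹ * a0) * (m * a * m⁻¹) * (m * x * m⁻¹ * a0)⁻¹ = m * (x * a * x⁻¹) * m⁻¹ := by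
    intro h
    calc (m * x * m⁻¹ * a0) * (m * a * m⁻¹) * (m * x * m⁻¹ * a0)⁻¹
        = m * x * m⁻¹ * (a0 * (m * a * m⁻¹)) * a0⁻¹ * (m * x * m⁻¹)⁻¹ := by group
      _ = m * (x * a * x⁻¹) * m⁻¹ := by rw [A_comm' S a0 ha0 _ h]; group
  constructor
  · rintro ⟨h1, h2⟩
    refine ⟨conj_A S hm h1, ?_⟩
    rw [key (conj_A S hm h1), h2]
  · rintro ⟨h1, h2⟩
    rw [key h1] at h2
    refine ⟨?_, mul_left_cancel (mul_right_cancel h2)⟩
    have := conj_A S (inv_mem hm) h1
    rwa [show m⁻¹ * (m * a * m⁻¹) * m⁻¹⁻¹ = a by group] at this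

/-- `M` induces every change of basis of `V`. -/
theorem exists_move (B : Basis S e f g) (w : T8) :
    ∃ m ∈ S.M, m * S.t * m⁻¹ = phi e f g w.1.1.1 ∧ m * (f * f) * m⁻¹ = phi e f g w.1.2.1.1 ∧
      m * (g * g) * m⁻¹ = phi e f g w.1.2.2.1 := by
  obtain ⟨h1, h2, h3⟩ := phi_two B
  have hex : ∀ m : S.M, ∀ u : C4, u + u = 0 →
      ∃ v : E8, (m : G) * phi e f g u * (m : G)⁻¹ = phi e f g v.1 := by
    intro m u hu
    obtain ⟨v, hv⟩ := phi_surj B (conj_A S m.2 (phi_mem B u))
    refine ⟨⟨v, phi_inj B ?_⟩, hv.symm⟩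
    rw [phi_add B, hv, conj_mul, ← phi_add B, hu, phi_zero]
    simp
  have hbase : ∀ u ∈ [((2, 0, 0) : C4), (0, 2, 0), (0, 0, 2)], u + u = 0 := by decide
  choose F1 hF1 using fun m => hex m (2, 0, 0) (hbase _ (by simp))
  choose F2 hF2 using fun m => hex m (0, 2, 0) (hbase _ (by simp))
  choose F3 hF3 using fun m => hex m (0, 0, 2) (hbase _ (by simp))
  have hne : ∀ (m : S.M) (u u' : C4) (v v' : E8), (m : G) * phi e f g u * (m : G)⁻¹ = phi e f g v.1 →
      (m : G) * phi e f g u' * (m : G)⁻¹ = phi e f g v'.1 → u ≠ u' → v.1 ≠ v'.1 := by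
    intro m u u' v v' e1 e2 hne he
    rw [he, ← e2] at e1
    exact hne (phi_inj B (mul_left_cancel (mul_right_cancel e1)))
  have hz : ∀ m : S.M, (m : G) * phi e f g 0 * (m : G)⁻¹ = phi e f g (⟨0, by simp⟩ : E8).1 := by
    intro m; simp [phi_zero]
  have hsum : ∀ m : S.M, (m : G) * phi e f g ((2, 0, 0) + (0, 2, 0)) * (m : G)⁻¹ =
      phi e f g ((F1 m).1 + (F2 m).1) := by
    intro m
    rw [phi_add B, phi_add B, ← conj_mul, hF1, hF2]
  let F : S.M → T8 := fun m => ⟨(F1 m, F2 m, F3 m),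
    hne m _ _ _ _ (hF1 m) (hz m) (by decide), hne m _ _ _ _ (hF2 m) (hz m) (by decide),
    hne m _ _ _ _ (hF2 m) (hF1 m) (by decide), hne m _ _ _ _ (hF3 m) (hz m) (by decide),
    hne m _ _ _ _ (hF3 m) (hF1 m) (by decide), hne m _ _ _ _ (hF3 m) (hF2 m) (by decide),
    fun he => by
      have h := hsum m
      rw [← he, ← hF3 m] at h
      exact absurd (phi_inj B (mul_left_cancel (mul_right_cancel h))) (by decide)⟩
  have hs : Function.Surjective F := by
    refine surj_of_fibres S.M S.A F (fun x y hxy => ?_)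
      (by rw [card_T8, card_A' S, card_M' S])
    rw [← cent_V' S]
    refine mem_centralizer_iff.2 fun v hv => ?_
    obtain ⟨u, hu⟩ := phi_surj B (V_le_A' S hv)
    have hu2 : u + u = 0 := phi_inj B (by rw [phi_add B, hu, phi_zero]; exact V_sq S hv)
    obtain ⟨i, j, k, rfl⟩ := even_cases u hu2
    have e0 : (F x).1 = (F y).1 := congrArg Subtype.val hxy
    have e1 : F1 x = F1 y := congrArg (fun p : E8 × E8 × E8 => p.1) e0
    have e2 : F2 x = F2 y := congrArg (fun p : E8 × E8 × E8 => p.2.1) e0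
    have e3 : F3 x = F3 y := congrArg (fun p : E8 × E8 × E8 => p.2.2) e0
    have hc : ∀ a : G, (x : G) * a * (x : G)⁻¹ = (y : G) * a * (y : G)⁻¹ →
        Commute ((x : G)⁻¹ * y) a := by
      intro a ha
      show (x : G)⁻¹ * y * a = a * ((x : G)⁻¹ * y)
      calc (x : G)⁻¹ * y * a = (x : G)⁻¹ * ((y : G) * a * (y : G)⁻¹) * y := by group
        _ = (x : G)⁻¹ * ((x : G) * a * (x : G)⁻¹) * y := by rw [ha]
        _ = a * ((x : G)⁻¹ * y) := by group
    rw [← hu, phi_add B, phi_add B, phi_nsmul B, phi_nsmul B, phi_nsmul B]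
    refine ((((hc _ ?_).pow_right _).mul_right ((hc _ ?_).pow_right _)).mul_right
      ((hc _ ?_).pow_right _)).eq.symm
    · rw [hF1 x, hF1 y, e1]
    · rw [hF2 x, hF2 y, e2]
    · rw [hF3 x, hF3 y, e3]
  obtain ⟨m, hm⟩ := hs w
  have e0 : (F m).1 = w.1 := congrArg Subtype.val hm
  refine ⟨m, m.2, ?_, ?_, ?_⟩
  · rw [← e0, ← h1]; exact hF1 m
  · rw [← e0, ← h2]; exact hF2 m
  · rw [← e0, ← h3]; exact hF3 m

variable (S)

/-- `O₂(H)` induces all transvections with centre `t`. -/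
theorem exists_trans {v1 v2 : G} (h1 : v1 ∈ S.V) (h2 : v2 ∈ S.V)
    (hgen : ∀ v ∈ S.V, ∀ x : G, Commute x S.t → Commute x v1 → Commute x v2 → Commute x v) :
    ∃ r ∈ S.R, r * v1 * r⁻¹ = v1 * S.t ∧ r * v2 * r⁻¹ = v2 ∧ r * r = 1 := by
  classical
  have key : ∀ x ∈ S.R, ∀ v ∈ S.V, x * v * x⁻¹ = v ∨ x * v * x⁻¹ = v * S.t := by
    intro x hx v hv
    rcases comm_R' S x hx v (S.hVR hv) with h | h
    · rw [mul_inv_eq_one] at h; exact Or.inl h
    · rw [mul_inv_eq_iff_eq_mul] at h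
      exact Or.inr (by rw [h, (Cy_comm S (t_mem_Cy S) (S.hVR hv)).eq])
  let F : S.R → Bool × Bool := fun x =>
    (decide ((x : G) * v1 * (x : G)⁻¹ = v1), decide ((x : G) * v2 * (x : G)⁻¹ = v2))
  have hs : Function.Surjective F := by
    refine surj_of_fibres S.R (S.R ⊓ S.A) F (fun x y hxy => Subgroup.mem_inf.2 ⟨mul_mem (inv_mem x.2) y.2, ?_⟩)
      (by rw [card_inter' S, card_R' S, Nat.card_eq_fintype_card]; decide)
    rw [← cent_V' S]
    refine mem_centralizer_iff.2 fun v hv => ?_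
    have hv' : ∀ u ∈ S.V, decide ((x : G) * u * (x : G)⁻¹ = u) =
        decide ((y : G) * u * (y : G)⁻¹ = u) → Commute ((x : G)⁻¹ * y) u := by
      intro u hu he
      have hxy : (x : G) * u * (x : G)⁻¹ = (y : G) * u * (y : G)⁻¹ := by
        rw [decide_eq_decide] at he
        rcases key x x.2 u hu with a | a <;> rcases key y y.2 u hu with b | b
        · rw [a, b]
        · rw [a, he.1 a]
        · rw [he.2 b, b]
        · rw [a, b]
      show (x : G)⁻¹ * y * u = u * ((x : G)⁻¹ * y)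
      calc (x : G)⁻¹ * y * u = (x : G)⁻¹ * ((y : G) * u * (y : G)⁻¹) * y := by group
        _ = (x : G)⁻¹ * ((x : G) * u * (x : G)⁻¹) * y := by rw [hxy]
        _ = u * ((x : G)⁻¹ * y) := by group
    exact (hgen v hv _ ((mem_H S).1 (R_le_H S (mul_mem (inv_mem x.2) y.2)))
      (hv' v1 h1 (congrArg Prod.fst hxy)) (hv' v2 h2 (congrArg Prod.snd hxy))).eq.symm
  obtain ⟨⟨x, hx⟩, hF⟩ := hs (false, true)
  have e1 : ¬ (x * v1 * x⁻¹ = v1) := of_decide_eq_false (congrArg Prod.fst hF)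
  have e2 : x * v2 * x⁻¹ = v2 := of_decide_eq_true (congrArg Prod.snd hF)
  have e1' := (key x hx v1 h1).resolve_left e1
  obtain ⟨c, hc, hc2, -, -⟩ := exists_e S
  have hsq : x * x = 1 ∨ x * x = S.t := by
    obtain ⟨d, hd, y, hy, rfl⟩ := R_split S hx
    have hyy : y * y = 1 ∨ y * y = S.t := by
      have hz : (⟨y, hy⟩ : S.E) ^ 2 ∈ center S.E := by
        rw [← S.hEex.1.2.1]
        have := CfsgLib.PGroups.pow_mem_frattini S.hEex.1.1 ⟨y, hy⟩
        exact this
      have hzm : y * y ∈ S.Cy ⊓ S.E := by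
        rw [S.hmeet]
        refine ⟨mul_mem hy hy, mem_centralizer_iff.2 fun z hz' => ?_⟩
        simpa [pow_two] using congrArg Subtype.val (mem_center_iff.1 hz ⟨z, hz'⟩)
      have h2 : (⟨y * y, hzm⟩ : ↥(S.Cy ⊓ S.E)) ^ 2 = 1 := card_meet S ▸ pow_card_eq_one'
      exact inv_Cy S hzm.1 (by simpa [pow_two] using congrArg Subtype.val h2)
    rw [(Cy_comm S hd (S.hEle hy)).symm.mul_mul_mul_comm]
    rcases sq_Cy' S d hd with h | h <;> rcases hyy with h' | h' <;> simp [h, h', tt S]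
  rcases hsq with h | h
  · exact ⟨x, hx, e1', e2, h⟩
  · have hcx : ∀ v ∈ S.V, x * c * v * (x * c)⁻¹ = x * v * x⁻¹ := by
      intro v hv
      rw [show x * c * v * (x * c)⁻¹ = x * (c * v * c⁻¹) * x⁻¹ by group,
        (Cy_comm S hc (S.hVR hv)).eq, mul_inv_cancel_right]
    refine ⟨x * c, mul_mem hx (Cy_le_R S hc), by rw [hcx _ h1, e1'], by rw [hcx _ h2, e2], ?_⟩
    rw [(Cy_comm S hc hx).mul_mul_mul_comm, h, hc2, tt S]

theorem exists_complement : ∃ L : Subgroup G, L ≤ S.M ∧ L ⊓ S.A = ⊥ ∧ L ⊔ S.A = S.M := by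
  classical
  obtain ⟨e, heC, he2, he4, hCy⟩ := exists_e S
  have heA := Cy_le_A' S heC
  -- a basis of `V` and its square roots
  obtain ⟨v1, hv1, hv1t⟩ : ∃ v ∈ S.V, v ∉ zpowers S.t := by
    refine SetLike.not_le_iff_exists.1 fun h => ?_
    have := Nat.le_of_dvd Nat.card_pos (card_dvd_of_le h)
    rw [S.hVcard, Nat.card_zpowers, S.ht] at this
    omega
  obtain ⟨f, hf, hf2⟩ := A_sqrt S (V_le_A' S hv1) (V_sq S hv1)
  obtain ⟨v2, hv2, hv2t⟩ : ∃ v ∈ S.V, v ∉ zpowers S.t ⊔ zpowers v1 := by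
    refine SetLike.not_le_iff_exists.1 fun h => ?_
    have h' := Nat.le_of_dvd Nat.card_pos (card_dvd_of_le h)
    have hn : zpowers S.t ≤ normalizer (zpowers v1 : Set G) := by
      refine zpowers_le.2 (centralizer_le_normalizer _ (mem_centralizer_iff.2 fun y hy => ?_))
      obtain ⟨k, rfl⟩ := mem_zpowers_iff.1 hy
      exact (Commute.zpow_left (Cy_comm S (t_mem_Cy S) (S.hVR hv1)).symm k).eq
    have := card_sup_mul hn
    rw [Nat.card_zpowers, Nat.card_zpowers, S.ht] at this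
    have ho : orderOf v1 ≤ 2 := Nat.le_of_dvd (by norm_num) (orderOf_dvd_of_pow_eq_one (S.hVexp _ hv1))
    have hpos : 1 ≤ Nat.card ↥(zpowers S.t ⊓ zpowers v1) := Nat.card_pos
    rw [S.hVcard] at h'
    nlinarith
  obtain ⟨g0, hg0, hg02⟩ := A_sqrt S (V_le_A' S hv2) (V_sq S hv2)
  have B0 : Basis S e f g0 :=
    ⟨heA, hf, hg0, he2, hf2 ▸ hv1t, by rw [hf2, hg02]; exact hv2t⟩
  obtain ⟨p0t, p0f, p0g⟩ := phi_two B0
  -- the transvection
  have hgen : ∀ v ∈ S.V, ∀ x : G, Commute x S.t → Commute x v1 → Commute x v2 → Commute x v := by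
    intro v hv x ct c1 c2
    obtain ⟨u, hu⟩ := phi_surj B0 (V_le_A' S hv)
    have hu2 : u + u = 0 := phi_inj B0 (by rw [phi_add B0, hu, phi_zero]; exact V_sq S hv)
    obtain ⟨i, j, k, rfl⟩ := even_cases u hu2
    rw [← hu, phi_add B0, phi_add B0, phi_nsmul B0, phi_nsmul B0, phi_nsmul B0, p0t, p0f, p0g,
      hf2, hg02]
    exact ((ct.pow_right _).mul_right (c1.pow_right _)).mul_right (c2.pow_right _)
  obtain ⟨r, hrR, hr1, hr2, hrr⟩ := exists_trans S hv1 hv2 hgen
  have hrM := R_le_M' S hrR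
  have hrt : r * S.t * r⁻¹ = S.t := by rw [(mem_H S).1 (R_le_H S hrR), mul_inv_cancel_right]
  -- a conjugate exchanging `v1` and `v2`
  obtain ⟨m, hmM, hm1, hm2, hm3⟩ := exists_move B0
    ⟨(⟨(0, 2, 2), by decide⟩, ⟨(0, 2, 0), by decide⟩, ⟨(2, 0, 0), by decide⟩), by decide⟩
  simp only at hm1 hm2 hm3
  rw [show ((0, 2, 2) : C4) = (0, 2, 0) + (0, 0, 2) by decide, phi_add B0, p0f, p0g, hf2, hg02] at hm1
  rw [p0f, hf2] at hm2
  rw [p0t, hg02] at hm3
  set i := m * r * m⁻¹ with hi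
  have hiM : i ∈ S.M := mul_mem (mul_mem hmM hrM) (inv_mem hmM)
  have hii : i * i = 1 := by
    rw [hi, conj_mul, hrr]; simp
  have hinv : i⁻¹ = i := inv_eq_of_mul_eq_one_right hii
  have conj_i : ∀ a : G, i * (m * a * m⁻¹) * i⁻¹ = m * (r * a * r⁻¹) * m⁻¹ := fun a => by
    rw [hi]; group
  have hi1 : i * v1 * i⁻¹ = v2 := by
    have := conj_i v1
    rw [hm2, hr1, ← conj_mul, hm2, hm1] at this
    rw [this, ← mul_assoc, V_sq S hv1, one_mul]
  have hit : i * S.t * i⁻¹ = S.t := by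
    have := conj_i v2
    rwa [hm3, hr2, hm3] at this
  have hiH : i ∈ S.H := (mem_H S).2 (mul_inv_eq_iff_eq_mul.1 hit)
  set g := i * f * i⁻¹ with hg
  have hg2 : g * g = v2 := by rw [hg, conj_mul, hf2, hi1]
  have B : Basis S e f g :=
    ⟨heA, hf, conj_A S hiM hf, he2, hf2 ▸ hv1t, by rw [hf2, hg2]; exact hv2t⟩
  obtain ⟨pt, pf, pg⟩ := phi_two B
  rw [hf2] at pf
  rw [hg2] at pg
  have pe : phi e f g (1, 0, 0) = e := by simp [phi, show (1 : ZMod 4).val = 1 from rfl]
  have pf1 : phi e f g (0, 1, 0) = f := by simp [phi, show (1 : ZMod 4).val = 1 from rfl]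
  have pg1 : phi e f g (0, 0, 1) = g := by simp [phi, show (1 : ZMod 4).val = 1 from rfl]
  -- the action of `r`
  obtain ⟨p, hp⟩ := phi_surj B (conj_A S hrM hf)
  obtain ⟨q, hq⟩ := phi_surj B (conj_A S hrM (conj_A S hiM hf))
  have hre : r * e * r⁻¹ = phi e f g (1, 0, 0) := by
    rw [pe, ← (Cy_comm S heC hrR).eq, mul_inv_cancel_right]
  have hW := conj_phi B hre hp.symm hq.symm
  have hp2 : p ∈ pList := mem_pList p (phi_inj B (by
    rw [phi_add B, hp, conj_mul, hf2, hr1, show ((2, 2, 0) : C4) = (0, 2, 0) + (2, 0, 0) by decide,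
      phi_add B, pf, pt]))
  have hq2 : q ∈ qList := mem_qList q (phi_inj B (by
    rw [phi_add B, hq, conj_mul, hg2, hr2, pg]))
  -- the action of `i`
  obtain ⟨s, hs, hse⟩ : ∃ s ∈ [(1 : ZMod 4), 3], i * e * i⁻¹ = phi e f g (s, 0, 0) := by
    have hmem : i * e * i⁻¹ ∈ S.Cy := center_R' S (conj_R S hiH (Cy_le_R S heC)) fun y hy => by
      have hy' : i⁻¹ * y * i ∈ S.R := by simpa using conj_R S (inv_mem hiH) hy
      calc i * e * i⁻¹ * y = i * (e * (i⁻¹ * y * i)) * i⁻¹ := by group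
        _ = i * ((i⁻¹ * y * i) * e) * i⁻¹ := by rw [(Cy_comm S heC hy').eq]
        _ = y * (i * e * i⁻¹) := by group
    have hne : i * e * i⁻¹ ≠ 1 ∧ i * e * i⁻¹ ≠ S.t := by
      constructor <;> intro h <;> refine t_ne S ?_
      · rw [conj_eq_one_iff] at h
        rw [← he2, h, one_mul]
      · have h2 : (i * e * i⁻¹) * (i * e * i⁻¹) = 1 := by rw [h]; exact tt S
        rw [conj_mul, he2, conj_eq_one_iff] at h2
        exact h2
    rcases hCy _ hmem with h | h | h | h
    · exact absurd h hne.1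
    · exact ⟨1, by simp, h.trans pe.symm⟩
    · exact absurd h hne.2
    · refine ⟨3, by simp, h.trans ?_⟩
      rw [show ((3, 0, 0) : C4) = 3 • ((1, 0, 0) : C4) by decide, phi_nsmul B, pe]
      exact inv_eq_of_mul_eq_one_right (by rw [← pow_succ', he4])
  have hig : i * g * i⁻¹ = phi e f g (0, 1, 0) := by
    rw [pf1, hg, show i * (i * f * i⁻¹) * i⁻¹ = (i * i) * f * (i * i)⁻¹ by group, hii]
    simp
  have hI := conj_phi B hse (hg.symm.trans pg1.symm) hig
  set r2 := i * r * i⁻¹ with hr2def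
  have hr2R : r2 ∈ S.R := conj_R S hiH hrR
  have hr22 : r2 * r2 = 1 := by rw [hr2def, conj_mul, hrr]; simp
  have hW2 : ∀ v, r2 * phi e f g v * r2⁻¹ = phi e f g (mW2 s p q v) := by
    intro v
    rw [mW2, mI, mW, ← hI, ← hW, ← hI, hr2def, hinv]
    group
    simp [hinv]
  -- the commutator
  obtain ⟨c, hc, hcom⟩ : ∃ c ∈ [(0 : ZMod 4), 2], r * r2 = phi e f g (c, 0, 0) * (r2 * r) := by
    rcases comm_R' S r hrR r2 hr2R with h | h
    · refine ⟨0, by simp, ?_⟩
      rw [mul_inv_eq_one, mul_inv_eq_iff_eq_mul] at h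
      rw [h, show ((0, 0, 0) : C4) = 0 from rfl, phi_zero, one_mul]
    · refine ⟨2, by simp, ?_⟩
      rw [mul_inv_eq_iff_eq_mul, mul_inv_eq_iff_eq_mul, mul_assoc] at h
      rw [h, pt]
  have hcA : ∀ v, (r2 * r) * phi e f g v * (r2 * r)⁻¹ = (r * r2) * phi e f g v * (r * r2)⁻¹ := by
    intro v
    have hA : (r2 * r) * phi e f g v * (r2 * r)⁻¹ ∈ S.A :=
      conj_A S (mul_mem (R_le_M' S hr2R) hrM) (phi_mem B v)
    rw [hcom]
    calc r2 * r * phi e f g v * (r2 * r)⁻¹
        = phi e f g (c, 0, 0) * (r2 * r * phi e f g v * (r2 * r)⁻¹) * (phi e f g (c, 0, 0))⁻¹ := by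
          rw [A_comm' S _ (phi_mem B _) _ hA, mul_inv_cancel_right]
      _ = _ := by group
  -- fixed points
  have hfixI : fixCard (mW p q) = fixCard (mI s) := by
    rw [mW, mI, fix_eq B hW, fix_eq B hI, fix_conj (S := S) (a0 := 1) hmM (one_mem _), mul_one]
  have hfixP : fixCard (mW p q) = fixCard (fun v => mW p q (mW2 s p q v)) := by
    obtain ⟨n, hnM, hn1, hn2, hn3⟩ := exists_move B
      ⟨(⟨(2, 0, 0), by decide⟩, ⟨(0, 2, 0), by decide⟩, ⟨(0, 2, 2), by decide⟩), by decide⟩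
    simp only at hn1 hn2 hn3
    rw [pt] at hn1
    rw [hf2, pf] at hn2
    rw [hg2, show ((0, 2, 2) : C4) = (0, 2, 0) + (0, 0, 2) by decide, phi_add B, pf, pg] at hn3
    set k := n * r * n⁻¹ with hk
    have conj_k : ∀ a : G, k * (n * a * n⁻¹) * k⁻¹ = n * (r * a * r⁻¹) * n⁻¹ := fun a => by
      rw [hk]; group
    have k1 : k * v1 * k⁻¹ = v1 * S.t := by
      have := conj_k v1
      rwa [hn2, hr1, ← conj_mul, hn2, hn1] at this
    have k12 : k * (v1 * v2) * k⁻¹ = v1 * v2 := by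
      have := conj_k v2
      rwa [hn3, hr2, hn3] at this
    have kt : k * S.t * k⁻¹ = S.t := by
      have := conj_k S.t
      rwa [hn1, hrt, hn1] at this
    have k2 : k * v2 * k⁻¹ = v2 * S.t := by
      have h := k12
      rw [← conj_mul, k1, mul_assoc] at h
      have h' := mul_left_cancel h
      calc k * v2 * k⁻¹ = (S.t * S.t) * (k * v2 * k⁻¹) := by rw [tt S, one_mul]
        _ = S.t * v2 := by rw [mul_assoc, h']
        _ = v2 * S.t := (Cy_comm S (t_mem_Cy S) (S.hVR hv2)).eq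
    have hr2t : r2 * S.t * r2⁻¹ = S.t := by
      rw [(mem_H S).1 (R_le_H S hr2R), mul_inv_cancel_right]
    have r21 : r2 * v1 * r2⁻¹ = v1 := by
      have hi2 : i * v2 * i⁻¹ = v1 := by
        rw [← hi1, show i * (i * v1 * i⁻¹) * i⁻¹ = (i * i) * v1 * (i * i)⁻¹ by group, hii]; simp
      rw [hr2def, show i * r * i⁻¹ * v1 * (i * r * i⁻¹)⁻¹ = i * (r * (i⁻¹ * v1 * i) * r⁻¹) * i⁻¹ by
        group]
      rw [show i⁻¹ * v1 * i = v2 by rw [← hi2]; group, hr2, hi2]
    have r22 : r2 * v2 * r2⁻¹ = v2 * S.t := by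
      rw [hr2def, ← hi1, show i * r * i⁻¹ * (i * v1 * i⁻¹) * (i * r * i⁻¹)⁻¹ =
        i * (r * v1 * r⁻¹) * i⁻¹ by group, hr1, ← conj_mul, hit]
    have hA0 : k⁻¹ * (r * r2) ∈ S.A := by
      rw [← cent_V' S]
      have hcm : ∀ a : G, k * a * k⁻¹ = (r * r2) * a * (r * r2)⁻¹ →
          Commute (k⁻¹ * (r * r2)) a := by
        intro a ha
        show k⁻¹ * (r * r2) * a = a * (k⁻¹ * (r * r2))
        calc k⁻¹ * (r * r2) * a = k⁻¹ * ((r * r2) * a * (r * r2)⁻¹) * (r * r2) := by group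
          _ = k⁻¹ * (k * a * k⁻¹) * (r * r2) := by rw [ha]
          _ = a * (k⁻¹ * (r * r2)) := by group
      refine mem_centralizer_iff.2 fun v hv => (hgen v hv _ (hcm _ ?_) (hcm _ ?_) (hcm _ ?_)).eq.symm
      · rw [kt, show r * r2 * S.t * (r * r2)⁻¹ = r * (r2 * S.t * r2⁻¹) * r⁻¹ by group, hr2t, hrt]
      · rw [k1, show r * r2 * v1 * (r * r2)⁻¹ = r * (r2 * v1 * r2⁻¹) * r⁻¹ by group, r21, hr1]
      · rw [k2, show r * r2 * v2 * (r * r2)⁻¹ = r * (r2 * v2 * r2⁻¹) * r⁻¹ by group, r22,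
          ← conj_mul, hr2, hrt]
    rw [mW, fix_eq B hW, fix_eq B (x := r * r2) (L := fun v => lin (1, 0, 0) p q (mW2 s p q v))
      (fun v => by rw [← hW, ← hW2]; group), fix_conj (S := S) hnM hA0, ← hk,
      mul_inv_cancel_left]
  have hyp : Hyp s p q := by
    refine ⟨fun v _ => phi_inj B ?_, fun v _ => phi_inj B ?_, hfixI, hfixP⟩
    · rw [mW, ← hW, ← hW, show r * (r * phi e f g v * r⁻¹) * r⁻¹ =
        (r * r) * phi e f g v * (r * r)⁻¹ by group, hrr]
      simp
    · have h := hcA v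
      rw [mW, ← hW, ← hW2, ← hW2, ← hW]
      calc r * (r2 * phi e f g v * r2⁻¹) * r⁻¹ = r * r2 * phi e f g v * (r * r2)⁻¹ := by group
        _ = r2 * r * phi e f g v * (r2 * r)⁻¹ := h.symm
        _ = r2 * (r * phi e f g v * r⁻¹) * r2⁻¹ := by group
  obtain ⟨a, ha1, ha2⟩ := exists_shift s hs p hp2 q hq2 hyp c hc
  -- the complement in a Sylow subgroup
  set w := phi e f g a * r with hw
  set w' := i * w * i⁻¹ with hw'
  have hww : w * w = 1 := by
    rw [hw, show phi e f g a * r * (phi e f g a * r) =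
      phi e f g a * (r * phi e f g a * r⁻¹) * (r * r) by group, hrr, mul_one, hW, ← phi_add B]
    exact (congrArg (phi e f g) ha1).trans phi_zero
  have hw'eq : w' = phi e f g (mI s a) * r2 := by
    rw [hw', hw, mI, ← hI, hr2def]; group
  have hw'w' : w' * w' = 1 := by rw [hw', conj_mul, hww]; simp
  have hcomm : Commute w w' := by
    show w * w' = w' * w
    rw [hw'eq, hw]
    calc phi e f g a * r * (phi e f g (mI s a) * r2)
        = phi e f g a * (r * phi e f g (mI s a) * r⁻¹) * (r * r2) := by group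
      _ = phi e f g (a + mW p q (mI s a) + (c, 0, 0)) * (r2 * r) := by
          rw [hW, hcom, phi_add B, phi_add B, mW, ← mul_assoc]
      _ = phi e f g (mI s a) * (r2 * phi e f g a * r2⁻¹) * (r2 * r) := by
          rw [ha2, hW2, phi_add B]
      _ = phi e f g (mI s a) * r2 * (phi e f g a * r) := by group
  have hwM : w ∈ S.M := mul_mem (A_le_M S (phi_mem B a)) hrM
  have hw'M : w' ∈ S.M := mul_mem (mul_mem hiM hwM) (inv_mem hiM)
  let el : Bool → Bool → Bool → G := fun x y z =>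
    (if x then w else 1) * (if y then w' else 1) * (if z then i else 1)
  set L0 := Subgroup.closure ({w, i} : Set G) with hL0
  have hiw : i * w = w' * i := by rw [hw']; group
  have hiw' : i * w' = w * i := by
    rw [hw', show i * (i * w * i⁻¹) = (i * i) * w * i⁻¹ by group, hii, one_mul, hinv]
  have hel : ∀ l ∈ L0, ∃ x y z, l = el x y z := by
    intro l hl
    have hgenmul : ∀ u ∈ ({w, i} : Set G), ∀ x y z, ∃ x' y' z', u * el x y z = el x' y' z' := by
      rintro u (rfl | rfl) x y z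
      · refine ⟨!x, y, z, ?_⟩
        cases x <;> simp [el, ← mul_assoc, hww]
      · refine ⟨y, x, !z, ?_⟩
        have hX : i * (if x then w else 1) = (if x then w' else 1) * i := by
          cases x <;> simp [hiw]
        have hY : i * (if y then w' else 1) = (if y then w else 1) * i := by
          cases y <;> simp [hiw']
        have hZ : i * (if z then i else 1) = if !z then i else 1 := by
          cases z <;> simp [hii]
        have hXY : (if x then w' else 1) * (if y then w else 1) =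
            (if y then w else 1) * (if x then w' else (1 : G)) := by
          cases x <;> cases y <;> simp [hcomm.eq]
        simp only [el]
        rw [← mul_assoc, ← mul_assoc, hX, mul_assoc _ i, hY, ← mul_assoc, hXY, mul_assoc _ i, hZ]
    induction hl using Subgroup.closure_induction_left with
    | one => exact ⟨false, false, false, by simp [el]⟩
    | mul_left u hu y _ ih =>
      obtain ⟨x1, y1, z1, rfl⟩ := ih
      exact hgenmul u hu x1 y1 z1
    | inv_mul_cancel u hu y _ ih =>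
      obtain ⟨x1, y1, z1, rfl⟩ := ih
      have : u⁻¹ = u := by
        rcases hu with rfl | rfl
        · exact inv_eq_of_mul_eq_one_right hww
        · exact hinv
      rw [this]
      exact hgenmul u hu x1 y1 z1
  have hact : ∀ x y z v, el x y z * phi e f g v * (el x y z)⁻¹ =
      phi e f g (act (mW p q) (mW2 s p q) (mI s) x y z v) := by
    have e1 : ∀ v, w * phi e f g v * w⁻¹ = phi e f g (mW p q v) := by
      intro v
      rw [hw, show phi e f g a * r * phi e f g v * (phi e f g a * r)⁻¹ =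
        phi e f g a * (r * phi e f g v * r⁻¹) * (phi e f g a)⁻¹ by group, hW,
        A_comm' S _ (phi_mem B a) _ (phi_mem B _), mul_inv_cancel_right, mW]
    have e2 : ∀ v, w' * phi e f g v * w'⁻¹ = phi e f g (mW2 s p q v) := by
      intro v
      rw [hw'eq, show phi e f g (mI s a) * r2 * phi e f g v * (phi e f g (mI s a) * r2)⁻¹ =
        phi e f g (mI s a) * (r2 * phi e f g v * r2⁻¹) * (phi e f g (mI s a))⁻¹ by group, hW2,
        A_comm' S _ (phi_mem B _) _ (phi_mem B _), mul_inv_cancel_right]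
    intro x y z v
    have hz : (if z then i else 1) * phi e f g v * (if z then i else (1 : G))⁻¹ =
        phi e f g (if z then mI s v else v) := by
      cases z
      · simp
      · simpa [mI] using hI v
    rw [show el x y z * phi e f g v * (el x y z)⁻¹ = (if x then w else 1) * ((if y then w' else 1) *
      ((if z then i else 1) * phi e f g v * (if z then i else (1 : G))⁻¹) *
      (if y then w' else (1 : G))⁻¹) * (if x then w else (1 : G))⁻¹ by simp only [el]; group, hz]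
    cases x <;> cases y <;> simp [act, e1, e2]
  have hinj : ∀ x y z x' y' z', ∀ a1 ∈ S.A, el x y z = a1 * el x' y' z' →
      x = x' ∧ y = y' ∧ z = z' := by
    intro x y z x' y' z' a1 ha1 he
    have hv : ∀ v, act (mW p q) (mW2 s p q) (mI s) x y z v =
        act (mW p q) (mW2 s p q) (mI s) x' y' z' v := fun v => phi_inj B (by
      rw [← hact, ← hact, he, show a1 * el x' y' z' * phi e f g v * (a1 * el x' y' z')⁻¹ =
        a1 * (el x' y' z' * phi e f g v * (el x' y' z')⁻¹) * a1⁻¹ by group, hact,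
        A_comm' S a1 ha1 _ (phi_mem B _), mul_inv_cancel_right])
    exact act_inj s hs p hp2 q hq2 x y z x' y' z' (hv _) (hv _)
  have hL0M : L0 ≤ S.M := (Subgroup.closure_le _).2 (by rintro u (rfl | rfl); exacts [hwM, hiM])
  -- Gaschütz in `M`
  set K := S.A.subgroupOf S.M with hK
  haveI hKn : K.Normal := ⟨fun x hx m => by
    rw [hK, mem_subgroupOf] at hx ⊢
    exact conj_A S m.2 hx⟩
  haveI hKc : IsMulCommutative K := ⟨⟨fun x y => Subtype.ext (Subtype.ext (A_comm' S _ x.2 _ y.2))⟩⟩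
  set L1 := L0.subgroupOf S.M with hL1
  have hAL : L1 ⊓ K = ⊥ := by
    rw [eq_bot_iff]
    intro l hl
    obtain ⟨hl1, hl2⟩ := Subgroup.mem_inf.1 hl
    rw [hL1, mem_subgroupOf] at hl1
    rw [hK, mem_subgroupOf] at hl2
    obtain ⟨x, y, z, hl⟩ := hel _ hl1
    obtain ⟨rfl, rfl, rfl⟩ := hinj x y z false false false (l : G) hl2 (by simp [el, hl])
    exact mem_bot.2 (Subtype.ext (by simpa [el] using hl))
  set U := K ⊔ L1 with hU
  have hcardU : Nat.card U = 512 := by
    have hmem : ∀ x y z, el x y z ∈ L0 := by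
      intro x y z
      have hwL : w ∈ L0 := Subgroup.subset_closure (Or.inl rfl)
      have hiL : i ∈ L0 := Subgroup.subset_closure (Or.inr rfl)
      refine mul_mem (mul_mem ?_ ?_) ?_ <;> split
      exacts [hwL, one_mem _, mul_mem (mul_mem hiL hwL) (inv_mem hiL), one_mem _, hiL, one_mem _]
    let F : K × (Bool × Bool × Bool) → U := fun d => ⟨(d.1 : S.M) *
      ⟨el d.2.1 d.2.2.1 d.2.2.2, hL0M (hmem _ _ _)⟩,
      mul_mem_sup d.1.2 (by rw [hL1, mem_subgroupOf]; exact hmem _ _ _)⟩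
    have hF : Function.Bijective F := by
      refine ⟨fun d d' h => ?_, fun u => ?_⟩
      · obtain ⟨d, x, y, z⟩ := d
        obtain ⟨d', x', y', z'⟩ := d'
        have h' : ((d : S.M) : G) * el x y z = ((d' : S.M) : G) * el x' y' z' :=
          congrArg (fun u : U => ((u : S.M) : G)) h
        obtain ⟨rfl, rfl, rfl⟩ := hinj x y z x' y' z' (((d : S.M) : G)⁻¹ * ((d' : S.M) : G))
          (mul_mem (inv_mem d.2) d'.2) (by rw [mul_assoc, ← h', inv_mul_cancel_left])
        exact Prod.ext (Subtype.ext (Subtype.ext (mul_right_cancel h'))) rfl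
      · obtain ⟨d, hd, l, hl, hdl⟩ := Subgroup.mem_sup_of_normal_left.1 (hU ▸ u.2 : (u : S.M) ∈ K ⊔ L1)
        rw [hL1, mem_subgroupOf] at hl
        obtain ⟨x, y, z, hxyz⟩ := hel _ hl
        refine ⟨(⟨d, hd⟩, x, y, z), Subtype.ext (Subtype.ext ?_)⟩
        show d.1 * el x y z = ((u : S.M) : G)
        rw [← hdl, Subgroup.coe_mul, hxyz]
    rw [← Nat.card_eq_of_bijective F hF, Nat.card_prod, hK,
      Nat.card_congr (subgroupOfEquivOfLe (A_le_M S)).toEquiv, card_A' S,
      Nat.card_eq_fintype_card]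
    decide
  have hidx : U.index = 21 := by
    have := U.index_mul_card
    rw [hcardU, card_M' S] at this
    omega
  obtain ⟨H', hH'⟩ := CfsgLib.Coprime.gaschutz_exists K U le_sup_left (by
    rw [hidx, hK, Nat.card_congr (subgroupOfEquivOfLe (A_le_M S)).toEquiv, card_A' S]
    decide) L1 le_sup_right hAL rfl
  refine ⟨H'.map S.M.subtype, map_subtype_le _, ?_, ?_⟩
  · rw [eq_bot_iff]
    rintro _ ⟨⟨l, hl, rfl⟩, hlA⟩
    have : l ∈ K ⊓ H' := Subgroup.mem_inf.2 ⟨by rw [hK, mem_subgroupOf]; exact hlA, hl⟩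
    rw [disjoint_iff.1 hH'.disjoint, mem_bot] at this
    rw [mem_bot, this, map_one]
  · refine le_antisymm (sup_le (map_subtype_le _) (A_le_M S)) fun x hx => ?_
    have : (⟨x, hx⟩ : S.M) ∈ K ⊔ H' := hH'.sup_eq_top ▸ mem_top _
    obtain ⟨d, hd, l, hl, hdl⟩ := Subgroup.mem_sup_of_normal_left.1 this
    have hdl' : (d : G) * (l : G) = x := congrArg Subtype.val hdl
    rw [← hdl']
    exact mul_mem (mem_sup_right (mem_subgroupOf.1 hd)) (mem_sup_left (mem_map_of_mem _ hl))

end LocalAux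

/-- The two-local facts about the setup. -/
theorem local_of_setup {G : Type u} [Group G] [Finite G] (S : Setup G) : Local S where
  t_mem := LocalAux.t_mem' S
  card_R := LocalAux.card_R' S
  card_H := LocalAux.card_H' S
  card_M := LocalAux.card_M' S
  card_A := LocalAux.card_A' S
  A_comm := LocalAux.A_comm' S
  V_le_A := LocalAux.V_le_A' S
  V_eq := LocalAux.V_eq' S
  cent_V := LocalAux.cent_V' S
  comm_R := LocalAux.comm_R' S
  center_R := fun _ hx h => LocalAux.center_R' S hx h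
  sq_Cy := LocalAux.sq_Cy' S
  cent_R := LocalAux.cent_R' S
  R_le_M := LocalAux.R_le_M' S
  Cy_le_A := LocalAux.Cy_le_A' S
  card_inter := LocalAux.card_inter' S
  split := LocalAux.exists_complement S

end CfsgLib.Spor.HSLocal
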