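import Cfsg.Agent.Lib.PresCert.Check

/-!
Coset table certificate (generated data).
-/

namespace CfsgLib.Spor.HSLocal.MA

open CfsgLib.PresCert

noncomputable def tab : BTree := (.node (.leaf 0x3846400098000500000100009000020018144000d8000600000100008800010000010000c800060040624000d000050000010000c0000600103a4000f0000400181440007000030030624000800003000812400068000300000100005800010008104000600003001032400078000300685240005000010000000000b000060010344000400001004066400048000200000100003800010000000000900005000001000050000200000000008800040000010000400002000000000058000300000000003800020000010000300000000008800028000000000680002000000000048000180000000002800010000000000080000800000000000000300001) (.leaf 0x10000d800040000010000b0000200502a4000c800040058264000b800060000284000c000040018624000e8000600685e4000a800050038264000e000050020484000a000050000010000d00004))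

noncomputable def par : BTree := (.leaf 0x400002000000000000000200000000004000010000000000200001000000000010000100000000000000000000000000000000)

noncomputable def fact : BTree := (.leaf 0x0)

/-- the certificate -/
noncomputable def cert : Cert where
  n := 7
  v := 0
  g := 6
  inv := [0, 1, 2, 3, 4, 5]
  rels := [[5, 1, 5, 1, 5, 1, 5, 1], [5, 1, 2, 5, 1, 2], [5, 1, 3, 5, 1, 3], [1, 5, 1, 5, 1, 5, 1, 5], [1, 5, 2, 1, 5, 2], [1, 5, 3, 1, 5, 3], [5, 1, 5, 1, 2, 1, 5, 1, 5, 2], [5, 1, 5, 1, 3, 1, 5, 1, 5, 3], [2, 1, 2, 1, 2, 1], [2, 3, 2, 3, 2, 3], [5, 1, 2, 5, 2, 1, 2, 1], [5, 1, 2, 3, 2, 3, 2, 5, 1, 3], [5, 2, 1, 5, 1, 2, 1, 2], [1, 5, 2, 3, 2, 3, 2, 1, 5, 3], [1, 3, 1, 3, 1, 3, 1, 3], [5, 1, 5, 1, 2, 3, 2, 3, 2, 1, 5, 1, 5, 3], [5, 1, 5, 2, 1, 2, 5, 1, 5, 2], [2, 1, 2, 1, 3, 2, 3, 2, 3, 1], [5, 1, 4,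 1, 5, 1, 2, 4, 1, 2, 1, 4, 2], [1, 5, 2, 1, 5, 1, 2, 4, 2, 1, 4, 2, 4], [1, 4, 2, 4, 1, 2, 1, 4, 2], [5, 1, 5, 1, 5, 1, 2, 3, 4, 2, 3, 4, 2, 3, 4], [5, 1, 5, 1, 2, 4, 3, 4, 3, 1, 3, 1, 3, 2], [5, 1, 5, 1, 2, 3, 2, 4, 1, 3, 1, 4, 2, 3], [5, 1, 5, 1, 2, 3, 1, 3, 1, 3, 4, 3, 4, 2], [0, 2, 0, 2, 0, 2], [0, 1, 3, 0, 1, 3], [0, 3, 1, 0, 3, 1], [5, 1, 0, 5, 1, 0, 1, 5, 0, 1, 5, 0], [5, 1, 0, 2, 0, 2, 0, 5, 1, 2], [5, 1, 0, 1, 0, 1, 5, 0, 3, 0], [5, 1, 0, 1, 3, 0, 1, 5, 1, 3], [5, 1, 0, 3, 1, 0, 1, 5, 3, 1], [1, 0, 3, 1, 0, 3], [1, 3, 0, 1, 3, 0], [0, 2, 1, 0, 1, 2, 0, 1, 0, 1, 2, 1, 0, 1, 2], [0, 2, 1, 0, 3, 0, 2, 1, 0, 3, 0, 2, 3, 0, 1], [0, 2, 1, 0, 3, 0, 2, 3, 0, 1, 0, 2, 3, 0, 1], [0, 2, 5, 3, 1, 3, 2, 0, 1, 2, 3, 1, 2, 3], [0, 2, 1, 3, 1, 5, 1, 3, 2, 0, 3, 2, 1, 3, 2, 1], [0, 2, 3, 5, 3, 1, 2, 0, 3, 2, 1,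 3, 2, 1], [0, 2, 3, 1, 2, 0, 1, 2, 1, 3, 1, 3, 2, 5], [0, 2, 3, 1, 2, 0, 1, 2, 3, 1, 3, 5, 2, 1], [0, 2, 3, 1, 2, 0, 1, 2, 3, 1, 3, 1, 2, 5], [0, 2, 3, 1, 2, 0, 3, 2, 1, 3, 1, 2, 3, 2, 1, 5], [0, 2, 3, 1, 2, 0, 3, 2, 1, 3, 1, 3, 1, 5, 2, 3], [0, 2, 3, 1, 2, 1, 5, 1, 5, 0, 1, 2, 1, 5, 2, 3, 1, 3], [0, 2, 3, 1, 2, 1, 0, 1, 0, 5, 1, 5, 0, 5], [0, 1, 5, 1, 5, 0, 2, 1, 3, 1, 3, 2], [2, 3, 1, 0, 2, 1, 4, 1, 2, 0, 1, 3, 2, 3], [0, 1, 3, 2, 1, 5, 1, 5, 2, 3, 1, 0, 2, 1, 3, 1, 3, 2], [0, 2, 1, 4, 1, 2, 0, 1, 2, 1], [1, 5, 1, 5, 3, 1, 5, 1, 5, 3], [1, 5, 1, 5, 2, 1, 5, 1, 5, 2], [2, 1, 2, 1, 2, 3, 1, 3, 1, 3, 1, 3], [2, 1, 2, 3, 2, 1, 3, 2, 3, 1, 2, 3], [2, 1, 2, 3, 1, 2, 1, 3, 1, 2, 1, 3]]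
  subs := [[1], [2], [3], [4], [5]]
  tab := tab
  par := par
  fact := fact
  nfact := 0

/-- justifications -/
noncomputable def justs : List Cert.Just := []

end CfsgLib.Spor.HSLocal.MA
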