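import Cfsg.Agent.Lib.PresCert.Check

/-!
Coset table certificate (generated data).
-/

namespace CfsgLib.Spor.HSLocal.MC

open CfsgLib.PresCert

noncomputable def tab : BTree := (.node (.leaf 0x1002400088000a0000000000d0000e0000010000b8000c00000100007800050000000000c0000d00000100007000040000000000a8000c000000000090000b00180c400068000700100040006000060000010000580004000000000080000a00000100006000070000010000500003000001000040000200000000007800090010044000480005000000000070000800000100003800020000000000580007000802400030000300000100002800010000000000500006000000000040000500000000003800040000010000200001000001000018000000000000002800030000000000200002000000000018000100000280001000000000008000080000) (.leaf 0x10000e0000d00200a4000f0000e0010044000e8000f0008044000d8000e0000010000f0000f0000010000d0000a0000000000e0000f0010004000c8000d0000010000c000090008024000b800090000010000a800080008004000b0000c000804400098000b00280c4000a0000b00000100009000080000010000800006))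

noncomputable def par : BTree := (.leaf 0x20000d000000000000000a00000000000000090000000000100008000000000000000800000000002000060000000000100005000000000020000400000000000000040000000000000003000000000020000200000000001000020000000000100001000000000000000100000000002000000000000000000000)

noncomputable def fact : BTree := (.leaf 0x0)

/-- the certificate -/
noncomputable def cert : Cert where
  n := 16
  v := 0
  g := 3
  inv := [0, 1, 2]
  rels := [[1, 0, 1, 0, 1, 0], [1, 2, 1, 2, 1, 2], [0, 2, 0, 2, 0, 2, 0, 2], [1, 0, 1, 0, 2, 1, 2, 1, 2, 0], [1, 0, 1, 0, 1, 2, 0, 2, 0, 2, 0, 2], [1, 0, 1, 2, 1, 0, 2, 1, 2, 0, 1, 2], [1, 0, 1, 2, 0, 1, 0, 2, 0, 1, 0, 2]]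
  subs := [[0], [1]]
  tab := tab
  par := par
  fact := fact
  nfact := 0

/-- justifications -/
noncomputable def justs : List Cert.Just := []

end CfsgLib.Spor.HSLocal.MC
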