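import Cfsg.Agent.Lib.PresCert.Check

/-!
Coset table certificate (generated data).
-/

namespace CfsgLib.Spor.HSLocal.MD

open CfsgLib.PresCert

noncomputable def tab : BTree := (.leaf 0x1000400020000200000100001800010000010000100000000000000018000200000000001000010000008000080000)

noncomputable def par : BTree := (.leaf 0x100000000001000000000000000000000)

noncomputable def fact : BTree := (.leaf 0x0)

/-- the certificate -/
noncomputable def cert : Cert where
  n := 3
  v := 0
  g := 2
  inv := [0, 1]
  rels := [[1, 0, 1, 0, 1, 0]]
  subs := [[0]]
  tab := tab
  par := par
  fact := fact
  nfact := 0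

/-- justifications -/
noncomputable def justs : List Cert.Just := []

end CfsgLib.Spor.HSLocal.MD
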