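import Cfsg.Agent.Lib.PresCert.Check

/-!
Coset table certificate (generated data).
-/

namespace CfsgLib.Spor.HSLocal.ME

open CfsgLib.PresCert

noncomputable def tab : BTree := (.leaf 0x100000800000000000000080001)

noncomputable def par : BTree := (.leaf 0x0)

noncomputable def fact : BTree := (.leaf 0x0)

/-- the certificate -/
noncomputable def cert : Cert where
  n := 2
  v := 0
  g := 1
  inv := [0]
  rels := []
  subs := []
  tab := tab
  par := par
  fact := fact
  nfact := 0

/-- justifications -/
noncomputable def justs : List Cert.Just := []

end CfsgLib.Spor.HSLocal.ME
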