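import Cfsg.Agent.Lib.Spor.HSLocal.Defs

/-!
Cyclic free reduction of words, and the values of reduced words.
-/

set_option autoImplicit false

namespace CfsgLib.Spor.HSLocal

variable {n : ℕ} (iv : Fin n → Fin n)

/-- put a letter in front, cancelling an inverse pair -/
def push (x : Fin n) : List (Fin n) → List (Fin n)
  | [] => [x]
  | y :: l => if y = iv x then l else x :: y :: l

/-- free reduction -/
def fred (l : List (Fin n)) : List (Fin n) := l.foldr (push iv) []

/-- strip inverse letters at the two ends -/
def strip : ℕ → List (Fin n) → List (Fin n)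
  | 0, l => l
  | _ + 1, [] => []
  | k + 1, x :: l =>
    if l ≠ [] ∧ l.getLast? = some (iv x) then strip k l.dropLast else x :: l

/-- cyclic free reduction -/
def cred (l : List (Fin n)) : List (Fin n) := strip iv l.length (fred iv l)

variable {G : Type*} [Group G] {f : Fin n → G}

theorem ev_cons (x : Fin n) (l : List (Fin n)) : ev f (x :: l) = f x * ev f l := by
  simp [ev]

theorem ev_append (l l' : List (Fin n)) : ev f (l ++ l') = ev f l * ev f l' := by
  simp [ev]

theorem ev_push (hf : ∀ x, f x * f (iv x) = 1) (x : Fin n) (l : List (Fin n)) :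
    ev f (push iv x l) = f x * ev f l := by
  cases l with
  | nil => simp [push, ev]
  | cons y l =>
    simp only [push]
    split_ifs with h
    · subst h; rw [ev_cons, ← mul_assoc, hf, one_mul]
    · rw [ev_cons]

theorem ev_fred (hf : ∀ x, f x * f (iv x) = 1) (l : List (Fin n)) :
    ev f (fred iv l) = ev f l := by
  induction l with
  | nil => rfl
  | cons x l ih =>
    show ev f (push iv x (fred iv l)) = _
    rw [ev_push iv hf, ih, ev_cons]

theorem ev_strip (hf : ∀ x, f x * f (iv x) = 1) :
    ∀ (k : ℕ) (l : List (Fin n)), ev f (strip iv k l) = 1 ↔ ev f l = 1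
  | 0, _ => Iff.rfl
  | _ + 1, [] => Iff.rfl
  | k + 1, x :: l => by
    simp only [strip]
    split_ifs with h
    · rw [ev_strip hf k l.dropLast]
      have e : l.dropLast ++ [iv x] = l :=
        List.dropLast_append_getLast? (iv x) h.2
      have hx : f (iv x) = (f x)⁻¹ := eq_inv_of_mul_eq_one_right (hf x)
      have h1 : ev f (x :: l) = f x * ev f l.dropLast * (f x)⁻¹ := by
        conv_lhs => rw [← e]
        rw [ev_cons, ev_append, ← hx, mul_assoc]
        simp [ev]
      rw [h1, conj_eq_one_iff]
    · exact Iff.rfl

theorem ev_cred (hf : ∀ x, f x * f (iv x) = 1) (l : List (Fin n)) :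
    ev f (cred iv l) = 1 ↔ ev f l = 1 := by
  rw [cred, ev_strip iv hf, ev_fred iv hf]

/-- values of substituted words -/
theorem ev_flatMap {m : ℕ} (σ : Fin m → List (Fin n)) (g : Fin m → G)
    (hg : ∀ x, ev f (σ x) = g x) : ∀ l : List (Fin m), ev f (l.flatMap σ) = ev g l
  | [] => rfl
  | x :: l => by
    rw [List.flatMap_cons, ev_append, ev_flatMap σ g hg l, hg, ev_cons]

end CfsgLib.Spor.HSLocal
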