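import Cfsg.Agent.Lib.PresCert.Presented
import Cfsg.Agent.Lib.Spor.HSLocal.Words
import Cfsg.Agent.Lib.Spor.HSLocal.MPermData
import Cfsg.Agent.Lib.Spor.HSLocal.MACert
import Cfsg.Agent.Lib.Spor.HSLocal.MBCert
import Cfsg.Agent.Lib.Spor.HSLocal.MCCert
import Cfsg.Agent.Lib.Spor.HSLocal.MDCert
import Cfsg.Agent.Lib.Spor.HSLocal.MECert

/-!
Identities in the two-local subgroup `M` are decided in a permutation model: a word in the seven
letters `a, s, q, x, w, e, e⁻¹` is trivial in `G` iff it moves none of the 100 points.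
-/

set_option autoImplicit false

namespace CfsgLib.Spor.HSLocal.MModel

open CfsgLib.PresCert

universe u

/-- a letter of `mlet` in the six involutions -/
def sub6 : Fin 7 → List (Fin 6) := ![[0], [1], [2], [3], [4], [1, 5], [5, 1]]

theorem invol_ok : PermData.okInvol MPerm.data = true := by decide +kernel

theorem nums_ok : PermData.okNums MPerm.data (MPerm.rels.map fun r => r.map Fin.val) = true := by
  decide +kernel

theorem covered : PermData.okCovered (Fin.val : Fin 6 → ℕ) (MPerm.rels.map fun r => r.map Fin.val)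
    MPerm.rels = true := by
  decide +kernel

theorem rels_origin : ∀ r ∈ MPerm.rels, ∃ w ∈ Data.mRels, cred id (w.flatMap sub6) = r := by
  decide +kernel

/-- the six permutations -/
noncomputable def p6 (i : Fin 6) : Equiv.Perm (Fin MPerm.data.n) :=
  PermData.genPerm invol_ok (i : ℕ)

/-- the word moves no point -/
noncomputable def wid (w : List (Fin 7)) : Bool :=
  PermData.okId MPerm.data ((w.flatMap sub6).map Fin.val).reverse

/-- inverse letters -/
def li : Fin 7 → Fin 7 := ![0, 1, 2, 3, 4, 6, 5]

/-- inverse word -/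
def winv (w : List (Fin 7)) : List (Fin 7) := (w.map li).reverse

/-- the words have equal values -/
noncomputable def weq (w w' : List (Fin 7)) : Bool := wid (w ++ winv w')

theorem num_lt (w : List (Fin 7)) : ∀ k ∈ (w.flatMap sub6).map Fin.val, k < MPerm.data.g := by
  intro k hk
  obtain ⟨i, -, rfl⟩ := List.mem_map.1 hk
  exact i.2

theorem allBelow_of {P : ℕ → Bool} (h : ∀ i < MPerm.data.n, P i = true) :
    allBelow MPerm.data.n P = true := by
  have key : ∀ (d l : ℕ), allBin MPerm.data.n P d l = true := by
    intro d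
    induction d with
    | zero =>
      intro l
      cases hb : Nat.ble MPerm.data.n l with
      | true => simp [allBin, hb]
      | false =>
        have hl : l < MPerm.data.n := by
          by_contra hn
          rw [Nat.ble_eq_true_of_le (not_lt.1 hn)] at hb
          exact Bool.noConfusion hb
        simpa [allBin, hb] using h l hl
    | succ k ih =>
      intro l
      show (Bool.rec (Bool.rec false (allBin MPerm.data.n P k (Nat.add l (Nat.shiftLeft 1 k)))
        (allBin MPerm.data.n P k l)) true (Nat.ble MPerm.data.n l) : Bool) = true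
      rw [ih l, ih]
      cases Nat.ble MPerm.data.n l <;> rfl
  unfold allBelow
  rw [show Nat.ble MPerm.data.n (nat_lit 16777216) = true from by decide +kernel]
  exact key _ _

theorem wid_iff (w : List (Fin 7)) : wid w = true ↔ ev p6 (w.flatMap sub6) = 1 := by
  have h : ∀ i, ((ev p6 (w.flatMap sub6) i : Fin MPerm.data.n) : ℕ) =
      MPerm.data.app ((w.flatMap sub6).map Fin.val).reverse i := by
    intro i
    rw [← PermData.prod_apply invol_ok _ (num_lt w) i]
    simp only [ev, List.map_map]
    rfl
  constructor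
  · intro hw
    refine Equiv.ext fun i => Fin.ext ?_
    have hw' : allBelow MPerm.data.n (fun i => Nat.beq
        (MPerm.data.app ((w.flatMap sub6).map Fin.val).reverse i) i) = true := hw
    rw [h i, Nat.eq_of_beq_eq_true (allBelow_spec hw' i i.2)]
    rfl
  · intro hw
    have h0 : ∀ i < MPerm.data.n, Nat.beq
        (MPerm.data.app ((w.flatMap sub6).map Fin.val).reverse i) i = true := by
      intro i hi
      have := h ⟨i, hi⟩
      rw [hw] at this
      simp only [Equiv.Perm.one_apply] at this
      rw [← this]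
      exact Nat.beq_refl _
    exact allBelow_of h0

section

variable {G : Type u} [Group G] {S : Setup G} {a b e : G}

/-- the six involutions -/
def g6 (a b e : G) : Fin 6 → G :=
  ![a, gs a b, gq a b, gx a b e, gw a b, gs a b * e]

theorem ese (P : MPre S a b e) : e * gs a b * (e * gs a b) = 1 := by
  simpa [ev, mlet, mul_assoc] using
    P.rels [5, 1, 5, 1] (by decide +kernel)

theorem g6_sq (P : MPre S a b e) : ∀ i, g6 a b e i * g6 a b e i = 1 := by
  intro i
  fin_cases i
  · exact P.a_sq
  · exact P.s_sq
  · exact P.q_sq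
  · exact P.x_sq
  · exact P.w_sq
  · show gs a b * e * (gs a b * e) = 1
    calc gs a b * e * (gs a b * e) = gs a b * (e * gs a b * (e * gs a b)) * (gs a b)⁻¹ := by group
      _ = 1 := by rw [ese P, mul_one, mul_inv_cancel]

theorem ev_sub6 (P : MPre S a b e) : ∀ x, ev (g6 a b e) (sub6 x) = mlet a b e x := by
  intro x
  fin_cases x <;> simp [ev, sub6, g6, mlet]
  · rw [← mul_assoc, P.s_sq, one_mul]
  · refine (inv_eq_of_mul_eq_one_right ?_).symm
    calc e * (gs a b * e * gs a b) = e * gs a b * (e * gs a b) := by group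
      _ = 1 := ese P

theorem g6_rels (P : MPre S a b e) : ∀ r ∈ MPerm.rels, ev (g6 a b e) r = 1 := by
  intro r hr
  obtain ⟨w, hw, rfl⟩ := rels_origin r hr
  rw [ev_cred id (g6_sq P), ev_flatMap sub6 _ (ev_sub6 P)]
  exact P.rels w hw

/-- the six involutions paired with their permutations -/
noncomputable def f6 (a b e : G) (i : Fin 6) : G × Equiv.Perm (Fin MPerm.data.n) :=
  (g6 a b e i, p6 i)

theorem ev_f6 (a b e : G) (l : List (Fin 6)) :
    ev (f6 a b e) l = (ev (g6 a b e) l, ev p6 l) := by
  induction l with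
  | nil => rfl
  | cons x l ih => rw [ev_cons, ev_cons, ev_cons, ih]; rfl

theorem f6_sq (P : MPre S a b e) (i : Fin 6) : f6 a b e i * f6 a b e i = 1 :=
  Prod.ext (g6_sq P i) (PermData.genPerm_sq invol_ok _)

theorem f6_rels (P : MPre S a b e) : ∀ r ∈ MPerm.rels, (r.map (f6 a b e)).prod = 1 := by
  intro r hr
  show ev (f6 a b e) r = 1
  rw [ev_f6]
  exact Prod.ext (g6_rels P r hr) (PermData.word_eq_one invol_ok _ nums_ok covered r hr)

theorem card_six (P : MPre S a b e) :
    CardLE (lettersGroup (List.finRange 6) (f6 a b e)) (7 * (16 * (16 * (3 * (2 * 1))))) := by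
  have hs := f6_sq P
  have hk := f6_rels P
  have stp : ∀ {js : List Cert.Just} {C : Cert} (_ : Cert.Valid C js) (sel sub : List (Fin 6)),
      (∀ x ∈ sub, x ∈ sel) → okRels C sel MPerm.rels 0 = true →
      okSubs C sel (sub.map fun x => [x]) 0 = true → ∀ {m : ℕ},
      CardLE (lettersGroup sub (f6 a b e)) m →
        CardLE (lettersGroup sel (f6 a b e)) (C.n * m) := by
    intro js C V sel sub hsub hr hsu m hm
    have h := index_bound V hs hk hr hsu
    rw [wordsGroup_singletons] at h
    refine hm.step (Subgroup.closure_mono ?_) h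
    rintro _ ⟨x, hx, rfl⟩
    exact ⟨x, hsub x hx, rfl⟩
  have h1 : CardLE (lettersGroup ([1] : List (Fin 6)) (f6 a b e)) (2 * 1) :=
    stp ME.valid [1] [] (by decide) (by decide +kernel) (by decide +kernel)
      (by simpa [lettersGroup] using CardLE.bot)
  have h2 := stp MD.valid [1, 2] [1] (by decide) (by decide +kernel) (by decide +kernel) h1
  have h3 := stp MC.valid [1, 2, 3] [1, 2] (by decide) (by decide +kernel) (by decide +kernel) h2
  have h4 := stp MB.valid [1, 2, 3, 4, 5] [1, 2, 3] (by decide) (by decide +kernel)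
    (by decide +kernel) h3
  exact stp MA.valid (List.finRange 6) [1, 2, 3, 4, 5] (by decide) (by decide +kernel)
    (by decide +kernel) h4

theorem ev_mem_letters {n : ℕ} {Q : Type*} [Group Q] (f : Fin n → Q) (l : List (Fin n)) :
    ev f l ∈ lettersGroup (List.finRange n) f := by
  induction l with
  | nil => exact one_mem _
  | cons x l ih =>
    rw [ev_cons]
    exact mul_mem (Subgroup.subset_closure ⟨x, List.mem_finRange x, rfl⟩) ih

/-- words for the elements named in the definitions -/
def wB : List (Fin 7) := [1, 2]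

/-- `v` -/
def wV : List (Fin 7) := [1, 3, 1, 3]

/-- the conjugate of `v` by `b` -/
def wVb : List (Fin 7) := [2, 1, 1, 3, 1, 3, 1, 2]

theorem ev_wB (P : MPre S a b e) : ev (mlet a b e) wB = b := by
  simp [ev, wB, mlet, gq]
  rw [← mul_assoc, P.s_sq, one_mul]

theorem ev_li (P : MPre S a b e) : ∀ x, mlet a b e x * mlet a b e (li x) = 1 := by
  intro x
  fin_cases x
  · exact P.a_sq
  · exact P.s_sq
  · exact P.q_sq
  · exact P.x_sq
  · exact P.w_sq
  · exact mul_inv_cancel e
  · exact inv_mul_cancel e

theorem ev_winv (P : MPre S a b e) (w : List (Fin 7)) :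
    ev (mlet a b e) (winv w) = (ev (mlet a b e) w)⁻¹ := by
  induction w with
  | nil => simp [winv, ev]
  | cons x w ih =>
    rw [winv, List.map_cons, List.reverse_cons, ev_append, ← winv, ih, ev_cons x w, mul_inv_rev]
    congr 1
    simp only [ev, List.map_cons, List.map_nil, List.prod_cons, List.prod_nil, mul_one]
    exact eq_inv_of_mul_eq_one_right (ev_li P x)

theorem ev_binv (P : MPre S a b e) : ev (mlet a b e) [2, 1] = b⁻¹ := by
  have := ev_winv P wB
  rwa [ev_wB P] at this

theorem ev_wV (P : MPre S a b e) : ev (mlet a b e) wV = gv a b e := by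
  rw [P.v_eq]
  simp [ev, wV, mlet, mul_assoc]

theorem ev_wVb (P : MPre S a b e) : ev (mlet a b e) wVb = b⁻¹ * gv a b e * b := by
  show ev (mlet a b e) ([2, 1] ++ (wV ++ wB)) = _
  rw [ev_append, ev_append, ev_binv P, ev_wV P, ev_wB P, mul_assoc]

theorem mlet_mem (P : MPre S a b e) : ∀ x, mlet a b e x ∈ S.M := by
  have hs : gs a b ∈ S.M := by
    unfold gs
    have := P.a_mem
    have := P.b_mem
    repeat' apply mul_mem
    all_goals first | assumption | exact inv_mem P.b_mem
  have hq : gq a b ∈ S.M := mul_mem hs P.b_mem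
  have hf : gf a b e ∈ S.M := by
    unfold gf
    exact mul_mem (mul_mem (mul_mem (inv_mem P.b_mem)
      (mul_mem (mul_mem P.a_mem P.e_mem) P.a_mem)) P.b_mem)
      (inv_mem (mul_mem (mul_mem P.a_mem P.e_mem) P.a_mem))
  have hg : gg a b e ∈ S.M := mul_mem (mul_mem (inv_mem P.b_mem) hf) P.b_mem
  have hx : gx a b e ∈ S.M := mul_mem (mul_mem (inv_mem hg) hs) hg
  have hw : gw a b ∈ S.M := by
    unfold gw
    have := P.a_mem
    have := P.b_mem
    repeat' apply mul_mem
    all_goals first | assumption | exact inv_mem P.b_mem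
  intro x
  fin_cases x
  · exact P.a_mem
  · exact hs
  · exact hq
  · exact hx
  · exact hw
  · exact P.e_mem
  · exact inv_mem P.e_mem

theorem ev_mem (P : MPre S a b e) (w : List (Fin 7)) : ev (mlet a b e) w ∈ S.M := by
  induction w with
  | nil => exact one_mem _
  | cons x w ih =>
    rw [ev_cons]
    exact mul_mem (mlet_mem P x) ih

/-- eight words for the elements of `V` -/
def vList : List (List (Fin 7)) :=
  [[], [5, 5], wV, [5, 5] ++ wV, wVb, [5, 5] ++ wVb, wV ++ wVb, [5, 5] ++ wV ++ wVb]

theorem vList_distinct : (List.range 8).all (fun i => (List.range 8).all fun j =>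
    (i == j) || !(weq (vList.getD i []) (vList.getD j []))) = true := by
  decide +kernel

theorem vList_nontriv : vList.tail.all (fun w => !(wid w)) = true := by decide +kernel

theorem vList_mem (P : MPre S a b e) : ∀ w ∈ vList, ev (mlet a b e) w ∈ S.V := by
  have h1 : ev (mlet a b e) [5, 5] = e * e := by simp [ev, mlet]
  have hm : ∀ z ∈ ({e * e, gv a b e, b⁻¹ * gv a b e * b} : Set G), z ∈ S.V := fun z hz => by
    rw [P.V_eq]; exact Subgroup.subset_closure hz
  have he : ev (mlet a b e) [5, 5] ∈ S.V := h1 ▸ hm _ (by simp)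
  have hv : ev (mlet a b e) wV ∈ S.V := ev_wV P ▸ hm _ (by simp)
  have hb : ev (mlet a b e) wVb ∈ S.V := ev_wVb P ▸ hm _ (by simp)
  intro w hw
  simp only [vList, List.mem_cons, List.not_mem_nil, or_false] at hw
  rcases hw with rfl | rfl | rfl | rfl | rfl | rfl | rfl | rfl
  · exact one_mem _
  · exact he
  · exact hv
  · rw [ev_append]; exact mul_mem he hv
  · exact hb
  · rw [ev_append]; exact mul_mem he hb
  · rw [ev_append]; exact mul_mem hv hb
  · rw [ev_append, ev_append]; exact mul_mem (mul_mem he hv) hb

variable [Finite G]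

theorem core (L : Local S) (P : MPre S a b e) :
    (∀ w, ev (mlet a b e) w = 1 → wid w = true) ∧
      (∀ w, wid w = true → ev (mlet a b e) w = 1) := by
  classical
  set K := lettersGroup (List.finRange 6) (f6 a b e) with hK
  obtain ⟨hK0, hKle⟩ := card_six P
  haveI : Finite K := Nat.finite_of_card_ne_zero hK0
  have hlift : ∀ w, ev (f6 a b e) (w.flatMap sub6) =
      (ev (mlet a b e) w, ev p6 (w.flatMap sub6)) := by
    intro w
    rw [ev_f6, ev_flatMap sub6 _ (ev_sub6 P)]
  let fst : K →* G := (MonoidHom.fst G (Equiv.Perm (Fin MPerm.data.n))).comp K.subtype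
  have hrange : fst.range = S.M := by
    apply le_antisymm
    · rintro _ ⟨⟨z, hz⟩, rfl⟩
      show z.1 ∈ S.M
      induction hz using Subgroup.closure_induction with
      | mem z hz =>
        obtain ⟨i, -, rfl⟩ := hz
        show g6 a b e i ∈ S.M
        have := mlet_mem P
        fin_cases i
        · exact this 0
        · exact this 1
        · exact this 2
        · exact this 3
        · exact this 4
        · exact mul_mem (this 1) (this 5)
      | one => exact one_mem _
      | mul x y _ _ hx hy => exact mul_mem hx hy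
      | inv x _ hx => exact inv_mem hx
    · conv_lhs => rw [P.gen]
      rw [Subgroup.closure_le]
      have hw : ∀ w, ev (mlet a b e) w ∈ fst.range := fun w =>
        ⟨⟨_, ev_mem_letters (f6 a b e) (w.flatMap sub6)⟩, by
          show (ev (f6 a b e) (w.flatMap sub6)).1 = _
          rw [hlift]⟩
      rintro z (rfl | rfl | rfl)
      · simpa [ev, mlet] using hw [0]
      · simpa [ev_wB P] using hw wB
      · simpa [ev, mlet] using hw [5]
  have hinj : Function.Injective fst := by
    have h1 : Nat.card fst.range = 10752 := hrange ▸ L.card_M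
    have h2 := Subgroup.index_ker fst
    have h3 : Nat.card fst.ker * fst.ker.index = Nat.card K := Subgroup.card_mul_index _
    rw [h2, h1] at h3
    have h4 : Nat.card fst.ker = 1 := by
      have h5 : 0 < Nat.card fst.ker := Nat.card_pos
      nlinarith
    exact (MonoidHom.ker_eq_bot_iff fst).1 (Subgroup.eq_bot_of_card_eq _ h4)
  have first : ∀ w, ev (mlet a b e) w = 1 → wid w = true := by
    intro w hw
    have hz := ev_mem_letters (f6 a b e) (w.flatMap sub6)
    have : (⟨_, hz⟩ : K) = 1 := hinj (by
      show (ev (f6 a b e) (w.flatMap sub6)).1 = fst 1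
      rw [hlift, map_one, hw])
    have h2 := congrArg (fun z : K => (z : G × Equiv.Perm (Fin MPerm.data.n)).2) this
    simp only [hlift, OneMemClass.coe_one, Prod.snd_one] at h2
    exact (wid_iff w).2 h2
  refine ⟨first, ?_⟩
  let snd : K →* Equiv.Perm (Fin MPerm.data.n) :=
    (MonoidHom.snd G (Equiv.Perm (Fin MPerm.data.n))).comp K.subtype
  let N : Subgroup G := snd.ker.map fst
  have hNM : N ≤ S.M := by
    rw [← hrange]
    rintro _ ⟨z, -, rfl⟩
    exact ⟨z, rfl⟩
  have hNn : ∀ m ∈ S.M, ∀ n ∈ N, m * n * m⁻¹ ∈ N := by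
    intro m hm n hn
    rw [← hrange] at hm
    obtain ⟨k, rfl⟩ := hm
    obtain ⟨z, hz, rfl⟩ := hn
    exact ⟨k * z * k⁻¹, (snd.normal_ker).conj_mem z hz k, by simp⟩
  have hVM : ∀ m ∈ S.M, ∀ x ∈ S.V, m * x * m⁻¹ ∈ S.V := by
    intro m hm x hx
    rw [S.hM] at hm
    exact (Subgroup.mem_normalizer_iff.1 hm x).1 hx
  have hVcover : ∀ x ∈ S.V, ∃ w ∈ vList, ev (mlet a b e) w = x := by
    haveI := Fintype.ofFinite G
    let F : Finset G := (vList.map (ev (mlet a b e))).toFinset
    have hsub : F ⊆ (S.V : Set G).toFinset := by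
      intro z hz
      obtain ⟨w, hw, rfl⟩ := List.mem_map.1 (List.mem_toFinset.1 hz)
      exact Set.mem_toFinset.2 (vList_mem P w hw)
    have hnd : (vList.map (ev (mlet a b e))).Nodup := by
      have hd := vList_distinct
      simp only [List.all_eq_true, List.mem_range, Bool.or_eq_true, beq_iff_eq,
        Bool.not_eq_true'] at hd
      rw [List.nodup_iff_getElem?_ne_getElem?]
      intro i j hij hj heq
      rw [List.length_map] at hj
      have hi : i < vList.length := lt_trans hij hj
      rw [List.getElem?_eq_getElem (by rwa [List.length_map]),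
        List.getElem?_eq_getElem (by rwa [List.length_map]), Option.some_inj,
        List.getElem_map, List.getElem_map] at heq
      rcases hd i hi j hj with h | h
      · omega
      · rw [List.getD_eq_getElem?_getD, List.getD_eq_getElem?_getD,
          List.getElem?_eq_getElem hi, List.getElem?_eq_getElem hj] at h
        simp only [Option.getD_some] at h
        have := first (vList[i] ++ winv vList[j]) (by
          rw [ev_append, ev_winv P, heq, mul_inv_cancel])
        rw [weq] at h
        rw [h] at this
        exact Bool.noConfusion this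
    have hcard : (S.V : Set G).toFinset.card ≤ F.card := by
      rw [List.toFinset_card_of_nodup hnd, Set.toFinset_card, ← Nat.card_eq_fintype_card]
      exact S.hVcard.le
    intro x hx
    have hx' : x ∈ F := Finset.eq_of_subset_of_card_le hsub hcard ▸ Set.mem_toFinset.2 hx
    obtain ⟨w, hw, e'⟩ := List.mem_map.1 (List.mem_toFinset.1 hx')
    exact ⟨w, hw, e'⟩
  have hNV : ∀ x ∈ N, x ∈ S.V → x = 1 := by
    intro x hxN hxV
    obtain ⟨w, hw, rfl⟩ := hVcover x hxV
    obtain ⟨z, hz, hz'⟩ := hxN
    have : z = ⟨_, ev_mem_letters (f6 a b e) (w.flatMap sub6)⟩ := hinj (by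
      rw [hz']
      show _ = (ev (f6 a b e) (w.flatMap sub6)).1
      rw [hlift])
    subst this
    have h2 : ev p6 (w.flatMap sub6) = 1 := by
      have h0 := MonoidHom.mem_ker.1 hz
      rwa [show snd _ = (ev (f6 a b e) (w.flatMap sub6)).2 from rfl, hlift] at h0
    have h3 := (wid_iff w).2 h2
    have hnt := vList_nontriv
    simp only [List.all_eq_true, Bool.not_eq_true'] at hnt
    rcases List.mem_cons.1 (show w ∈ [] :: vList.tail from hw) with rfl | hw'
    · rfl
    · rw [hnt w hw'] at h3
      exact Bool.noConfusion h3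
  have hN : ∀ n ∈ N, n = 1 := by
    intro n hn
    have hA : n ∈ S.A := by
      rw [← L.cent_V, Subgroup.mem_centralizer_iff]
      intro x hx
      have hc : n * x * n⁻¹ * x⁻¹ ∈ S.V :=
        mul_mem (hVM n (hNM hn) x hx) (inv_mem hx)
      have hc' : n * x * n⁻¹ * x⁻¹ ∈ N := by
        have hxM : x ∈ S.M := S.hM ▸ Subgroup.le_normalizer hx
        have := mul_mem hn (hNn x hxM _ (inv_mem hn))
        simpa only [mul_assoc] using this
      have := hNV _ hc' hc
      rw [mul_inv_eq_one, mul_inv_eq_iff_eq_mul] at this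
      exact this.symm
    by_contra hne
    have ho : orderOf n ∣ 64 := by
      have := Subgroup.orderOf_dvd_natCard S.A hA
      rwa [L.card_A] at this
    obtain ⟨k, hk, hk'⟩ := (Nat.dvd_prime_pow Nat.prime_two).1 (show orderOf n ∣ 2 ^ 6 from ho)
    rcases k with _ | k
    · exact hne (orderOf_eq_one_iff.1 hk')
    have ho2 : orderOf (n ^ 2 ^ k) = 2 := by
      rw [orderOf_pow' n (by positivity), hk', pow_succ, Nat.gcd_eq_right ⟨2, rfl⟩,
        Nat.mul_div_cancel_left _ (by positivity)]
    have hsq : (n ^ 2 ^ k) ^ 2 = 1 := by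
      have h2 := pow_orderOf_eq_one (n ^ 2 ^ k)
      rwa [ho2] at h2
    have h1 := hNV _ (N.pow_mem hn _) (L.V_eq _ (S.A.pow_mem hA _) hsq)
    rw [orderOf_eq_one_iff.2 h1] at ho2
    omega
  intro w hw
  refine hN _ ⟨⟨_, ev_mem_letters (f6 a b e) (w.flatMap sub6)⟩, ?_, ?_⟩
  · refine MonoidHom.mem_ker.2 ?_
    show (ev (f6 a b e) (w.flatMap sub6)).2 = 1
    rw [hlift]
    exact (wid_iff w).1 hw
  · show (ev (f6 a b e) (w.flatMap sub6)).1 = _
    rw [hlift]

/-- A word is trivial in `G` iff it moves no point in the permutation model. -/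
theorem ev_eq_one_iff (L : Local S) (P : MPre S a b e) (w : List (Fin 7)) :
    ev (mlet a b e) w = 1 ↔ wid w = true :=
  ⟨(core L P).1 w, (core L P).2 w⟩

/-- Two words have equal values in `G` iff they do in the permutation model. -/
theorem ev_eq_iff (L : Local S) (P : MPre S a b e) (w w' : List (Fin 7)) :
    ev (mlet a b e) w = ev (mlet a b e) w' ↔ weq w w' = true := by
  rw [weq, ← ev_eq_one_iff L P, ev_append, ev_winv P, mul_inv_eq_one]

end

end CfsgLib.Spor.HSLocal.MModel
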