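import Cfsg.Agent.Lib.Spor.HSLocal.CoordBasis

/-!
The coordinate system `a, b, e` of the two-local subgroup.
-/

set_option autoImplicit false
set_option maxRecDepth 100000
set_option maxHeartbeats 4000000
set_option linter.style.haveILetI false
set_option linter.unusedSectionVars false

namespace CfsgLib.Spor.HSLocal

open CoordModel CoordPrep
open scoped Pointwise

universe u

variable {G : Type u} [Group G] [Finite G]

namespace CoordPrep

theorem liftsA_mem : ∀ x ∈ vecs, ∀ y ∈ vecs, ∀ z ∈ vecs, par3 (x, y, z) = a2 →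
    (x, y, z) ∈ liftsA := by
  intro x hx y hy z hz h
  simp only [par3, a2, Prod.mk.injEq] at h
  simp only [liftsA, liftsV, List.mem_flatMap, List.mem_map, List.mem_filter]
  exact ⟨x, ⟨hx, by simp [a2, h.1]⟩, y, ⟨hy, by simp [a2, h.2.1]⟩, z, ⟨hz, by simp [a2, h.2.2]⟩,
    rfl⟩

theorem lifts_par : ∀ m ∈ liftsA, par3 (mm m m) = i1 ∧ par3 (mpow (mm m bM) 7) = i1 := by
  decide +kernel

theorem eq_mpow_mem (m : Mc) : ∀ n, (mpow m n).1 ∈ vecs ∧ (mpow m n).2.1 ∈ vecs ∧
    (mpow m n).2.2 ∈ vecs
  | 0 => (by decide : i1.1 ∈ vecs ∧ i1.2.1 ∈ vecs ∧ i1.2.2 ∈ vecs)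
  | n + 1 => ⟨mv_red _ _, mv_red _ _, mv_red _ _⟩


theorem word_v : ∀ m ∈ aMats, pv m = pm (pm (ps m) (px m)) (pm (ps m) (px m)) := by decide +kernel

end CoordPrep

/-- the two-local subgroup has a semidirect coordinate system -/
theorem exists_mPre (S : Setup G) (L : Local S) : ∃ a b e : G, MPre S a b e := by
  obtain ⟨L0, hle, hinf, hsup⟩ := L.split
  have K : Compl S L0 := ⟨hle, hinf, hsup⟩
  obtain ⟨b, e, f, g, hb, hb3, hbne, he, het, heb, F, hrb, B2⟩ := exists_frame L K
  have hbbi : b⁻¹ = b * b := inv_eq_of_mul_eq_one_right (by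
    rw [← mul_assoc, ← hb3]; simp [pow_succ])
  -- squares
  have hdbl : ∀ u : Vc, phi e f g (2 * u.1, 2 * u.2.1, 2 * u.2.2) =
      phi S.t (f * f) (g * g) u := fun u => by
    rw [← het]; simp [phi, pow_mul, sq]
  -- action on `V` from the matrix
  have hparV : ∀ {l : G} {m : Mc}, RepL L0 e f g l m → ∀ u : Vc,
      l⁻¹ * phi S.t (f * f) (g * g) u * l = phi S.t (f * f) (g * g) (par (mv m u)) := by
    intro l m h u
    rw [← hdbl u, F.conj_mv h, ← hdbl (par (mv m u))]
    refine F.phi_congr ?_ ?_ ?_ <;> simp [mv, par] <;> ring_nf <;> omega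
  have eqPar : ∀ {l l' : G} {m m' : Mc}, RepL L0 e f g l m → RepL L0 e f g l' m' →
      par3 m = par3 m' → l = l' := by
    intro l l' m m' h h' hp
    refine mul_inv_eq_one.1 (eq_one_of_cent_V L K (mul_mem h.1 (inv_mem h'.1)) fun v hv => ?_)
    obtain ⟨u, hu, rfl⟩ := B2.sur v hv
    have e1 : par (mv m u) = par (mv m' u) := by
      simp only [par3, par, Prod.mk.injEq] at hp
      obtain ⟨⟨a1, a2, a3⟩, ⟨b1, b2, b3⟩, ⟨c1, c2, c3⟩⟩ := hp
      simp [par, mv, Nat.add_mod, Nat.mul_mod, a1, a2, a3, b1, b2, b3, c1, c2, c3]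
    have e2 : l⁻¹ * phi S.t (f * f) (g * g) u * l = l'⁻¹ * phi S.t (f * f) (g * g) u * l' := by
      rw [hparV h, hparV h', e1]
    rw [show (l * l'⁻¹)⁻¹ * phi S.t (f * f) (g * g) u * (l * l'⁻¹) =
      l' * (l⁻¹ * phi S.t (f * f) (g * g) u * l) * l'⁻¹ by group, e2]
    group
  have eqMat : ∀ {l : G} {m m' : Mc}, RepL L0 e f g l m → RepL L0 e f g l m' →
      m.1 ∈ vecs ∧ m.2.1 ∈ vecs ∧ m.2.2 ∈ vecs → m'.1 ∈ vecs ∧ m'.2.1 ∈ vecs ∧ m'.2.2 ∈ vecs →
      m = m' := fun h h' hm hm' =>
    Prod.ext (F.inj _ hm.1 _ hm'.1 (h.2.1.symm.trans h'.2.1))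
      (Prod.ext (F.inj _ hm.2.1 _ hm'.2.1 (h.2.2.1.symm.trans h'.2.2.1))
        (F.inj _ hm.2.2 _ hm'.2.2 (h.2.2.2.symm.trans h'.2.2.2)))
  -- the element `a`
  obtain ⟨a, haL, ha1, ha2, ha3⟩ :=
    transitive L K B2 (n := a2) (by decide +kernel) (by decide +kernel)
  obtain ⟨m, hra, hm1, hm2, hm3⟩ := F.exists_repL haL
  have hmp : par3 m = a2 := by
    have h100 : par (mv m (1, 0, 0)) = par m.1 := by simp [par, mv]
    have h010 : par (mv m (0, 1, 0)) = par m.2.1 := by simp [par, mv]
    have h001 : par (mv m (0, 0, 1)) = par m.2.2 := by simp [par, mv]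
    refine Prod.ext (B2.inj _ (par_mem _) _ (by decide) ?_) (Prod.ext
      (B2.inj _ (par_mem _) _ (by decide) ?_) (B2.inj _ (par_mem _) _ (by decide) ?_))
    · show phi _ _ _ (par m.1) = _
      rw [← h100, ← hparV hra, ← ha1]; simp [phi]
    · show phi _ _ _ (par m.2.1) = _
      rw [← h010, ← hparV hra, ← ha2]; simp [phi]
    · show phi _ _ _ (par m.2.2) = _
      rw [← h001, ← hparV hra, ← ha3]; simp [phi]
  have hlift : m ∈ liftsA := liftsA_mem _ hm1 _ hm2 _ hm3 hmp
  obtain ⟨hp1, hp7⟩ := lifts_par m hlift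
  have hi1 : i1.1 ∈ vecs ∧ i1.2.1 ∈ vecs ∧ i1.2.2 ∈ vecs := by decide
  have haa : a * a = 1 := eqPar (F.repL_mul hra hra) F.repL_one (hp1.trans (by decide))
  have hpow : ∀ n : ℕ, RepL L0 e f g ((b * a) ^ n) (mpow (mm m bM) n) := by
    intro n
    induction n with
    | zero => simpa [mpow] using F.repL_one
    | succ n ih => rw [pow_succ]; exact F.repL_mul ih (F.repL_mul hrb hra)
  have hc1 : mm m m = i1 := eqMat (l := 1) (by
    have := F.repL_mul hra hra; rwa [haa] at this) F.repL_one
    ⟨mv_red _ _, mv_red _ _, mv_red _ _⟩ hi1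
  have hba : (b * a) ^ 7 = 1 := eqPar (hpow 7) F.repL_one (hp7.trans (by decide))
  have hc7 : mpow (mm m bM) 7 = i1 := eqMat (l := 1) (by
    have := hpow 7; rwa [hba] at this) F.repL_one (eq_mpow_mem _ _) hi1
  have hM : m ∈ aMats := aMats_complete m hlift (by simp [condA, hc1, hc7])
  -- representations of the letters
  have hai : a⁻¹ = a := inv_eq_of_mul_eq_one_right haa
  have ra : Rep L0 e f g a (pa m) := F.rep_l hra
  have rb : Rep L0 e f g b pb := F.rep_l hrb
  have rbi : Rep L0 e f g b⁻¹ pbi := by rw [hbbi]; exact F.rep_mul rb rb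
  have re : Rep L0 e f g e pe := by
    have := F.rep_trans (1, 0, 0)
    simpa [phi, pe] using this
  have htr := trans_ok m hM
  have raea : Rep L0 e f g (a * e * a) (paea m) := F.rep_mul (F.rep_mul ra re) ra
  have rf : Rep L0 e f g (gf a b e) (pf m) := by
    unfold gf pf
    exact F.rep_mul (F.rep_mul (F.rep_mul rbi raea) rb) (F.rep_inv raea (htr _ (by simp)))
  have rg : Rep L0 e f g (gg a b e) (pg m) := by
    unfold gg pg
    exact F.rep_mul (F.rep_mul rbi rf) rb
  have rs : Rep L0 e f g (gs a b) (ps m) := by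
    unfold gs ps
    repeat first
      | exact ra
      | exact rb
      | exact rbi
      | apply F.rep_mul
  have rq : Rep L0 e f g (gq a b) (pq m) := F.rep_mul rs rb
  have rx : Rep L0 e f g (gx a b e) (px m) := by
    unfold gx px
    exact F.rep_mul (F.rep_mul (F.rep_inv rg (htr _ (by simp))) rs) rg
  have rw' : Rep L0 e f g (gw a b) (pw m) := by
    unfold gw pw
    repeat first
      | exact ra
      | exact rb
      | exact rbi
      | apply F.rep_mul
  have rei : Rep L0 e f g e⁻¹ (pinv pe) := F.rep_inv re rfl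
  have one_of : ∀ {x : G}, Rep L0 e f g x p1 → x = 1 := fun h => F.rep_inj h F.rep_one
  have hsq : ∀ {x : G} {p : Pc}, Rep L0 e f g x p → p ∈ [ps m, pq m, px m, pw m] → x * x = 1 :=
    fun h hp => one_of ((sq_ok m hM _ hp) ▸ F.rep_mul h h)
  -- subgroup membership
  have aM : a ∈ S.M := hle haL
  have bM' : b ∈ S.M := hle hb
  have eA : e ∈ S.A := L.Cy_le_A he
  have eM : e ∈ S.M := A_le_M eA
  have fA : gf a b e ∈ S.A := by rw [F.rep_eq_phi rf (htr _ (by simp))]; exact F.phi_mem _
  have gA : gg a b e ∈ S.A := by rw [F.rep_eq_phi rg (htr _ (by simp))]; exact F.phi_mem _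
  have hAmem : ∀ {T : Subgroup G}, e ∈ T → gf a b e ∈ T → gg a b e ∈ T → S.A ≤ T := by
    intro T he' hf' hg' x hx
    obtain ⟨v, hv, rfl⟩ := F.sur x hx
    obtain ⟨u, -, huv⟩ := basis_ok m hM v hv
    have e1 : phi e f g v = e ^ u.1 * gf a b e ^ u.2.1 * gg a b e ^ u.2.2 := by
      have e' : e = phi e f g (1, 0, 0) := by simp [phi]
      rw [F.rep_eq_phi rf (htr _ (by simp)), F.rep_eq_phi rg (htr _ (by simp))]
      show _ = phi e _ _ u
      nth_rw 2 [e']
      rw [F.phi_lin ((1, 0, 0), (pf m).2, (pg m).2) u, ← huv]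
      exact F.phi_congr (by simp [mv]) (by simp [mv]) (by simp [mv])
    rw [e1]
    exact mul_mem (mul_mem (pow_mem he' _) (pow_mem hf' _)) (pow_mem hg' _)
  have hAeq : S.A = Subgroup.closure ({e, gf a b e, gg a b e} : Set G) := by
    refine le_antisymm (hAmem (Subgroup.subset_closure (by simp))
      (Subgroup.subset_closure (by simp)) (Subgroup.subset_closure (by simp))) ?_
    rw [Subgroup.closure_le]
    rintro x (rfl | rfl | rfl) <;> assumption
  -- words
  have repW : ∀ (ls : List G) (ps' : List Pc), (∀ i, Rep L0 e f g (ls.getD i 1) (ps'.getD i p1)) →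
      ∀ w : List ℕ, Rep L0 e f g (w.map fun i => ls.getD i 1).prod
        (prodP (w.map fun i => ps'.getD i p1)) :=
    fun ls ps' h w => F.rep_prod w _ _ fun i _ => h i
  have hLT : ∀ {T : Subgroup G}, a ∈ T → b ∈ T → L0 ≤ T := by
    intro T hat hbt l hl
    obtain ⟨n, hn, hn1, hn2, hn3⟩ := F.exists_repL hl
    obtain ⟨w, -, hw⟩ := words_cover m hM (par3 n)
      (by simp only [mats2, List.mem_flatMap, List.mem_map]
          exact ⟨_, par_mem _, _, par_mem _, _, par_mem _, rfl⟩)
      (fun u hu h0 => by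
        refine B2.inj u hu z0 (by decide) ?_
        have h1 := hparV hn u
        rw [show par (mv n u) = par (mv (par3 n) u) by
          simp [par, par3, mv, Nat.add_mod, Nat.mul_mod], h0] at h1
        have h2 : l⁻¹ * phi S.t (f * f) (g * g) u * l = 1 := h1.trans (by simp [phi, z0])
        calc phi S.t (f * f) (g * g) u
            = l * (l⁻¹ * phi S.t (f * f) (g * g) u * l) * l⁻¹ := by group
          _ = phi S.t (f * f) (g * g) z0 := by rw [h2]; simp [phi, z0])
    have hr := repW [a, b] [pa m, pb] (fun i => by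
      rcases i with _ | _ | i
      · exact ra
      · exact rb
      · exact F.rep_one) w
    obtain ⟨l', hl', hx⟩ := hr
    have hxeq : (w.map fun i => [a, b].getD i 1).prod ∈ L0 := Subgroup.list_prod_mem _ (by
      intro y hy
      obtain ⟨i, -, rfl⟩ := List.mem_map.1 hy
      rcases i with _ | _ | i
      · exact haL
      · exact hb
      · exact one_mem _)
    have hll : l = l' := eqPar hn hl' hw.symm
    have hv1 : phi e f g (prodP (w.map fun i => [pa m, pb].getD i p1)).2 = 1 := by
      have : phi e f g (prodP (w.map fun i => [pa m, pb].getD i p1)).2 ∈ L0 ⊓ S.A :=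
        Subgroup.mem_inf.2 ⟨by
          rw [← inv_mul_cancel_left l' (phi e f g _), ← hx]
          exact mul_mem (inv_mem hl'.1) hxeq, F.phi_mem _⟩
      rwa [hinf, Subgroup.mem_bot] at this
    rw [hll, ← mul_one l', ← hv1, ← hx]
    refine Subgroup.list_prod_mem _ ?_
    intro y hy
    obtain ⟨i, -, rfl⟩ := List.mem_map.1 hy
    rcases i with _ | _ | i
    · exact hat
    · exact hbt
    · exact one_mem _
  have hMT : ∀ {T : Subgroup G}, L0 ≤ T → S.A ≤ T → S.M ≤ T := fun h1 h2 =>
    hsup ▸ sup_le h1 h2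
  -- commuting with `t`
  have htH : ∀ {x : G}, x ∈ S.H ↔ S.t * x = x * S.t := fun {x} => by
    rw [S.hH, Subgroup.mem_centralizer_singleton_iff]; exact ⟨Eq.symm, Eq.symm⟩
  have t2 : S.t = phi e f g (2, 0, 0) := by rw [← het]; simp [phi, sq]
  have fixH : ∀ {x : G} {p : Pc}, Rep L0 e f g x p → mv p.1 (2, 0, 0) = (2, 0, 0) → x ∈ S.H := by
    intro x p hx hp
    obtain ⟨l, hl, rfl⟩ := hx
    rw [htH]
    have h1 := F.conj_mv hl (2, 0, 0)
    rw [hp, ← t2] at h1
    have h2 : phi e f g p.2 * S.t = S.t * phi e f g p.2 :=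
      F.comm _ (F.phi_mem _) _ (L.V_le_A L.t_mem)
    calc S.t * (l * phi e f g p.2) = l * (l⁻¹ * S.t * l) * phi e f g p.2 := by group
      _ = l * (S.t * phi e f g p.2) := by rw [h1, mul_assoc]
      _ = l * phi e f g p.2 * S.t := by rw [← h2, mul_assoc]
  have hfix := fixed_ok m hM
  have wordf : gf a b e = gx a b e * gs a b :=
    F.rep_inj rf ((word_f m hM).symm ▸ F.rep_mul rx rs)
  have wordg : gg a b e = gq a b * gs a b * gx a b e * gq a b :=
    F.rep_inj rg ((word_g m hM).symm ▸ F.rep_mul (F.rep_mul (F.rep_mul rq rs) rx) rq)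
  refine ⟨a, b, e, ?_⟩
  constructor
  case a_mem => exact aM
  case b_mem => exact bM'
  case e_mem => exact eM
  case a_sq => exact haa
  case b_cube => exact hb3
  case b_ne => exact hbne
  case t_eq => exact het.symm
  case e_mem_Cy => exact he
  case comm_eb => exact heb
  case s_sq => exact hsq rs (by simp)
  case q_sq => exact hsq rq (by simp)
  case x_sq => exact hsq rx (by simp)
  case w_sq => exact hsq rw' (by simp)
  case A_eq => exact hAeq
  case v_eq =>
    refine F.rep_inj (F.rep_mul rf rf) ?_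
    show Rep L0 e f g _ (pv m)
    rw [word_v m hM]
    exact F.rep_mul (F.rep_mul rs rx) (F.rep_mul rs rx)
  case gen =>
    refine le_antisymm ?_ ?_
    · have ha' : a ∈ Subgroup.closure ({a, b, e} : Set G) := Subgroup.subset_closure (by simp)
      have hb' : b ∈ Subgroup.closure ({a, b, e} : Set G) := Subgroup.subset_closure (by simp)
      have he' : e ∈ Subgroup.closure ({a, b, e} : Set G) := Subgroup.subset_closure (by simp)
      have hf' : gf a b e ∈ Subgroup.closure ({a, b, e} : Set G) :=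
        mul_mem (mul_mem (mul_mem (inv_mem hb') (mul_mem (mul_mem ha' he') ha')) hb')
          (inv_mem (mul_mem (mul_mem ha' he') ha'))
      exact hMT (hLT ha' hb') (hAmem he' hf' (mul_mem (mul_mem (inv_mem hb') hf') hb'))
    · rw [Subgroup.closure_le]
      rintro x (rfl | rfl | rfl) <;> assumption
  case rels =>
    intro r hr
    refine one_of ?_
    rw [← rels_ok m hM r hr]
    exact F.rep_prod r _ _ fun i _ => by
      fin_cases i <;> first
        | exact ra
        | exact rs
        | exact rq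
        | exact rx
        | exact rw'
        | exact re
        | exact rei
  case V_eq =>
    have hgv : b⁻¹ * gv a b e * b = gg a b e * gg a b e := by
      simp [gv, gg, mul_assoc]
    rw [hgv]
    refine le_antisymm ?_ ?_
    · intro v hv
      obtain ⟨u, -, rfl⟩ := B2.sur v hv
      obtain ⟨w, -, hw⟩ := basis_ok m hM (red (u.1, u.2.1, u.2.2)) (red_mem _)
      have e' : e = phi e f g (1, 0, 0) := by simp [phi]
      have e1 : phi e f g u = phi e (gf a b e) (gg a b e) w := by
        rw [F.rep_eq_phi rf (htr _ (by simp)), F.rep_eq_phi rg (htr _ (by simp))]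
        nth_rw 2 [e']
        rw [F.phi_lin ((1, 0, 0), (pf m).2, (pg m).2) w, ← F.phi_red u]
        show phi e f g (red (u.1, u.2.1, u.2.2)) = _
        rw [← hw]
        exact F.phi_congr (by simp [mv]) (by simp [mv]) (by simp [mv])
      have e2 : phi S.t (f * f) (g * g) u = phi e f g u * phi e f g u := by
        rw [← hdbl, F.phi_add]
        exact F.phi_congr (by simp [two_mul]) (by simp [two_mul]) (by simp [two_mul])
      rw [e2, e1]
      have sqprod : ∀ x ∈ S.A, ∀ y ∈ S.A, x * y * (x * y) = x * x * (y * y) := by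
        intro x hx y hy
        rw [mul_assoc x y, ← mul_assoc y x y, ← L.A_comm x hx y hy]; simp [mul_assoc]
      unfold phi
      rw [sqprod _ (mul_mem (pow_mem eA _) (pow_mem fA _)) _ (pow_mem gA _),
        sqprod _ (pow_mem eA _) _ (pow_mem fA _)]
      have hp : ∀ (x : G) (n : ℕ), x ^ n * x ^ n = (x * x) ^ n := fun x n => by
        rw [← pow_add, ← sq x, ← pow_mul, two_mul]
      rw [hp, hp, hp]
      exact mul_mem (mul_mem (pow_mem (Subgroup.subset_closure (by simp)) _)
        (pow_mem (Subgroup.subset_closure (by simp [gv])) _))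
        (pow_mem (Subgroup.subset_closure (by simp)) _)
    · rw [Subgroup.closure_le]
      have hA2 : ∀ x ∈ S.A, x * x ∈ S.V := fun x hx => L.V_eq _ (mul_mem hx hx) (by
        rw [← sq, ← pow_mul]; exact A_pow_four L hx)
      rintro x (rfl | rfl | rfl)
      · exact hA2 _ eA
      · exact hA2 _ fA
      · exact hA2 _ gA
  case a_not =>
    intro h
    rw [htH] at h
    apply a_moves m hM
    refine F.inj _ (mv_red _ _) _ (by decide) ?_
    rw [← F.conj_mv hra, ← t2]
    calc a⁻¹ * S.t * a = a⁻¹ * (S.t * a) := mul_assoc _ _ _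
      _ = a⁻¹ * (a * S.t) := by rw [h]
      _ = S.t := inv_mul_cancel_left _ _
  case meet =>
    refine le_antisymm ?_ ?_
    · rintro x ⟨hxH, hxM⟩
      have hgs : gs a b ∈ Subgroup.closure ({gs a b, gq a b, gx a b e, e, gw a b} : Set G) :=
        Subgroup.subset_closure (by simp)
      have hgq : gq a b ∈ Subgroup.closure ({gs a b, gq a b, gx a b e, e, gw a b} : Set G) :=
        Subgroup.subset_closure (by simp)
      have hgx : gx a b e ∈ Subgroup.closure ({gs a b, gq a b, gx a b e, e, gw a b} : Set G) :=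
        Subgroup.subset_closure (by simp)
      have hgw : gw a b ∈ Subgroup.closure ({gs a b, gq a b, gx a b e, e, gw a b} : Set G) :=
        Subgroup.subset_closure (by simp)
      have hb' : b ∈ Subgroup.closure ({gs a b, gq a b, gx a b e, e, gw a b} : Set G) := by
        have e2 : (gs a b)⁻¹ * gq a b = b := by simp [gq]
        have h := mul_mem (inv_mem hgs) hgq
        rwa [e2] at h
      have hAT : S.A ≤ Subgroup.closure ({gs a b, gq a b, gx a b e, e, gw a b} : Set G) :=
        hAmem (Subgroup.subset_closure (by simp)) (wordf ▸ mul_mem hgx hgs)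
          (wordg ▸ mul_mem (mul_mem (mul_mem hgq hgs) hgx) hgq)
      have hx' : x ∈ ((L0 : Set G) * (S.A : Set G)) := by
        rw [← Subgroup.coe_mul_of_left_le_normalizer_right L0 S.A ?_, hsup]
        · exact hxM
        · intro l hl
          rw [Subgroup.mem_normalizer_iff]
          intro y
          refine ⟨fun hy => by simpa using norm_A L (inv_mem (hle hl)) hy, fun hy => ?_⟩
          simpa [mul_assoc] using norm_A L (hle hl) hy
      obtain ⟨l, hl, y, hy, rfl⟩ := Set.mem_mul.1 hx'
      obtain ⟨n, hn, hn1, hn2, hn3⟩ := F.exists_repL hl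
      have hlt : l⁻¹ * S.t * l = S.t := by
        have h1 := htH.1 hxH
        have h2 : y * S.t = S.t * y := F.comm _ hy _ (L.V_le_A L.t_mem)
        calc l⁻¹ * S.t * l = l⁻¹ * (S.t * (l * y)) * y⁻¹ := by group
          _ = l⁻¹ * (l * y * S.t) * y⁻¹ := by rw [h1]
          _ = y * S.t * y⁻¹ := by group
          _ = S.t := by rw [h2]; group
      have hn0 : par n.1 = (1, 0, 0) := by
        refine B2.inj _ (par_mem _) _ (by decide) ?_
        rw [show par n.1 = par (mv n (1, 0, 0)) by simp [par, mv], ← hparV hn]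
        simpa [phi] using hlt
      obtain ⟨w, -, hw⟩ := stab_cover m hM (par3 n)
        (by simp only [mats2, List.mem_flatMap, List.mem_map]
            exact ⟨_, par_mem _, _, par_mem _, _, par_mem _, rfl⟩)
        (fun u hu h0 => by
          refine B2.inj u hu z0 (by decide) ?_
          have h1 := hparV hn u
          rw [show par (mv n u) = par (mv (par3 n) u) by
            simp [par, par3, mv, Nat.add_mod, Nat.mul_mod], h0] at h1
          have h2 : l⁻¹ * phi S.t (f * f) (g * g) u * l = 1 := h1.trans (by simp [phi, z0])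
          calc phi S.t (f * f) (g * g) u
              = l * (l⁻¹ * phi S.t (f * f) (g * g) u * l) * l⁻¹ := by group
            _ = phi S.t (f * f) (g * g) z0 := by rw [h2]; simp [phi, z0]) hn0
      have hr := repW [gs a b, b, gw a b] (pstab m) (fun i => by
        rcases i with _ | _ | _ | i
        · exact rs
        · exact rb
        · exact rw'
        · exact F.rep_one) w
      obtain ⟨l', hl', hxe⟩ := hr
      have hll : l = l' := eqPar hn hl' hw.symm
      have hwT : (w.map fun i => [gs a b, b, gw a b].getD i 1).prod ∈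
          Subgroup.closure ({gs a b, gq a b, gx a b e, e, gw a b} : Set G) := by
        refine Subgroup.list_prod_mem _ ?_
        intro z hz
        obtain ⟨i, -, rfl⟩ := List.mem_map.1 hz
        rcases i with _ | _ | _ | i
        · exact hgs
        · exact hb'
        · exact hgw
        · exact one_mem _
      rw [hxe, ← hll] at hwT
      exact mul_mem ((Subgroup.mul_mem_cancel_right _ (hAT (F.phi_mem _))).1 hwT) (hAT hy)
    · rw [Subgroup.closure_le]
      have hm' : ∀ {x : G}, x ∈ S.H → x ∈ S.M → x ∈ S.H ⊓ S.M := fun h1 h2 =>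
        Subgroup.mem_inf.2 ⟨h1, h2⟩
      have haa' : ∀ {x : G} {p : Pc}, Rep L0 e f g x p → x ∈ S.M := fun h => by
        obtain ⟨l, hl, rfl⟩ := h
        exact mul_mem (hle hl.1) (A_le_M (F.phi_mem _))
      rintro x (rfl | rfl | rfl | rfl | rfl)
      · exact hm' (fixH rs (hfix _ (by simp))) (haa' rs)
      · exact hm' (fixH rq (hfix _ (by simp))) (haa' rq)
      · exact hm' (fixH rx (hfix _ (by simp))) (haa' rx)
      · exact hm' (fixH re (by decide)) eM
      · exact hm' (fixH rw' (hfix _ (by simp))) (haa' rw')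

end CfsgLib.Spor.HSLocal
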