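import Cfsg.Agent.Lib.Spor.HSLocal.Defs

/-!
`O₂(H)` in the coordinates of the two-local subgroup: two cases.
-/

set_option autoImplicit false

namespace CfsgLib.Spor.HSLocal

universe u

variable {G : Type u} [Group G]

namespace RCases

/-- letters of `v` -/
def lv : List (Fin 7) := [1, 3, 1, 3]
/-- letters of `b` -/
def lb : List (Fin 7) := [1, 2]
/-- letters of `b⁻¹` -/
def lB : List (Fin 7) := [2, 1]
/-- letters of `v ^ b` -/
def lvb : List (Fin 7) := lB ++ lv ++ lb
/-- letters of `f` -/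
def lf : List (Fin 7) := [2, 1, 0, 5, 0, 1, 2, 0, 6, 0]
/-- letters of `g` -/
def lg : List (Fin 7) := lB ++ lf ++ lb
/-- letters of `f⁻¹` -/
def lF : List (Fin 7) := [0, 5, 0, 2, 1, 0, 6, 0, 1, 2]
/-- letters of `g⁻¹` -/
def lG : List (Fin 7) := lB ++ lF ++ lb

/-- the identities used -/
structure Facts (a b e : G) : Prop where
  wv : gw a b * gv a b e = gv a b e * gw a b
  wvb : gw a b * (b⁻¹ * gv a b e * b) = b⁻¹ * gv a b e * b * (e * e) * gw a b
  wbv : b⁻¹ * gw a b * b * gv a b e = gv a b e * (e * e) * (b⁻¹ * gw a b * b)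
  wbvb : b⁻¹ * gw a b * b * (b⁻¹ * gv a b e * b) = b⁻¹ * gv a b e * b * (b⁻¹ * gw a b * b)
  bvb : b * gv a b e * b⁻¹ = gv a b e * (b⁻¹ * gv a b e * b)
  bad : ∀ r ∈ [gg a b e, gf a b e * gg a b e],
    let u := gw a b * r
    let u' := b⁻¹ * u * b
    u * u' * u⁻¹ * u'⁻¹ ≠ 1 ∧ u * u' * u⁻¹ * u'⁻¹ ≠ e * e

theorem conj_A {S : Setup G} {x y : G} (hx : x ∈ S.A) (hy : y ∈ S.M) : y * x * y⁻¹ ∈ S.A := by
  obtain ⟨z, hz, rfl⟩ := Subgroup.mem_map.1 hx
  haveI : (Cfsg.pCore 2 S.M).Normal := inferInstance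
  exact Subgroup.mem_map.2 ⟨⟨y, hy⟩ * z * ⟨y, hy⟩⁻¹, this.conj_mem z hz _, by simp⟩

theorem of_facts [Finite G] (S : Setup G) (L : Local S) {a b e : G} (P : MPre S a b e)
    (F : Facts a b e) :
    S.R = Subgroup.closure ({e, gv a b e, b⁻¹ * gv a b e * b, gw a b, b⁻¹ * gw a b * b} : Set G) ∨
    S.R = Subgroup.closure ({e, gv a b e, b⁻¹ * gv a b e * b, gw a b * gf a b e,
      b⁻¹ * (gw a b * gf a b e) * b} : Set G) := by
  classical
  set v := gv a b e with hv
  set vb := b⁻¹ * v * b with hvb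
  set w := gw a b with hw
  set f := gf a b e with hf
  set g := gg a b e with hg
  set t := S.t with ht
  have htE : t = e * e := P.t_eq
  have hmeet : ∀ y ∈ ({gs a b, gq a b, gx a b e, e, gw a b} : Set G), y ∈ S.H ⊓ S.M := fun y hy => by
    rw [P.meet]; exact Subgroup.subset_closure hy
  have hbH : b ∈ S.H ⊓ S.M := by
    have e1 : b = gs a b * gq a b := by rw [gq, ← mul_assoc, P.s_sq, one_mul]
    rw [e1]
    exact Subgroup.mul_mem _ (hmeet _ (by simp)) (hmeet _ (by simp))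
  have hwH : w ∈ S.H ⊓ S.M := hmeet _ (by simp [w])
  have hRH : ∀ y ∈ S.R, y ∈ S.H := by
    intro y hy
    rw [S.hR] at hy
    obtain ⟨z, -, rfl⟩ := Subgroup.mem_map.1 hy
    exact z.2
  have hRn : ∀ y ∈ S.R, ∀ z ∈ S.H, z * y * z⁻¹ ∈ S.R := by
    intro y hy z hz
    rw [S.hR] at hy ⊢
    obtain ⟨y', hy', rfl⟩ := Subgroup.mem_map.1 hy
    exact Subgroup.mem_map.2 ⟨⟨z, hz⟩ * y' * ⟨z, hz⟩⁻¹,
      (inferInstance : (Cfsg.pCore 2 S.H).Normal).conj_mem y' hy' _, by simp⟩
  have hconjb : ∀ y ∈ S.R, b⁻¹ * y * b ∈ S.R := fun y hy => by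
    simpa using hRn y hy b⁻¹ (S.H.inv_mem hbH.1)
  have htc : ∀ y ∈ S.H, y * t = t * y := by
    intro y hy
    rw [S.hH, Subgroup.mem_centralizer_singleton_iff] at hy
    exact hy
  -- the elements of `A`
  have hA : ∀ y ∈ ({e, f, g} : Set G), y ∈ S.A := fun y hy => by
    rw [P.A_eq]; exact Subgroup.subset_closure hy
  have hvA : v ∈ S.A := by rw [hv, gv]; exact S.A.mul_mem (hA _ (by simp [f])) (hA _ (by simp [f]))
  have hg2 : g * g = vb := by rw [hg, gg, hvb, hv, gv]; group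
  have hvbA : vb ∈ S.A := hg2 ▸ S.A.mul_mem (hA _ (by simp)) (hA _ (by simp))
  have hV : ∀ y ∈ ({e * e, v, vb} : Set G), y ∈ S.V := fun y hy => by
    rw [P.V_eq]; exact Subgroup.subset_closure hy
  -- `R ⊓ A`
  set K : Subgroup G := Subgroup.closure {e, v, vb} with hK
  have heR : e ∈ S.R := (Subgroup.mem_inf.1 (S.hCyle P.e_mem_Cy)).1
  have hKRA : K ≤ S.R ⊓ S.A := by
    refine (Subgroup.closure_le _).2 ?_
    rintro y (rfl | rfl | rfl)
    · exact ⟨heR, hA _ (by simp)⟩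
    · exact ⟨S.hVR (hV _ (by simp)), hvA⟩
    · exact ⟨S.hVR (hV _ (by simp)), hvbA⟩
  have hVK : S.V ≤ K := by
    rw [P.V_eq]
    refine (Subgroup.closure_le _).2 ?_
    rintro y (rfl | rfl | rfl)
    · exact K.mul_mem (Subgroup.subset_closure (by simp)) (Subgroup.subset_closure (by simp))
    · exact Subgroup.subset_closure (by simp [v])
    · exact Subgroup.subset_closure (by simp [vb, v])
  have hKeq : K = S.R ⊓ S.A := by
    refine Subgroup.eq_of_le_of_card_ge hKRA ?_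
    rw [L.card_inter]
    have h1 : Nat.card K ∣ 16 := L.card_inter ▸ Subgroup.card_dvd_of_le hKRA
    have h2 : Nat.card S.V ∣ Nat.card K := Subgroup.card_dvd_of_le hVK
    rw [S.hVcard] at h2
    have h3 : Nat.card K ≠ 8 := by
      intro h8
      have heq : S.V = K := Subgroup.eq_of_le_of_card_ge hVK (by rw [S.hVcard, h8])
      have he2 : e ^ 2 = 1 := S.hVexp e (heq ▸ Subgroup.subset_closure (by simp))
      rw [pow_two, ← P.t_eq] at he2
      have := S.ht
      rw [he2, orderOf_one] at this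
      omega
    have hle : Nat.card K ≤ 16 := Nat.le_of_dvd (by norm_num) h1
    obtain ⟨d, hd⟩ := h2
    obtain ⟨d', hd'⟩ := h1
    have : d ≤ 2 := by omega
    have h4 : Nat.card K ≠ 0 := Nat.card_pos.ne'
    interval_cases d <;> omega
  -- criterion
  have hcen : ∀ y ∈ S.H, y * v = v * y → y * vb = vb * y → y ∈ S.A := by
    intro y hy h1 h2
    rw [← L.cent_V, Subgroup.mem_centralizer_iff]
    intro z hz
    have : S.V ≤ Subgroup.centralizer ({y} : Set G) := by
      rw [P.V_eq]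
      refine (Subgroup.closure_le _).2 ?_
      rintro x (rfl | rfl | rfl) <;>
        simp only [SetLike.mem_coe, Subgroup.mem_centralizer_singleton_iff]
      · exact (htE ▸ htc y hy).symm
      · exact h1.symm
      · exact h2.symm
    exact Subgroup.mem_centralizer_singleton_iff.1 (this hz)
  have hcoset : ∀ z y, z ∈ S.H → y ∈ S.H → z * v * z⁻¹ = y * v * y⁻¹ →
      z * vb * z⁻¹ = y * vb * y⁻¹ → z⁻¹ * y ∈ S.A := by
    intro z y hz hy h1 h2
    refine hcen _ (S.H.mul_mem (S.H.inv_mem hz) hy) ?_ ?_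
    · calc z⁻¹ * y * v = z⁻¹ * (y * v * y⁻¹) * y := by group
        _ = v * (z⁻¹ * y) := by rw [← h1]; group
    · calc z⁻¹ * y * vb = z⁻¹ * (y * vb * y⁻¹) * y := by group
        _ = vb * (z⁻¹ * y) := by rw [← h2]; group
  have hsign : ∀ y ∈ S.R, ∀ z ∈ S.R, y * z * y⁻¹ = z ∨ y * z * y⁻¹ = z * t := by
    intro y hy z hz
    rcases L.comm_R y hy z hz with h | h
    · exact Or.inl (mul_inv_eq_one.1 h)
    · refine Or.inr ?_
      rw [mul_inv_eq_iff_eq_mul.1 h]
      exact (htc z (hRH z hz)).symm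
  have hvR : v ∈ S.R := S.hVR (hV _ (by simp))
  have hvbR : vb ∈ S.R := S.hVR (hV _ (by simp))
  have htt : t * t = 1 := by rw [← pow_two, ← S.ht]; exact pow_orderOf_eq_one t
  set wb := b⁻¹ * w * b with hwb
  have Fwv : w * v = v * w := F.wv
  have Fwvb : w * vb = vb * (e * e) * w := F.wvb
  have Fwbv : wb * v = v * (e * e) * wb := F.wbv
  have Fwbvb : wb * vb = vb * wb := F.wbvb
  have Fbvb : b * v * b⁻¹ = v * vb := F.bvb
  have swv : w * v * w⁻¹ = v := by rw [Fwv]; group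
  have swvb : w * vb * w⁻¹ = vb * t := by rw [htE, Fwvb]; group
  have swbv : wb * v * wb⁻¹ = v * t := by rw [htE, Fwbv]; group
  have swbvb : wb * vb * wb⁻¹ = vb := by rw [Fwbvb]; group
  have hwbH : wb ∈ S.H := S.H.mul_mem (S.H.mul_mem (S.H.inv_mem hbH.1) hwH.1) hbH.1
  -- every element of `R` has the signs of one of four cosets
  have hfour : ∀ y ∈ S.R, y ∈ S.A ∨ w⁻¹ * y ∈ S.A ∨ wb⁻¹ * y ∈ S.A ∨
      (y * v * y⁻¹ = v * t ∧ y * vb * y⁻¹ = vb * t) := by
    intro y hy
    rcases hsign y hy v hvR with h1 | h1 <;> rcases hsign y hy vb hvbR with h2 | h2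
    · exact Or.inl (hcen y (hRH y hy) (mul_inv_eq_iff_eq_mul.1 h1) (mul_inv_eq_iff_eq_mul.1 h2))
    · exact Or.inr (Or.inl (hcoset w y hwH.1 (hRH y hy) (swv.trans h1.symm) (swvb.trans h2.symm)))
    · exact Or.inr (Or.inr (Or.inl
        (hcoset wb y hwbH (hRH y hy) (swbv.trans h1.symm) (swbvb.trans h2.symm))))
    · exact Or.inr (Or.inr (Or.inr ⟨h1, h2⟩))
  -- some element lies in the coset of `w`
  have hy0 : ∃ y ∈ S.R, w⁻¹ * y ∈ S.A := by
    have hne : ¬ S.R ≤ S.A := fun hle => by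
      have h := L.card_inter
      rw [inf_eq_left.2 hle, L.card_R] at h
      omega
    obtain ⟨y, hyR, hyA⟩ := SetLike.not_le_iff_exists.1 hne
    have hconj : ∀ z x : G, z ∈ S.R → x⁻¹ * z ∈ S.A →
        (b * x * b⁻¹)⁻¹ * (b * z * b⁻¹) ∈ S.A := by
      intro z x _ hzx
      have := conj_A (S := S) hzx hbH.2
      have e1 : (b * x * b⁻¹)⁻¹ * (b * z * b⁻¹) = b * (x⁻¹ * z) * b⁻¹ := by group
      rw [e1]; exact this
    rcases hfour y hyR with h | h | h | ⟨h1, h2⟩
    · exact absurd h hyA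
    · exact ⟨y, hyR, h⟩
    · refine ⟨b * y * b⁻¹, hRn y hyR b hbH.1, ?_⟩
      have := hconj y wb hyR h
      rwa [show b * wb * b⁻¹ = w by rw [hwb]; group] at this
    · refine ⟨b⁻¹ * y * b, hconjb y hyR, ?_⟩
      have hY := hRH _ (hconjb y hyR)
      have htb := htc b hbH.1
      have htvb := htc vb (hRH vb hvbR)
      refine hcoset w _ hwH.1 hY ?_ ?_
      · rw [swv]
        have e1 : b⁻¹ * y * b * v * (b⁻¹ * y * b)⁻¹
            = b⁻¹ * ((y * v * y⁻¹) * (y * vb * y⁻¹)) * b := by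
          calc b⁻¹ * y * b * v * (b⁻¹ * y * b)⁻¹ = b⁻¹ * (y * (b * v * b⁻¹) * y⁻¹) * b := by group
            _ = b⁻¹ * (y * (v * vb) * y⁻¹) * b := by rw [Fbvb]
            _ = _ := by group
        rw [e1, h1, h2]
        calc v = b⁻¹ * (b * v * b⁻¹) * b := by group
          _ = b⁻¹ * (v * vb) * b := by rw [Fbvb]
          _ = b⁻¹ * (v * t * (vb * t)) * b := by
            congr 2
            rw [htvb, ← mul_assoc (v * t), mul_assoc v t t, htt, mul_one]
      · rw [swvb]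
        calc vb * t = b⁻¹ * v * (b * t) := by rw [hvb]; group
          _ = b⁻¹ * v * (t * b) := by rw [htb]
          _ = b⁻¹ * (v * t) * b := by group
          _ = b⁻¹ * (y * v * y⁻¹) * b := by rw [h1]
          _ = b⁻¹ * y * b * vb * (b⁻¹ * y * b)⁻¹ := by rw [hvb]; group
  obtain ⟨y, hyR, hy⟩ := hy0
  -- decomposition of `A`
  have hdec : ∀ α ∈ S.A, ∃ i j : ℤ, ∃ k ∈ K, α = f ^ i * g ^ j * k := by
    have hKA : K ≤ S.A := fun z hz => (hKRA hz).2
    intro α hα
    rw [P.A_eq] at hα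
    induction hα using Subgroup.closure_induction with
    | mem z hz =>
      rcases hz with rfl | rfl | rfl
      · exact ⟨0, 0, z, Subgroup.subset_closure (by simp), by simp⟩
      · exact ⟨1, 0, 1, K.one_mem, by simp [f]⟩
      · exact ⟨0, 1, 1, K.one_mem, by simp [g]⟩
    | one => exact ⟨0, 0, 1, K.one_mem, by simp⟩
    | mul z z' _ _ hz hz' =>
      obtain ⟨i, j, k, hk, rfl⟩ := hz
      obtain ⟨i', j', k', hk', rfl⟩ := hz'
      refine ⟨i + i', j + j', k * k', K.mul_mem hk hk', ?_⟩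
      have hfi : f ^ i' ∈ S.A := S.A.zpow_mem (hA _ (by simp)) _
      have hgj : g ^ j ∈ S.A := S.A.zpow_mem (hA _ (by simp)) _
      have hgj' : g ^ j' ∈ S.A := S.A.zpow_mem (hA _ (by simp)) _
      have hkA : k ∈ S.A := hKA hk
      rw [zpow_add, zpow_add]
      calc f ^ i * g ^ j * k * (f ^ i' * g ^ j' * k')
          = f ^ i * g ^ j * (k * (f ^ i' * g ^ j')) * k' := by group
        _ = f ^ i * (g ^ j * f ^ i') * g ^ j' * k * k' := by
          rw [L.A_comm k hkA _ (S.A.mul_mem hfi hgj')]; group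
        _ = _ := by rw [L.A_comm _ hgj _ hfi]; group
    | inv z _ hz =>
      obtain ⟨i, j, k, hk, rfl⟩ := hz
      refine ⟨-i, -j, k⁻¹, K.inv_mem hk, ?_⟩
      have hfi : (f ^ i)⁻¹ ∈ S.A := S.A.inv_mem (S.A.zpow_mem (hA _ (by simp)) _)
      have hgj : (g ^ j)⁻¹ ∈ S.A := S.A.inv_mem (S.A.zpow_mem (hA _ (by simp)) _)
      have hkA : k⁻¹ ∈ S.A := S.A.inv_mem (hKA hk)
      rw [zpow_neg, zpow_neg, mul_inv_rev, mul_inv_rev, L.A_comm _ hkA _ (S.A.mul_mem hgj hfi),
        L.A_comm _ hgj _ hfi]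
  have hfK : f * f ∈ K := Subgroup.subset_closure (by simp [v, gv, f])
  have hgK : g * g ∈ K := hg2 ▸ Subgroup.subset_closure (by simp)
  have hrep : ∃ r ∈ ({1, f, g, f * g} : Set G), w * r ∈ S.R := by
    obtain ⟨i, j, k, hk, hα⟩ := hdec _ hy
    have hfA : f ∈ S.A := hA _ (by simp)
    have hgA : g ∈ S.A := hA _ (by simp)
    have hpar : ∀ (z : G) (n : ℤ), z * z ∈ K → ∃ m ∈ K, z ^ n = m ∨ z ^ n = z * m := by
      intro z n hz
      refine ⟨(z * z) ^ (n / 2), K.zpow_mem hz _, ?_⟩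
      rcases Int.emod_two_eq_zero_or_one n with h | h
      · left; rw [← pow_two, ← zpow_natCast, ← zpow_mul]; congr 1; omega
      · right; rw [← pow_two, ← zpow_natCast, ← zpow_mul, ← zpow_one_add]; congr 1; omega
    obtain ⟨m, hm, hm'⟩ := hpar f i hfK
    obtain ⟨n, hn, hn'⟩ := hpar g j hgK
    have hmg : m * g = g * m := L.A_comm m (hKRA hm).2 g hgA
    have hfin : ∀ r : G, ∀ k' ∈ K, w⁻¹ * y = r * k' → w * r ∈ S.R := by
      intro r k' hk' h
      have e1 : w * r = y * k'⁻¹ := by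
        rw [eq_mul_inv_iff_mul_eq, mul_assoc, ← h, mul_inv_cancel_left]
      rw [e1]
      exact S.R.mul_mem hyR (S.R.inv_mem (hKRA hk').1)
    rcases hm' with hm' | hm' <;> rcases hn' with hn' | hn' <;> rw [hm', hn'] at hα
    · exact ⟨1, by simp, hfin 1 (m * n * k) (K.mul_mem (K.mul_mem hm hn) hk)
        (by rw [hα, one_mul])⟩
    · exact ⟨g, by simp, hfin g (m * n * k) (K.mul_mem (K.mul_mem hm hn) hk)
        (by rw [hα, ← mul_assoc m g, hmg]; group)⟩
    · exact ⟨f, by simp, hfin f (m * n * k) (K.mul_mem (K.mul_mem hm hn) hk)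
        (by rw [hα]; group)⟩
    · exact ⟨f * g, by simp, hfin (f * g) (m * n * k) (K.mul_mem (K.mul_mem hm hn) hk)
        (by rw [hα, mul_assoc f m, ← mul_assoc m g, hmg]; group)⟩
  have heq : ∀ r ∈ S.A, w * r ∈ S.R →
      S.R = Subgroup.closure ({e, v, vb, w * r, b⁻¹ * (w * r) * b} : Set G) := by
    intro r hr hu
    set u := w * r with hu'
    set ub := b⁻¹ * u * b with hub
    set N := Subgroup.closure ({e, v, vb, u, ub} : Set G) with hN
    have huN : u ∈ N := Subgroup.subset_closure (by simp)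
    have hubN : ub ∈ N := Subgroup.subset_closure (by simp)
    have hubR : ub ∈ S.R := hconjb u hu
    have hKN : K ≤ N := by
      refine (Subgroup.closure_le _).2 ?_
      rintro z (rfl | rfl | rfl) <;> exact Subgroup.subset_closure (by simp)
    refine le_antisymm (fun z hz => ?_) ((Subgroup.closure_le _).2 ?_)
    · have hin : ∀ n ∈ N, n ∈ S.R → n⁻¹ * z ∈ S.A → z ∈ N := by
        intro n hnN hnR hnA
        have h1 : n⁻¹ * z ∈ K := hKeq ▸ ⟨S.R.mul_mem (S.R.inv_mem hnR) hz, hnA⟩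
        simpa using N.mul_mem hnN (hKN h1)
      rcases hfour z hz with h | h | h | ⟨h1, h2⟩
      · exact hin 1 N.one_mem S.R.one_mem (by simpa using h)
      · refine hin u huN hu ?_
        rw [hu', mul_inv_rev, mul_assoc]
        exact S.A.mul_mem (S.A.inv_mem hr) h
      · refine hin ub hubN hubR ?_
        have e1 : ub⁻¹ * z = b⁻¹ * r⁻¹ * b⁻¹⁻¹ * (wb⁻¹ * z) := by rw [hub, hu', hwb]; group
        rw [e1]
        exact S.A.mul_mem (conj_A (S.A.inv_mem hr) (S.M.inv_mem hbH.2)) h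
      · refine hin (u * ub) (N.mul_mem huN hubN) (S.R.mul_mem hu hubR) ?_
        have hrb : b⁻¹ * r * b ∈ S.A := by
          simpa using conj_A (S := S) hr (S.M.inv_mem hbH.2)
        have hu_act : ∀ q ∈ S.A, u * q * u⁻¹ = w * q * w⁻¹ := by
          intro q hq
          rw [hu', show w * r * q * (w * r)⁻¹ = w * (r * q) * r⁻¹ * w⁻¹ by group,
            L.A_comm r hr q hq]
          group
        have hub_act : ∀ q ∈ S.A, ub * q * ub⁻¹ = wb * q * wb⁻¹ := by
          intro q hq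
          have e1 : ub = wb * (b⁻¹ * r * b) := by rw [hub, hu', hwb]; group
          rw [e1, show wb * (b⁻¹ * r * b) * q * (wb * (b⁻¹ * r * b))⁻¹
              = wb * ((b⁻¹ * r * b) * q) * (b⁻¹ * r * b)⁻¹ * wb⁻¹ by group,
            L.A_comm _ hrb q hq]
          group
        have htA : t ∈ S.A := L.V_le_A L.t_mem
        have hwt : w * t * w⁻¹ = t := by rw [htc w hwH.1, mul_inv_cancel_right]
        refine hcoset _ _ (S.H.mul_mem (hRH u hu) (hRH ub hubR)) (hRH z hz) ?_ ?_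
        · rw [h1, show u * ub * v * (u * ub)⁻¹ = u * (ub * v * ub⁻¹) * u⁻¹ by group,
            hub_act v hvA, swbv, hu_act _ (S.A.mul_mem hvA htA),
            show w * (v * t) * w⁻¹ = w * v * w⁻¹ * (w * t * w⁻¹) by group, swv, hwt]
        · rw [h2, show u * ub * vb * (u * ub)⁻¹ = u * (ub * vb * ub⁻¹) * u⁻¹ by group,
            hub_act vb hvbA, swbvb, hu_act _ hvbA, swvb]
    · rintro z (rfl | rfl | rfl | rfl | rfl)
      exacts [heR, hvR, hvbR, hu, hubR]
  obtain ⟨r, hr, hwr⟩ := hrep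
  have hbad : r ∉ ({g, f * g} : Set G) := by
    intro hr'
    obtain ⟨h1, h2⟩ := F.bad r (by simpa [f, g] using hr')
    rcases L.comm_R _ hwr _ (hconjb _ hwr) with h | h
    · exact h1 h
    · exact h2 (h.trans htE)
  rcases hr with rfl | rfl | rfl | rfl
  · left
    have := heq 1 S.A.one_mem hwr
    rwa [mul_one] at this
  · exact Or.inr (heq _ (hA _ (by simp)) hwr)
  · exact absurd (by simp) hbad
  · exact absurd (by simp) hbad

/-- inverse letters -/
def ivl : Fin 7 → Fin 7 := ![0, 1, 2, 3, 4, 6, 5]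

/-- inverse word -/
def iwd (l : List (Fin 7)) : List (Fin 7) := l.reverse.map ivl

/-- the words of the six identities -/
def good : List (List (Fin 7) × List (Fin 7)) :=
  [([4] ++ lv, lv ++ [4]), ([4] ++ lvb, lvb ++ [5, 5] ++ [4]),
   (lB ++ [4] ++ lb ++ lv, lv ++ [5, 5] ++ (lB ++ [4] ++ lb)),
   (lB ++ [4] ++ lb ++ lvb, lvb ++ (lB ++ [4] ++ lb)),
   (lb ++ lv ++ lB, lv ++ lvb)]

/-- the commutator word of a wrong representative -/
def comWord (r : List (Fin 7)) : List (Fin 7) :=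
  let u := [4] ++ r
  let u' := lB ++ u ++ lb
  u ++ u' ++ iwd u ++ iwd u'

/-- the words which must not be trivial -/
def badWords : List (List (Fin 7)) :=
  [comWord lg, comWord lg ++ iwd [5, 5], comWord (lf ++ lg), comWord (lf ++ lg) ++ iwd [5, 5]]

theorem facts_of {S : Setup G} {a b e : G} (P : MPre S a b e) (triv : List (Fin 7) → Bool)
    (htriv : ∀ l, ev (mlet a b e) l = 1 ↔ triv l = true)
    (hgood : ∀ p ∈ good, triv (p.1 ++ iwd p.2) = true)
    (hbad : ∀ l ∈ badWords, triv l = false) : Facts a b e := by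
  have happ : ∀ l l' : List (Fin 7),
      ev (mlet a b e) (l ++ l') = ev (mlet a b e) l * ev (mlet a b e) l' := fun l l' => by simp [ev]
  have hiv : ∀ x, mlet a b e (ivl x) = (mlet a b e x)⁻¹ := by
    intro x
    fin_cases x <;> simp [mlet, ivl, inv_eq_of_mul_eq_one_right P.a_sq,
      inv_eq_of_mul_eq_one_right P.s_sq, inv_eq_of_mul_eq_one_right P.q_sq,
      inv_eq_of_mul_eq_one_right P.x_sq, inv_eq_of_mul_eq_one_right P.w_sq]
  have hinv : ∀ l, ev (mlet a b e) (iwd l) = (ev (mlet a b e) l)⁻¹ := by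
    intro l
    induction l with
    | nil => simp [iwd, ev]
    | cons x l ih =>
      rw [show iwd (x :: l) = iwd l ++ [ivl x] by simp [iwd], happ, ih]
      simp [ev, hiv]
  have hb : b = gs a b * gq a b := by rw [gq, ← mul_assoc, P.s_sq, one_mul]
  have hB : b⁻¹ = gq a b * gs a b := by
    refine inv_eq_of_mul_eq_one_right ?_
    conv_lhs => arg 1; rw [hb]
    calc gs a b * gq a b * (gq a b * gs a b)
        = gs a b * (gq a b * gq a b) * gs a b := by group
      _ = 1 := by rw [P.q_sq, mul_one, P.s_sq]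
  have eb : ev (mlet a b e) lb = b := by simp [ev, lb, mlet, ← hb]
  have eB : ev (mlet a b e) lB = b⁻¹ := by simp [ev, lB, mlet, ← hB]
  have ev' : ev (mlet a b e) lv = gv a b e := by simp [ev, lv, mlet, P.v_eq, mul_assoc]
  have evb : ev (mlet a b e) lvb = b⁻¹ * gv a b e * b := by rw [lvb, happ, happ, eB, ev', eb]
  have e4 : ev (mlet a b e) [4] = gw a b := by simp [ev, mlet]
  have e55 : ev (mlet a b e) [5, 5] = e * e := by simp [ev, mlet]
  have ef : ev (mlet a b e) lf = gf a b e := by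
    have h1 : lf = lB ++ [0, 5, 0] ++ lb ++ [0, 6, 0] := by decide
    rw [h1, happ, happ, happ, eB, eb]
    simp [ev, mlet, gf, mul_assoc, inv_eq_of_mul_eq_one_right P.a_sq]
  have eg : ev (mlet a b e) lg = gg a b e := by rw [lg, happ, happ, eB, ef, eb, gg]
  have heq : ∀ p ∈ good, ev (mlet a b e) p.1 = ev (mlet a b e) p.2 := by
    intro p hp
    have h := (htriv _).2 (hgood p hp)
    rwa [happ, hinv, mul_inv_eq_one] at h
  have hne : ∀ l ∈ badWords, ev (mlet a b e) l ≠ 1 := by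
    intro l hl h
    exact Bool.false_ne_true ((hbad l hl).symm.trans ((htriv l).1 h))
  have ecom : ∀ r : List (Fin 7), ev (mlet a b e) (comWord r) =
      gw a b * ev (mlet a b e) r * (b⁻¹ * (gw a b * ev (mlet a b e) r) * b) *
        (gw a b * ev (mlet a b e) r)⁻¹ * (b⁻¹ * (gw a b * ev (mlet a b e) r) * b)⁻¹ := by
    intro r
    simp only [comWord, happ, hinv, eB, eb, e4]
  refine ⟨?_, ?_, ?_, ?_, ?_, ?_⟩
  · have h := heq ([4] ++ lv, lv ++ [4]) (by simp [good])
    rwa [happ, happ, e4, ev'] at h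
  · have h := heq ([4] ++ lvb, lvb ++ [5, 5] ++ [4]) (by simp [good])
    rwa [happ, happ, happ, e4, evb, e55] at h
  · have h := heq (lB ++ [4] ++ lb ++ lv, lv ++ [5, 5] ++ (lB ++ [4] ++ lb)) (by simp [good])
    rwa [happ, happ, happ, happ, happ, happ, happ, e4, ev', e55, eB, eb] at h
  · have h := heq (lB ++ [4] ++ lb ++ lvb, lvb ++ (lB ++ [4] ++ lb)) (by simp [good])
    rwa [happ, happ, happ, happ, happ, happ, e4, evb, eB, eb] at h
  · have h := heq (lb ++ lv ++ lB, lv ++ lvb) (by simp [good])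
    rwa [happ, happ, happ, ev', evb, eB, eb] at h
  · intro r hr
    simp only [List.mem_cons, List.not_mem_nil, or_false] at hr
    rcases hr with rfl | rfl
    · have h1 := hne (comWord lg) (by simp [badWords])
      have h2 := hne (comWord lg ++ iwd [5, 5]) (by simp [badWords])
      rw [ecom, eg] at h1
      rw [happ, hinv, ecom, eg, e55, Ne, mul_inv_eq_one] at h2
      exact ⟨h1, h2⟩
    · have h1 := hne (comWord (lf ++ lg)) (by simp [badWords])
      have h2 := hne (comWord (lf ++ lg) ++ iwd [5, 5]) (by simp [badWords])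
      rw [ecom, happ, ef, eg] at h1
      rw [happ, hinv, ecom, happ, ef, eg, e55, Ne, mul_inv_eq_one] at h2
      exact ⟨h1, h2⟩

end RCases

end CfsgLib.Spor.HSLocal
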