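import Cfsg.Agent.Lib.Spor.HSLocal.RCases
import Cfsg.Agent.Lib.Spor.HSLocal.MModel

/-!
The two possible positions of `O₂(H)` in the coordinates of the two-local subgroup.
-/

set_option autoImplicit false

namespace CfsgLib.Spor.HSLocal

universe u

theorem rcases_good : ∀ p ∈ RCases.good, MModel.wid (p.1 ++ RCases.iwd p.2) = true := by
  decide +kernel

theorem rcases_bad : ∀ l ∈ RCases.badWords, MModel.wid l = false := by
  decide +kernel

theorem r_cases {G : Type u} [Group G] [Finite G] (S : Setup G) (L : Local S) {a b e : G}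
    (P : MPre S a b e) :
    S.R = Subgroup.closure ({e, gv a b e, b⁻¹ * gv a b e * b, gw a b, b⁻¹ * gw a b * b} : Set G) ∨
    S.R = Subgroup.closure ({e, gv a b e, b⁻¹ * gv a b e * b, gw a b * gf a b e,
      b⁻¹ * (gw a b * gf a b e) * b} : Set G) :=
  RCases.of_facts S L P
    (RCases.facts_of P MModel.wid (MModel.ev_eq_one_iff L P) rcases_good rcases_bad)

end CfsgLib.Spor.HSLocal
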