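import Cfsg.Agent.Lib.PresCert.Check

/-!
Coset table certificate (generated data).
-/

namespace CfsgLib.Spor.HSLocal.TcBad1

open CfsgLib.PresCert

noncomputable def tab : BTree := (.leaf 0x906c02450000000000880002800000000068000200000000004800018000000000280001000000000008000080000)

noncomputable def par : BTree := (.node (.node (.node (.node (.leaf 0x500003000000000040001d000000000020001a00000000004000170000000000300015000000000010001900000000002000180000000000300017000000000000001600000000002000140000000000400008000000000010001300000000004000120000000000300009000000000020000f000000000020000e000000000010000e0000000000400003000000000000000a000000000000000b000000000040000a00000000003000070000000000400006000000000000000700000000005000020000000000100005000000000030000100000000001000020000000000000001000000000020000100000000005000000000000000000000) (.leaf 0x40011e00000000003000f2000000000020011c00000000004000d300000000004000d0000000000010011800000000004000d500000000000001160000000000200116000000000040007500000000001000f200000000000000f100000000000000f200000000000000fd00000000000000fe00000000000000e600000000000000fb00000000000000ea000000000000010300000000000000fc00000000000000f300000000000000ff000000000000010200000000000000fa00000000000000f600000000000000f400000000000000f9000000000000010000000000002000eb00000000005000c000000000000000f700000000004000fa))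 (.node (.leaf 0x9b000000000040009d0000000000100096000000000040009b000000000030008d00000000001000990000000000300091000000000030008b0000000000400096000000000030008e000000000000009400000000001000930000000000400066000000000010008f0000000000000090000000000040006f000000000000008e000000000040004c000000000000008c000000000010008a000000000000008a000000000040004f000000000040008800000000002000870000000000300086000000000040002f0000000000400084000000000030008300000000002000820000000000500065000000000030007b0000000000200077) (.leaf 0x30015c000000000030014d000000000010017e000000000000019b000000000030011b000000000030011900000000003001170000000000000196000000000030014600000000002001950000000000300191000000000020017d00000000003001920000000000400191000000000050014e000000000030016100000000003001670000000000300171000000000000018c000000000040018b00000000000001810000000000200189000000000030015300000000000001870000000000400182000000000050012e00000000004001800000000000300179000000000050005500000000003000a4000000000050010e000000000000017f)))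 (.node (.node (.leaf 0x200054000000000020004c000000000000005b0000000000000058000000000020005a0000000000300029000000000020005800000000003000230000000000000053000000000000004900000000001000410000000000500019000000000010004f00000000001000510000000000000050000000000030004e000000000030004c000000000000004d000000000010004c000000000000004100000000002000490000000000300049000000000040004800000000003000430000000000300046000000000020004500000000003000440000000000400042000000000050003f00000000002000410000000000300040000000000050003c) (.leaf 0x20015e0000000000100156000000000020015c00000000004000c3000000000020015a00000000004000bd000000000020015800000000004000cc000000000020015600000000004000c90000000000400069000000000040012d00000000004001220000000000100151000000000040006c000000000000014f00000000004001370000000000100149000000000020014c000000000000014b000000000020014a0000000000400067000000000040006b000000000040013600000000002001460000000000400139000000000040013f000000000040013e000000000000013a0000000000200092000000000020008e000000000000013c))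 (.node (.leaf 0xd600000000000000d800000000005000ca00000000002000da00000000000000da00000000005000c7000000000050002500000000004000d600000000002000d6000000000050002700000000000000cf00000000000000d100000000000000d200000000004000d100000000003000c100000000003000c300000000003000c800000000001000ca00000000001000c100000000000000be00000000000000ca00000000002000c800000000000000c700000000004000c700000000002000aa00000000002000b100000000001000c000000000001000b600000000000000b700000000001000b700000000002000c000000000004000ad) (.leaf 0x1bc00000000001001c000000000003001bf)))) (.node (.node (.node (.leaf 0x3a000000000000003d0000000000300026000000000030001f000000000040003a000000000030002e000000000000003700000000000000270000000000400034000000000010002300000000000000230000000000500017000000000010002400000000000000240000000000400020000000000000002e0000000000000026000000000040002d0000000000200029000000000020002a00000000000000290000000000100029000000000040002800000000002000200000000000200026000000000040002500000000002000220000000000200023000000000050000f0000000000400021000000000020001f000000000050001b)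 (.leaf 0x125000000000000013b0000000000000129000000000040013b000000000030010000000000003000eb000000000000013800000000001001370000000000000123000000000000012a0000000000200095000000000040012c000000000000011e0000000000200091000000000000012800000000002000940000000000000121000000000000012700000000000001240000000000000120000000000000012600000000005001290000000000400128000000000050012500000000005001230000000000500124000000000020012400000000003000fd00000000003000e2000000000000011f000000000040012000000000003000f5)) (.node (.leaf 0x2000be00000000004000bc00000000000000bc00000000003000bb00000000002000af00000000002000b300000000003000b700000000004000b700000000002000b600000000004000aa00000000003000b200000000004000a500000000000000b200000000001000b100000000000000af00000000000000aa00000000003000ac00000000001000aa000000000050001300000000004000ab00000000001000a8000000000050000400000000001000a600000000004000a200000000002000a600000000004000a3000000000020008c000000000020008d00000000000000a2000000000020008a000000000010009c000000000040009f)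 (.leaf 0x1be00000000002001bd00000000000001b200000000002001a800000000004001ba000000000030015000000000005000ae00000000000001a20000000000300157000000000030015400000000000001a300000000004001b000000000005001b20000000000300176000000000030014f00000000005001af00000000003001ae00000000004001ad00000000002001a700000000003001aa00000000002001a3000000000020009b000000000010018c000000000010018700000000001001a4000000000010019800000000000001a40000000000300158000000000030016500000000001001970000000000300163000000000030015e))) (.node (.node (.leaf 0x7e000000000040007d000000000030007c000000000040007b000000000050004b00000000004000360000000000300078000000000050006d0000000000300076000000000050005f0000000000000045000000000000007000000000000000710000000000000046000000000030006a0000000000300064000000000010006d000000000000006d000000000020006a0000000000000047000000000010004400000000005000180000000000100047000000000010004300000000000000440000000000000048000000000040004d00000000004000600000000000100060000000000010004b0000000000000060000000000030005f)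 (.leaf 0x300118000000000000017d0000000000300152000000000000017b0000000000100178000000000000017900000000004000df000000000020017700000000004000de000000000020017500000000004000e0000000000040010b00000000004000ce0000000000400111000000000010016f000000000020016f00000000004000cb00000000004000ee000000000010016800000000004001140000000000000169000000000040010c00000000004000c500000000004000c400000000002001660000000000400110000000000040010e000000000000015e00000000002001620000000000000160000000000040010a00000000004000ba)) (.node (.leaf 0x3000d70000000000500085000000000050008600000000005000fb00000000003000fa00000000002000f900000000004000f400000000000000f5000000000050002d00000000004000f5000000000050003700000000003000f300000000004000ec00000000004000f000000000002000f000000000003000d800000000003000de00000000000000ec00000000000000eb0000000000500087000000000050003900000000001000e900000000000000e700000000004000e700000000002000e6000000000050003800000000000000dd00000000000000e200000000000000dc00000000004000d700000000000000d700000000000000d9)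 (.leaf 0x0)))))

noncomputable def fact : BTree := (.node (.node (.node (.node (.node (.node (.leaf 0x250000a20000b000240000b30000b000230000b40000a000220000a300007000210000910000900020000090000090001f000092000090001e000094000060001d000082000080001c000081000070001b000080000070001a0000740000700019000072000070001800007500002000170000620000600016000063000030001500005000006000140000610000500013000055000050001200005400005000110000520000500010000053000010000f000043000040000e000042000030000d000020000040000c000041000020000b000011000030000a000030000010000900002300002000080000140000200007000022000010000600001500000) (.leaf 0x425001a1300163004240019a4001a000423001961001a000422001a030015e004210019b40019f004200019f30015c0041f0019d40019e0041e0019e0001850041d0019e30014d0041c0019d30014e0041b0019d10017e0041a0011c30019c004190019c00019b004180019a10019b004170019b30011b004160019900019a004150019a300119004140019930011700413001623001980041200198000196004110019730014600410001964001960040f001603001960040e001962001950040d001944001950040c001953001910040b0018a3001940040a0019420017d004090018a40019300408001862001930040700193300192004060019220009f))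 (.node (.leaf 0x225000d13000c100224000b90000d000223000d02000d000222000d03000c300221000cf4000cf00220000cf2000cf0021f000cf3000c80021e000ce2000c20021d000c00000ce0021c000ce1000ca0021b000cd2000cb0021a000c80000cd00219000cd1000c100218000cc1000c800217000c42000cc00216000cc0000be00215000cb1000bf00214000cb0000ca00213000ca3000ca00212000b24000ca00211000ca2000c800210000b02000c90020f000c93000c90020e000bc1000c90020d000c90000c70020c000115000c80020b000c84000c70020a000c73000c700209000c61000c700208000c72000aa00207000bd3000c600206000c60000bb) (.leaf 0x0))) (.node (.node (.leaf 0x1250006a40005f001240006a50001800123000692000680012200064000069001210006910004700120000683000680011f000650000680011e000681000430011d000671000640011c000670000440011b000661000650011a0006600004800119000642000650011800065300065001170006540004d0011600016500064001150006440006000114000632000560011300063300063001120004b000063001110006310006000110000552000620010f000613000620010e0005f0000620010d0006210004b0010c0004e2000610010b000611000420010a00061000060001090004d200060001080006030005f001070005e10005f001060005f200054)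 (.leaf 0x0)) (.node (.leaf 0x3250013700012300324001312001360032300115300136003220013600012a003210013140013500320001350001300031f001352000950031e001341001300031d001320001340031c000902001340031b0013440012c0031a0012c200133003190013310012a0031800113300133003170013300011e003160012b400132003150013220009100314001311001200031300131000128003120012f4001300031100130200094003100012220012f0030f0012f1001290030e0011130012f0030d0012f0001210030c000e030012e0030b0012e10011f0030a0012e000127003090011230012d003080012d10011e003070012d00012400306000f830012c) (.leaf 0x0)))) (.node (.node (.node (.leaf 0xa50003b20003b000a40002030003b000a30003b40003a000a20003a20003a000a10003a30002e000a0000302000390009f000391000270009e000390000370009d000383000380009c0002f2000380009b000381000370009a000380000270009900037300037000980002e200037000970003740003400096000362000330009500034000036000940003610002300093000322000350009200035100034000910003500002300090000312000340008f000345000170008e000324000330008d000310000330008c000331000240008b0002c3000320008a000321000310008900032000024000880003130002d00087000314000200008600030100026)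 (.leaf 0x48900000500000004880000160000000487000076000010048600007600000)) (.node (.leaf 0x2a500108100102002a4001080000fa002a3001071000f4002a2001070000f6002a1000f8200106002a0001061000fa0029f001060000f40029e000f51001050029d001050000f90029c001041000f90029b001040001000029a0010330010200299000f140010300298001032000eb00297001024000f7002960010020010200295001025000c0002940010110010000293001010000f7002920002850010000291001004000fa00290000ff4000fd0028f000fe2000ff0028e000ff5000ff0028d000ff3000d70028c000fe4000fc0028b000fe5000850028a000fb2000fd00289000fd50008600288000e82000fc00287000f63000fc00286000fc5000fb) (.leaf 0x0))) (.node (.node (.leaf 0x1a50009030009e001a40009e000099001a30009e40009d001a20009d300093001a10009c00009d001a00009d1000960019f0009230009c0019e0009c40009b0019d0009810009b0019c0009b30008d0019b0009a30008f0019a0009a40009a001990009600009a001980009a1000990019700098400099001960009930009100195000971000970019400097000098001930009830008b001920008a3000970019100097400096001900009630008e0018f0006e4000950018e000911000950018d000950000940018c000944000560018b000941000930018a000930000920018900093400066001880009240004e001870009210008f0018600055400091)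 (.leaf 0x0)) (.node (.leaf 0x3a50016b20016c003a40016c400114003a3000ae40016b003a20016b000169003a10016920016a003a00016a40010c0039f001671001690039e001694000c50039d001670001680039c001684000c40039b000b04001670039a0016720016600399001664001100039800164200165003970016500015f0039600159100165003950016540010e00394000c64001640039300162100164003920016400015e003910016110015f00390001610001630038f001134001630038e0015b1001630038d001632001620038c000c24001620038b001620001600038a00160200161003890016140010a003880015c10016000387001604000ba003860011240015f) (.leaf 0x0))))) (.node (.node (.node (.node (.leaf 0x65000210000210006400021300021000630002120001f0006200020000020000610002050001b000600001f00001f0005f0001f5000030005e0001e00001e0005d0001220001e0005c0001e40001d0005b0001d0000180005a0001d100018000590001630001d000580001d20001a000570001c00001c000560001b20001c000550001c30001c000540001c400017000530001b10001b000520001b00001b000510001a40001b000500001b3000150004f0001a3000110004e0001900001a0004d0001a1000190004c000194000190004b000103000190004a000192000180004900018400018000480001830001700047000132000170004600017100016)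 (.leaf 0x465001891001ba00464001ba30015000463001b91001b200462001841001b300461001840001b900460001b930017a0045f001b94001b70045e001b95000ae0045d001b81001b60045c0014c3001b80045b001b80001a20045a001b51001b700459001b730015700458001890001b600457001b54001b600456001b6300154004550015f3001b500454001b50001a300453001b32001b400452001b44001b000451001a34001b300450001783001b30044f001b35001b20044e001b14001b20044d001b23001760044c001af2001b10044b001b130014f0044a0009c2001b000449001b05001af00448001ac4001af00447001af3001ae004460019d2001ae)) (.node (.leaf 0x265000ec50008700264000ea4000eb00263000eb50003900262000ea5000ea00261000ea3000dd00260000ea1000e90025f000db3000e90025e000e90000e70025d000805000e80025c000e84000e70025b000e75000e70025a000e73000da00259000e72000e600258000e650003800257000e42000e500256000da1000e500255000e50000dd00254000d61000e400253000e40000e200252000e31000e200251000db2000e300250000e30000dc0024f000245000e20024e000e24000d70024d000e11000dd0024c000df2000e10024b000e10000d70024a000de2000e000249000e01000dc00248000e00000d900247000df1000d900246000df0000d6)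 (.leaf 0x0))) (.node (.node (.leaf 0x16500080400081001640008130007b001630007e300080001620007f1000800016100080200077001600007f00007e0015f0007e2000790015e0007e40007d0015d0003050007d0015c0007d30007c0015b0007c20007c0015a0004850007c001590007c40007b001580007b20007b001570007b50004b001560007a100079001550007700007a001540007a40003600153000394000790015200079500079001510007930007800150000762000780014f0007850006d0014e000384000770014d000773000760014c000764000760014b0007650005f0014a000722000750014900067300075001480007110007500147000750000450014600074200074) (.leaf 0x0)) (.node (.leaf 0x3650015100014e003640015140006c0036300150400143003620015000014f003610014e20014f003600014f4001370035f0014e4000620035e0014e1001490035d0006140014d0035c0014d00014a0035b0014d20014c0035a0014c40012e003590014c100148003580014c00014b003570013340014b003560014b20014a003550014710014a003540014a40006700353001470001490035200148200149003510014940006b00350001460001480034f001484001360034e0005e4001470034d001472001460034c001464001390034b0008f2001450034a0014540013f0034900093200144003480014440013e003470013e20014300346000ed300143)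 (.leaf 0x0)))) (.node (.node (.node (.leaf 0xe500052200052000e400051400051000e30004a000052000e200052100051000e10004d300051000e000051000050000df00040100050000de0005030004e000dd0004f20004f000dc0004000004f000db0004f30004c000da0004910004e000d90004e00004d000d80001450004d000d70004d10004c000d60004c000041000d50004740004b000d40004b30004b000d30004b200049000d20004a20004a000d10003d50004a000d00004040004a000cf0004a300049000ce00008500049000cd00049400048000cc00047200048000cb00048300043000ca00015500047000c900047300046000c80004650003b000c700046200045000c60003a500045) (.leaf 0x0)) (.node (.leaf 0x2e5001203000f5002e4000d630011f002e30011f40011e002e20011e50011e002e10011e3000f2002e00007240011d002df0011d10011d002de0011d00011a002dd0011d20011c002dc0011b10011b002db0011b00011c002da0011710011c002d90011c4000d3002d80011a20011b002d70011b4000d0002d60011a400073002d50011a100118002d400117000119002d300118200119002d2001194000d5002d100074400118002d000116100116002cf00118000116002ce000d4400117002cd00117200116002cc00116400075002cb0011520010c002ca000e8000115002c9001151000f2002c8000ef200114002c7000fe100114002c6001140000f1)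 (.leaf 0x0))) (.node (.node (.leaf 0x1e5000b83000b8001e4000b82000b2001e3000b84000b7001e2000b750000e001e1000b72000b6001e0000b63000b6001df000b64000aa001de000b52000b5001dd000b55000b5001dc000b50000b4001db000b53000b2001da000b33000b4001d9000b42000b4001d8000ac1000b4001d7000b44000a5001d6000ad1000b3001d5000b30000b2001d4000b250000c001d3000b21000b1001d2000a63000b1001d1000b10000af001d0000b01000af001cf000a83000b0001ce000b00000aa001cd0001a5000af001cc000af3000ac001cb000ae3000a7001ca000ad0000ae001c9000ae1000aa001c8000ab3000ad001c7000ad500013001c6000ac2000ab) (.leaf 0x0)) (.node (.leaf 0x3e50017c300183003e400183500055003e30018250009b003e2001823000a4003e1001813000a2003e00018150010e003df0010a50010a003de00098500098003dd001225000e9003dc0004c50004c003db000b35000b3003da0009f500137003d9000ef500097003d800130500156003d7000b0500056003d60017f10017f003d500116300180003d40018000017f003d30017e40017f003d20017f300118003d10015530017e003d00017e00017d003cf0017d40017d003ce0017d300152003cd000e140017c003cc0017c20017c003cb0017610017c003ca0017c00017b003c90017b4000e3003c80017b100178003c7000db40017a003c60017a100175)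 (.leaf 0x0)))))) (.node (.node (.node (.node (.node (.leaf 0x4500017000016000440001640001600043000162000140004200015000015000410001520001500040000154000080003f0001430000f0003e000144000140003d000130000140003c000141000130003b0000e3000130003a0001340001200039000121000120003800012000012000370001230000900036000101000110003500011000010000340000d400011000330001120000f000320000c400010000310001020000e000300000440000f0002f0000e00000f0002e0000f10000e0002d0000e4000030002c0000830000d0002b0000c20000d0002a0000d10000a000290000d00000a000280000c30000c000270000c00000b000260000b50000b) (.leaf 0x445001ae4001ad00444001ab3001ad00443001ad2001a700442001930001ac00441001822001ac00440001ac3001aa0043f001aa4001ab0043e001ab2001a30043d001aa0001920043c001aa20009b0043b001a93001730043a0018e0001a900439001a910018c00438001a8300168004370018f0001a800436001a810018700435001a730016400434001a00001a700433001a71001a400432001a630015a004310019f0001a600430001a61001980042f001563001a50042e001a510019f0042d001a50001a40042c001a43001580042b001a11001a30042a001a330016500429001a230014b00428001a14001a200427001a210019700426001900001a1))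 (.node (.leaf 0x245000de1000d700244000de0000d800243000dd4000dc00242000dd5000ca00241000dc50002100240000dc2000da0023f000db1000d80023e000db0000da0023d000da4000d90023c000da5000c70023b000d82000d90023a000d950002500239000b65000d800238000d84000d600237000b85000d700236000d72000d600235000d650002700234000d52000d500233000cd3000d500232000d21000d500231000d50000cf00230000d32000d40022f000d41000cf0022e000c23000d40022d000d40000d10022c000cc3000d30022b000d31000b90022a000d30000d200229000d12000d200228000be3000d200227000d24000d100226000d01000d1) (.leaf 0x0))) (.node (.node (.leaf 0x14500074100045001440006930007400143000740000700014200073200073001410006b30007300140000731000460013f000730000710013e0006c3000720013d000721000700013c000720000460013b000704000710013a00071200071001390007130006a001380005a50007000137000702000700013600070300064001350006f200067001340006f300066001330004300006f001320006f10006d001310006e30006e001300006b20006e0012f0006e1000480012e0006e00006d0012d0006d30006d0012c0005440006d0012b0006d20006a0012a0006620006c001290006a10006c001280006c000047001270006a00006b001260006b100044)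 (.leaf 0x0)) (.node (.leaf 0x34500124100143003440014300013a003430013d40014200342001422000920034100140400141003400014120008e0033f001392001400033e001103001400033d001261001400033c0014000013c0033b0012d20013f0033a0013f000125003390013e100128003380013e00013b003370012e20013d003360013d10013c003350011430013d003340013d000129003330013c20013800332000e630013c003310013c40013b003300013a20013b0032f0013b3001000032e0013840013a0032d0013610013a0032c0013a3000eb0032b001271001390032a0013900013800329001383000dc0032800138100137003270012b20013700326000e4300137) (.leaf 0x0)))) (.node (.node (.node (.leaf 0xc500045400045000c400045300044000c300044200043000c200009500044000c100044400042000c000043400041000bf0004350003f000be0002f50002f000bd0003e500042000bc00040200040000bb00042300042000ba00042200041000b900006500041000b800041300040000b70004050003c000b60003e40003f000b50003f20003f000b40003f10003d000b30003030003f000b20003f00003a000b10003e20003e000b00002f30003e000af0003e10003a000ae0003e00003d000ad0003c40003d000ac0003d20003d000ab0003d300026000aa0003c20003c000a90003c00003c000a80003b10003c000a70003c30001f000a60003b00003b)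 (.leaf 0x0)) (.node (.leaf 0x2c50010b200113002c4001131000fd002c3001130000f2002c20010f200112002c1001121000eb002c0001120000fd002bf0010a200111002be001111000ec002bd001110000fe002bc001101000f1002bb000e9200110002ba001100000e6002b90010830010f002b8000f310010f002b70010f0000fb002b6000ee20010e002b5000ff10010e002b40010e0000ea002b30010d1000fb002b20010930010d002b10010d000103002b00010c100103002af0010730010c002ae0010c0000fc002ad0010630010b002ac0010b1000fc002ab0010b0000f3002aa000e130010a002a90010a1000f0002a80010a0000ff002a7000f6100109002a600109000102) (.leaf 0x0))) (.node (.node (.leaf 0x1c5000ac0000a6001c4000ac4000ab001c3000a70000ab001c2000ab1000a8001c1000a95000a9001c0000a93000aa001bf000aa500004001be000a92000a9001bd000a94000a9001bc000a80000a9001bb000a91000a6001ba000a82000a8001b9000a84000a2001b8000a44000a7001b7000a72000a6001b6000a64000a3001b5000a50000a4001b4000a520008c001b3000a31000a4001b2000a420008d001b1000a21000a2001b00008b2000a3001af000a30000a2001ae000a220008a001ad000a1300095001ac000a00000a1001ab000a110009c001aa000943000a0001a90009e1000a0001a8000a040009f001a70008c30009f001a60009f00009b)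 (.leaf 0x0)) (.node (.leaf 0x3c50017a000179003c400179200179003c300177100179003c2001794000df003c100175000178003c0000e5400178003bf00178200177003be00176000177003bd001774000de003bc000e4400176003bb00176200175003ba001754000e0003b900173200174003b800174000172003b70017440010b003b600173000171003b50016b100173003b4001734000ce003b300171200172003b20016a100172003b100172400111003b0001714000b3003af0017110016f003ae0017000016e003ad0017020016f003ac0016f00016d003ab0016f4000cb003aa0016d20016e003a90016e4000ee003a80016d4000b1003a70016d100168003a60016a00016c) (.leaf 0x0))))) (.node (.node (.node (.node (.leaf 0x850003000002e000840002f10002e000830002f000026000820001250002e000810002e40002d000800002c10002d0007f0002d2000290007e0002500002c0007d0002c20002a0007c0002b1000220007b0002b0000290007a0002200002a000790002a100029000780001d50002900077000294000280007600028300028000750002800002800074000211000280007300028200020000720002010001f000710002730002700070000234000270006f000272000260006e0000d5000260006d000264000250006c000243000250006b000252000220006a0001f4000240006900024200023000680002350000f00067000105000220006600022400021)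 (.leaf 0x48500002600001004840000260000700483000026000010048200005600002004810000560000200480000066000040047f000046000060047e000aa6000410047d000aa6000410047c000b060004c0047b000b060004c0047a0016760008e004790016760008e004780018f600096004770018f60009600476001c14001c2004750018f2001c200474001c20001bc00473001c12001b900472001c11001c000471001b40001c000470001c03001bf0046f001b22001bf0046e001bf0001be0046d001b43001be0046c001be2001bd0046b001773001bd0046a001bd0001b200469001bc2001a800468001593001bb00467001bb0001b700466001bb4001ba)) (.node (.leaf 0x285000e64000fb00284000fb3000fa00283000fa5000bc00282000fa2000f900281000315000f900280000f94000f40027f000f81000f70027e000f80000f50027d000f62000f70027c000f750002d0027b000bb5000f60027a000f64000f500279000f42000f500278000f550003700277000f45000bf00276000f43000f300275000f32000f200274000f34000ec00273000895000f200272000f24000f0002710007e5000f100270000f12000f00026f000f05000f00026e000f00000ef0026d000f03000d80026c000e71000ef0026b000ef3000de0026a000ee1000e600269000ee0000ec00268000ed1000e800267000ed0000eb00266000ea2000ec)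 (.leaf 0x0))) (.node (.node (.leaf 0x18500091000090001840008e100090001830009040006f001820006840008f001810008f00008e001800008e40004c0017f0005040008d0017e0008d00008c0017d0008c4000520017c0008c10008a0017b0008b10008b0017a0005740008b001790008b00008a001780008a40004f001770007d20008900176000893000890017500089400088001740008230008800173000882000870017200030400087001710008730008600170000842000860016f0008640002f0016e000852000810016d000854000840016c000775000840016b000843000830016a000835000600016900083200082001680008240008200167000825000650016600081500081) (.leaf 0x0)) (.node (.leaf 0x3850015f20015e003840015e4000cd003830015e100156003820015b00015d003810011540015d003800015d20015c0037f0015c00015a0037e0015c4000c30037d000ef40015b0037c0015b20015a0037b0015810015a0037a0015a4000bd003790015700015900378000ed4001590037700159200158003760015600015800375001584000cc00374000e9400157003730015720015600372001564000c9003710015420015500370001550001520036f0014d1001550036e001554000690036d001540001530036c0014f1001540036b0015440012d0036a00152200153003690014b100153003680015340012200367001524000630036600152100151)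 (.leaf 0x0)))) (.node (.node (.node (.leaf 0x1050004200005e001040005e30005e001030005e20004c001020005d100058001010005d00005b001000005c10005b000ff0005c000058000fe0005b40005b000fd0003430005b000fc0005b20005a000fb0005a300029000fa00053500059000f900059400059000f800022300059000f700059200058000f600051500058000f500058400058000f400058300023000f300050200057000f200055300057000f10004a100057000f000057000053000ef00052300056000ee00054100056000ed00056000049000ec00054000055000eb00055100041000ea00053300054000e900054500019000e800053400053000e700053200051000e60005310004f) (.leaf 0x0)) (.node (.leaf 0x3050012c100125003040012c00012000303000ee30012b003020012b100121003010012b000126003000012820012a002ff000e830012a002fe0012a500129002fd00129200127002fc000f1300129002fb00129400128002fa000f7300128002f900128500125002f8000d9300127002f700127500123002f600126400125002f500123200126002f4000ec300126002f300126500124002f2000f9300125002f100125200124002f000123400124002ef001243000fd002ee00122100123002ed001233000e2002ec000df300122002eb0012200011f002ea00121500121002e90012120011f002e8000fe300121002e700121400120002e60011e200120)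 (.leaf 0x0))) (.node (.node (.leaf 0x205000c62000b100204000c53000c500203000c52000c300202000b60000c500201000c51000c000200000bf0000c4001ff000c41000b6001fe000c31000be001fd000c30000b7001fc000c10000c2001fb000c21000b7001fa000c150001c001f9000bb4000c1001f8000c12000c0001f7000bf3000c0001f6000c04000ad001f5000af4000bf001f4000bf2000be001f30001e5000be001f2000be4000bc001f1000ae2000bd001f0000bd1000b8001ef000bd0000bc001ee000ad2000bc001ed000bc3000bb001ec000ba1000bb001eb000bb2000af001ea000b80000ba001e9000ba3000ba001e8000ba2000b3001e7000b92000b9001e6000b93000b7) (.leaf 0x0)) (.node (.leaf 0x405001924001910040400190200191004030019150014e00402001834001900040100190300161004000018d10018f003ff0018f300167003fe0018640018e003fd0018810018e003fc0018e300171003fb0016f30018d003fa0018d00018c003f90016d30018c003f80018c40018b003f7000a330018b003f60018b000181003f50018a200189003f400184400189003f300189300153003f200169300188003f100188000187003f00016b300187003ef00187400182003ee00186100181003ed00182000186003ec000a5300186003eb0018650012e003ea0014a300185003e90017d100185003e800185400180003e70018450004e003e600184300179)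 (.leaf 0x0)))))))

/-- the certificate -/
noncomputable def cert : Cert where
  n := 1
  v := 450
  g := 6
  inv := [0, 1, 2, 3, 4, 5]
  rels := [[1, 0, 1, 0, 1, 0, 1, 0], [1, 0, 3, 1, 0, 3], [1, 0, 2, 1, 0, 2], [1, 0, 4, 1, 0, 4], [0, 1, 0, 1, 0, 1, 0, 1], [0, 1, 3, 0, 1, 3], [0, 1, 2, 0, 1, 2], [0, 1, 4, 0, 1, 4], [1, 0, 1, 0, 3, 0, 1, 0, 1, 3], [1, 0, 1, 0, 2, 0, 1, 0, 1, 2], [1, 0, 1, 0, 4, 0, 1, 0, 1, 4], [3, 2, 3, 2, 3, 2], [3, 4, 3, 4, 3, 4], [1, 0, 3, 1, 0, 2, 3, 2, 3, 2], [1, 0, 3, 4, 3, 4, 3, 1, 0, 4], [0, 1, 3, 0, 1, 2, 3, 2, 3, 2], [0, 1, 3, 4, 3, 4, 3, 0, 1, 4], [2, 4, 2, 4, 2, 4, 2, 4], [1, 0, 1, 0, 3, 4, 3, 4, 3, 0, 1, 0, 1, 4], [1, 0, 1, 0, 2, 3, 2, 3, 2, 0, 1, 0, 1, 3], [1, 0, 2, 1, 0, 4, 2, 4, 2, 4, 2, 4], [0, 1, 2, 0, 1, 4, 2, 4, 2, 4, 2, 4], [3, 2, 3, 2, 4, 3, 4, 3, 4, 2], [1, 2, 4, 2, 4, 1, 2, 3, 0, 2, 4, 2, 4, 0, 2, 3, 2, 0, 2, 4, 2, 4, 0, 3], [1, 3, 0, 1, 2, 3, 0, 2, 4, 2, 4, 0, 3, 2, 0, 2, 4, 2, 4, 0, 3, 0, 2, 4, 2, 4], [0, 1, 2, 0, 1, 0, 2, 4,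 2, 4, 0, 3, 0, 2, 4, 2, 4, 0, 2, 3, 2, 0, 2, 4, 2, 4, 0, 3], [1, 0, 1, 0, 1, 0, 3, 4, 0, 2, 4, 2, 4, 0, 3, 4, 0, 2, 4, 2, 4, 0, 3, 4, 0, 2, 4, 2, 4, 0], [1, 0, 1, 0, 3, 0, 2, 4, 2, 4, 0, 4, 0, 2, 4, 2, 4, 0, 4, 2, 4, 2, 4, 3], [1, 0, 1, 0, 3, 4, 3, 0, 2, 4, 2, 4, 0, 2, 4, 2, 0, 2, 4, 2, 4, 0, 3, 4], [1, 0, 1, 0, 3, 4, 2, 4, 2, 4, 0, 2, 4, 2, 4, 0, 4, 0, 2, 4, 2, 4, 0, 3], [5, 3, 5, 3, 5, 3], [5, 2, 4, 5, 2, 4], [5, 4, 2, 5, 4, 2], [1, 0, 5, 1, 0, 5, 0, 1, 5, 0, 1, 5], [1, 0, 5, 3, 5, 3, 5, 1, 0, 3], [1, 0, 5, 2, 5, 0, 1, 5, 4, 5], [1, 0, 5, 2, 4, 5, 0, 1, 2, 4], [1, 0, 5, 4, 2, 5, 0, 1, 4, 2], [1, 0, 5, 4, 2, 5, 4, 1, 0, 2], [1, 0, 2, 1, 0, 4, 5, 2, 4, 5], [5, 3, 2, 5, 2, 3, 5, 2, 5, 2, 3, 2, 5, 2, 3], [5, 3, 2, 5, 4, 5, 3, 2, 5, 4, 5, 3, 4, 5, 2], [5, 3, 2, 5, 4, 5, 3, 4, 5, 2, 5, 3, 4, 5, 2], [5, 3, 2, 0, 1, 4, 2, 4, 3, 5, 2, 3, 4, 2, 3, 4], [5, 3, 2, 4, 0, 1, 2, 4, 3, 5, 4, 3, 2, 4, 3, 2], [5, 3, 4, 2, 0, 1, 4, 2, 3, 5, 4, 3, 2, 4, 3, 2], [5, 3, 4, 2, 3, 5, 2, 3, 2,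 4, 2, 4, 3, 2, 0, 1], [5, 3, 4, 2, 3, 5, 2, 3, 4, 2, 4, 2, 0, 1, 3, 2], [5, 3, 4, 2, 3, 5, 2, 3, 4, 2, 4, 2, 3, 2, 0, 1], [5, 3, 4, 2, 3, 5, 4, 3, 2, 4, 2, 3, 4, 3, 0, 1], [5, 3, 4, 2, 3, 5, 4, 3, 2, 4, 2, 4, 0, 1, 3, 4], [5, 3, 4, 2, 3, 0, 1, 0, 1, 5, 2, 3, 0, 1, 3, 4, 2, 4], [5, 3, 4, 2, 3, 2, 5, 2, 5, 2, 0, 1, 0, 1, 5, 2, 0, 1], [5, 0, 1, 0, 1, 5, 3, 2, 4, 2, 4, 3], [3, 4, 2, 5, 3, 2, 0, 2, 4, 2, 4, 0, 2, 3, 5, 2, 4, 3, 4], [5, 2, 4, 3, 0, 1, 0, 1, 3, 4, 2, 5, 3, 2, 4, 2, 4, 3], [5, 3, 2, 0, 2, 4, 2, 4, 0, 2, 3, 5, 2, 3, 2], [0, 1, 0, 1, 4, 0, 1, 0, 1, 4], [0, 1, 0, 1, 3, 0, 1, 0, 1, 3], [3, 2, 3, 2, 3, 4, 2, 4, 2, 4, 2, 4], [3, 2, 3, 4, 3, 2, 4, 3, 4, 2, 3, 4], [3, 2, 3, 4, 2, 3, 2, 4, 2, 3, 2, 4], [0, 2, 3, 0, 3, 2], [0, 2, 0, 2], [0, 4, 0, 4, 0, 4, 1, 0], [0, 3, 0, 3], [5, 0, 5, 2, 4, 3, 0, 4, 0, 2, 3, 0, 4, 0, 3, 4, 2, 5, 0, 5, 2, 4, 2, 3, 1, 4, 3, 2, 0, 4, 2, 0]]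
  subs := [[0], [1], [2], [3], [4]]
  tab := tab
  par := par
  fact := fact
  nfact := 1156

/-- justifications -/
noncomputable def just0 : List Cert.Just :=
  [.define,
   .define,
   .loop (some (31, 2)) [.bwd 0, .edge 2, .edge 4, .fwd 0, .fwd 1],
   .loop (some (56, 13)) [.bwd 1, .bwd 0, .edge 3, .edge 2, .edge 0, .edge 2, .edge 4, .edge 2, .edge 4, .edge 0, .edge 2, .edge 3, .fwd 0, .fwd 1],
   .define,
   .loop (some (46, 15)) [.bwd 0, .edge 3, .edge 4, .edge 2, .edge 3, .fwd 0, .fwd 1, .fwd 3, .bwd 1, .bwd 2, .bwd 1, .bwd 2, .fwd 3, .bwd 1, .fwd 4],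
   .define,
   .loop (some (2, 1)) [.bwd 1, .bwd 5, .bwd 4, .fwd 1, .fwd 6],
   .loop (some (63, 3)) [.fwd 7, .bwd 1, .fwd 4],
   .loop (some (65, 3)) [.fwd 7, .fwd 3, .bwd 7],
   .define,
   .loop (some (11, 1)) [.bwd 10, .fwd 1, .fwd 3, .bwd 1, .fwd 10],
   .loop (some (12, 1)) [.bwd 10, .bwd 2, .fwd 3, .fwd 2, .fwd 10],
   .loop (some (30, 2)) [.bwd 10, .bwd 0, .edge 3, .fwd 0, .fwd 10],
   .define,
   .loop (some (1, 1)) [.bwd 10, .bwd 5, .bwd 4, .fwd 10, .fwd 14],
   .loop (some (62, 2)) [.fwd 15, .bwd 10, .fwd 1, .bwd 7, .bwd 8],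
   .loop (some (63, 3)) [.fwd 15, .fwd 11, .bwd 15],
   .define,
   .loop (some (40, 7)) [.bwd 18, .bwd 1, .fwd 10, .fwd 11, .fwd 13, .fwd 11, .bwd 10, .bwd 0, .edge 3, .edge 2, .fwd 0, .fwd 1, .fwd 3, .fwd 18],
   .loop (some (41, 4)) [.bwd 18, .fwd 3, .bwd 1, .bwd 0, .edge 4, .fwd 0, .fwd 10, .fwd 12, .fwd 13, .fwd 11, .fwd 13, .bwd 10, .fwd 1, .fwd 18],
   .define,
   .loop (some (35, 0)) [.bwd 21, .bwd 18, .bwd 1, .bwd 0, .edge 0, .edge 1, .fwd 0, .bwd 2, .fwd 18],
   .loop (some (63, 1)) [.bwd 21, .fwd 19, .fwd 21],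
   .define,
   .loop (some (54, 9)) [.bwd 24, .fwd 15, .fwd 11, .bwd 10, .bwd 0, .edge 2, .edge 4, .edge 3, .edge 4, .edge 3, .edge 4, .edge 2, .fwd 0, .fwd 10, .fwd 11, .bwd 15, .fwd 17, .fwd 24],
   .loop (some (64, 2)) [.bwd 24, .fwd 15, .fwd 12, .fwd 14, .fwd 15, .bwd 15, .fwd 24],
   .loop (some (64, 6)) [.fwd 26, .fwd 26, .bwd 24, .fwd 15, .fwd 12, .bwd 15, .fwd 24],
   .define,
   .define,
   .loop (some (12, 2)) [.bwd 29, .bwd 28, .fwd 20, .fwd 28, .fwd 29],
   .loop (some (43, 13)) [.bwd 28, .fwd 20, .bwd 18, .fwd 3, .bwd 1, .fwd 4, .fwd 5, .bwd 2, .bwd 1, .bwd 2, .fwd 3, .fwd 18, .fwd 19, .fwd 28, .fwd 29],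
   .loop (some (40, 3)) [.fwd 31, .bwd 28, .bwd 18, .bwd 1, .bwd 0, .edge 2, .edge 3, .edge 2, .fwd 0, .fwd 1, .fwd 3, .fwd 18, .fwd 28, .bwd 31],
   .define,
   .loop (some (65, 1)) [.bwd 33, .fwd 30, .fwd 33],
   .define,
   .loop (some (1, 0)) [.bwd 35, .bwd 28, .fwd 22, .bwd 21, .fwd 28],
   .loop (some (62, 1)) [.fwd 34, .bwd 33, .fwd 30, .fwd 31, .fwd 35],
   .loop (some (62, 4)) [.fwd 23, .bwd 21, .fwd 19, .fwd 28, .fwd 35],
   .define,
   .define,
   .loop (some (3, 1)) [.bwd 39, .fwd 5, .fwd 4, .fwd 39, .fwd 40],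
   .loop (some (64, 1)) [.fwd 7, .fwd 2, .fwd 4, .fwd 39, .fwd 40, .fwd 41, .bwd 41],
   .define,
   .loop (some (54, 10)) [.bwd 33, .fwd 31, .bwd 28, .bwd 18, .bwd 1, .bwd 2, .fwd 3, .fwd 2, .fwd 10, .fwd 12, .fwd 11, .fwd 13, .bwd 10, .fwd 1, .bwd 7, .bwd 8, .fwd 39, .fwd 43],
   .define,
   .loop (some (17, 1)) [.fwd 37, .bwd 44, .bwd 43, .bwd 39, .fwd 8, .bwd 42, .fwd 45],
   .loop (some (27, 17)) [.fwd 46, .fwd 37, .bwd 44, .bwd 43, .bwd 39, .fwd 16, .bwd 14, .bwd 15, .bwd 14, .bwd 15, .bwd 16, .bwd 4, .fwd 1, .fwd 2, .fwd 1, .fwd 2, .fwd 4, .fwd 39, .bwd 41, .fwd 45, .fwd 46, .fwd 37, .bwd 44],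
   .loop (some (3, 0)) [.fwd 47, .fwd 46, .bwd 36, .fwd 35, .bwd 46],
   .define,
   .loop (some (62, 3)) [.bwd 49, .fwd 25, .fwd 26, .fwd 25, .fwd 49],
   .loop (some (1, 0)) [.fwd 50, .bwd 49, .fwd 27, .fwd 26, .fwd 49],
   .define,
   .loop (some (12, 2)) [.bwd 39, .fwd 16, .fwd 24, .fwd 49, .fwd 52],
   .define,
   .loop (some (1, 1)) [.fwd 53, .fwd 40, .fwd 41, .bwd 53, .fwd 54],
   .loop (some (64, 1)) [.fwd 55, .bwd 52, .fwd 50, .fwd 52, .fwd 54, .fwd 55, .bwd 55],
   .loop (some (62, 2)) [.fwd 55, .fwd 53, .fwd 43, .fwd 47, .bwd 45],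
   .define,
   .loop (some (23, 3)) [.bwd 58, .bwd 22, .fwd 19, .fwd 28, .fwd 35, .fwd 37, .bwd 44, .bwd 43, .bwd 39, .bwd 4, .fwd 1, .fwd 3, .bwd 1, .fwd 4, .fwd 8, .bwd 42, .fwd 45, .fwd 46, .bwd 35, .bwd 28, .fwd 22, .fwd 23, .fwd 58],
   .loop (some (64, 2)) [.bwd 58, .bwd 21, .fwd 20, .fwd 22, .bwd 21, .fwd 21, .fwd 58],
   .define,
   .loop (some (26, 10)) [.bwd 61, .fwd 56, .fwd 55, .fwd 53, .bwd 39, .bwd 4, .fwd 1, .fwd 2, .fwd 1, .fwd 2, .fwd 4, .fwd 16, .fwd 24, .fwd 26, .fwd 25, .bwd 24, .fwd 17, .fwd 24, .fwd 26, .fwd 27, .fwd 26, .fwd 27, .fwd 26, .fwd 27, .fwd 26, .fwd 49, .fwd 52, .bwd 55, .fwd 61],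
   .define,
   .loop (some (2, 0)) [.bwd 63, .bwd 61, .bwd 54, .bwd 55, .fwd 61],
   .loop (some (62, 1)) [.fwd 53, .bwd 41, .fwd 57, .fwd 61, .fwd 63],
   .define,
   .loop (some (60, 11)) [.bwd 66, .fwd 65, .fwd 53, .bwd 39, .fwd 16, .fwd 17, .fwd 24, .fwd 49, .fwd 52, .bwd 65, .fwd 66],
   .define,
   .loop (some (11, 2)) [.bwd 43, .bwd 53, .bwd 65, .fwd 66, .fwd 68],
   .loop (some (22, 4)) [.fwd 69, .fwd 44, .fwd 34, .bwd 44, .bwd 43, .bwd 53, .bwd 65, .fwd 66, .fwd 68],
   .define,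
   .loop (some (1, 1)) [.fwd 69, .bwd 48, .bwd 47, .bwd 69, .fwd 71],
   .loop (some (62, 2)) [.fwd 72, .fwd 69, .bwd 43, .bwd 41, .fwd 45],
   .define,
   .loop (some (12, 1)) [.bwd 73, .fwd 46, .fwd 38, .fwd 58, .fwd 74],
   .loop (some (62, 3)) [.bwd 74, .fwd 59, .fwd 60, .fwd 59, .fwd 74],
   .loop (some (3, 0)) [.fwd 76, .fwd 75, .bwd 71, .bwd 72, .bwd 75],
   .define,
   .loop (some (12, 2)) [.bwd 78, .fwd 66, .fwd 67, .bwd 66, .fwd 78],
   .loop (some (23, 3)) [.fwd 75, .bwd 71, .bwd 68, .bwd 66, .bwd 63, .bwd 61, .fwd 56, .fwd 61, .fwd 62, .fwd 63, .fwd 65, .fwd 53, .fwd 43, .fwd 47, .bwd 45, .fwd 42, .bwd 8, .fwd 39, .bwd 41, .fwd 57, .bwd 54, .bwd 65, .fwd 78],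
   .loop (some (64, 2)) [.bwd 78, .bwd 63, .fwd 62, .fwd 64, .bwd 63, .fwd 63, .fwd 78],
   .define,
   .loop (some (11, 2)) [.bwd 61, .bwd 57, .fwd 45, .fwd 73, .fwd 82],
   .loop (some (23, 0)) [.bwd 82, .bwd 75, .bwd 80, .bwd 78, .bwd 64, .bwd 61, .bwd 57, .fwd 41, .fwd 43, .fwd 44, .bwd 37, .bwd 46, .bwd 47, .bwd 43, .bwd 53, .bwd 65, .bwd 63, .bwd 61, .fwd 56, .fwd 61, .fwd 62, .fwd 63, .fwd 66],
   .loop (some (23, 17)) [.bwd 82, .bwd 75, .bwd 80, .bwd 78, .bwd 63, .bwd 83, .bwd 84, .fwd 68, .fwd 70, .bwd 68, .fwd 67, .fwd 84, .bwd 82, .bwd 73, .bwd 47, .bwd 43, .bwd 39, .fwd 8, .bwd 42, .fwd 41, .fwd 43, .bwd 69, .bwd 68],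
   .define,
   .loop (some (17, 2)) [.fwd 52, .bwd 65, .fwd 78, .fwd 80, .fwd 75, .fwd 82, .fwd 86],
   .loop (some (23, 13)) [.fwd 87, .bwd 49, .fwd 25, .fwd 26, .fwd 25, .bwd 24, .fwd 17, .fwd 24, .fwd 26, .fwd 49, .fwd 51, .bwd 87, .bwd 86, .bwd 82, .bwd 75, .fwd 77, .bwd 80, .fwd 79, .fwd 81, .fwd 80, .fwd 75, .fwd 82, .fwd 86],
   .define,
   .loop (some (66, 18)) [.bwd 89, .fwd 8, .bwd 42, .fwd 45, .fwd 73, .bwd 71, .fwd 70, .fwd 69, .bwd 43, .bwd 41, .fwd 42, .bwd 8, .bwd 4, .bwd 0, .edge 0, .fwd 0, .fwd 1, .fwd 2, .fwd 10, .bwd 15, .fwd 24, .fwd 26, .fwd 25, .fwd 49, .fwd 50, .fwd 52, .bwd 55, .bwd 57, .fwd 42, .bwd 8, .fwd 89],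
   .define,
   .loop (some (66, 1)) [.bwd 91, .bwd 80, .bwd 78, .fwd 66, .fwd 85, .fwd 86, .fwd 88, .fwd 87, .bwd 49, .fwd 26, .bwd 24, .fwd 15, .bwd 10, .bwd 2, .bwd 1, .bwd 0, .edge 0, .fwd 0, .fwd 1, .fwd 2, .fwd 1, .fwd 3, .fwd 6, .bwd 42, .fwd 57, .fwd 61, .fwd 63, .fwd 78, .fwd 80, .fwd 76, .fwd 91],
   .define,
   .loop (some (56, 13)) [.bwd 93, .bwd 89, .fwd 16, .fwd 17, .fwd 15, .fwd 11, .fwd 12, .fwd 11, .fwd 12, .bwd 15, .fwd 17, .bwd 16, .fwd 89, .fwd 93],
   .loop (some (62, 3)) [.fwd 94, .bwd 93, .fwd 90, .fwd 93, .fwd 94],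
   .define,
   .loop (some (31, 3)) [.bwd 43, .bwd 39, .fwd 89, .fwd 93, .fwd 96],
   .define,
   .define,
   .loop (some (31, 2)) [.bwd 89, .fwd 8, .bwd 42, .fwd 98, .fwd 99],
   .define,
   .loop (some (43, 11)) [.fwd 100, .fwd 93, .fwd 94, .fwd 96, .fwd 97, .bwd 69, .bwd 68, .fwd 85, .bwd 84, .fwd 67, .fwd 68, .fwd 70, .fwd 69, .bwd 97, .fwd 101],
   .define,
   .loop (some (31, 3)) [.fwd 37, .bwd 44, .bwd 97, .fwd 101, .fwd 103],
   .define,
   .loop (some (17, 1)) [.fwd 99, .fwd 100, .fwd 93, .fwd 96, .fwd 101, .fwd 103, .fwd 105],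
   .loop (some (43, 11)) [.fwd 106, .fwd 99, .bwd 102, .fwd 103, .fwd 104, .fwd 38, .fwd 23, .bwd 21, .fwd 22, .fwd 58, .fwd 59, .bwd 58, .bwd 38, .bwd 104, .fwd 105],
   .loop (some (46, 15)) [.bwd 91, .bwd 74, .bwd 58, .fwd 23, .bwd 38, .bwd 104, .fwd 105, .fwd 107, .bwd 105, .bwd 103, .bwd 101, .bwd 96, .fwd 94, .bwd 93, .fwd 90],
   .define,
   .loop (some (2, 3)) [.fwd 95, .bwd 93, .fwd 108, .fwd 92, .fwd 109],
   .loop (some (2, 1)) [.bwd 109, .bwd 108, .fwd 90, .fwd 93, .bwd 110],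
   .loop (some (47, 14)) [.bwd 109, .bwd 91, .bwd 74, .bwd 58, .fwd 23, .bwd 38, .bwd 104, .fwd 105, .fwd 107, .fwd 106, .fwd 99, .fwd 100, .fwd 93, .fwd 95, .bwd 110],
   .define,
   .loop (some (31, 3)) [.bwd 82, .bwd 75, .fwd 91, .fwd 109, .fwd 113],
   .define,
   .loop (some (3, 1)) [.bwd 96, .bwd 110, .fwd 111, .fwd 113, .fwd 115],
   .define,
   .loop (some (3, 0)) [.bwd 117, .bwd 113, .fwd 110, .fwd 95, .fwd 96],
   .define,
   .loop (some (63, 2)) [.bwd 101, .bwd 116, .fwd 119],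
   .define,
   .loop (some (2, 3)) [.fwd 120, .bwd 101, .fwd 118, .bwd 117, .fwd 121],
   .define,
   .loop (some (31, 3)) [.bwd 87, .bwd 86, .bwd 114, .fwd 121, .fwd 123],
   .define,
   .loop (some (36, 0)) [.bwd 125, .fwd 104, .fwd 37, .bwd 44, .bwd 97, .bwd 116, .bwd 115, .fwd 121, .fwd 123],
   .define,
   .loop (some (3, 0)) [.bwd 127, .bwd 123, .fwd 122, .fwd 120, .fwd 103],
   .define,
   .loop (some (43, 11)) [.bwd 129, .fwd 109, .fwd 112, .fwd 113, .fwd 114, .fwd 83, .bwd 61, .fwd 55, .fwd 54, .fwd 56, .fwd 61, .fwd 62, .bwd 83, .bwd 114, .fwd 121],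
   .define,
   .loop (some (3, 0)) [.bwd 131, .fwd 100, .fwd 108, .fwd 92, .fwd 129],
   .loop (some (62, 4)) [.bwd 119, .fwd 116, .fwd 101, .fwd 102, .fwd 131],
   .define,
   .loop (some (1, 1)) [.bwd 130, .fwd 122, .fwd 120, .fwd 102, .fwd 134],
   .loop (some (64, 1)) [.bwd 131, .fwd 100, .fwd 90, .bwd 100, .fwd 134, .fwd 135, .bwd 135],
   .define,
   .loop (some (31, 1)) [.bwd 129, .bwd 91, .bwd 80, .bwd 78, .fwd 137],
   .define,
   .loop (some (2, 0)) [.bwd 139, .fwd 99, .fwd 134, .fwd 135, .bwd 138],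
   .loop (some (62, 1)) [.fwd 133, .fwd 120, .fwd 102, .bwd 99, .fwd 139],
   .define,
   .loop (some (2, 1)) [.fwd 138, .fwd 132, .bwd 131, .bwd 99, .fwd 142],
   .loop (some (2, 5)) [.bwd 142, .fwd 139, .fwd 141, .bwd 132, .bwd 135],
   .define,
   .loop (some (17, 2)) [.bwd 123, .bwd 121, .bwd 113, .bwd 109, .fwd 129, .bwd 138, .fwd 145],
   .loop (some (43, 11)) [.bwd 145, .fwd 138, .bwd 130, .fwd 123, .fwd 124, .bwd 49, .fwd 25, .fwd 26, .fwd 27, .bwd 24, .fwd 17, .fwd 24, .fwd 49, .bwd 124, .bwd 146],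
   .define,
   .loop (some (2, 0)) [.bwd 148, .bwd 105, .fwd 128, .bwd 127, .bwd 146]]

/-- justifications -/
noncomputable def just1 : List Cert.Just :=
  [.loop (some (63, 1)) [.bwd 125, .fwd 105, .fwd 148],
   .loop (some (65, 1)) [.bwd 148, .fwd 107, .fwd 148],
   .define,
   .loop (some (1, 0)) [.bwd 152, .fwd 147, .fwd 149, .bwd 148, .fwd 107],
   .loop (some (2, 2)) [.bwd 128, .fwd 125, .bwd 150, .bwd 149, .fwd 152],
   .define,
   .loop (some (11, 1)) [.bwd 155, .bwd 146, .fwd 147, .fwd 146, .fwd 155],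
   .define,
   .loop (some (12, 2)) [.fwd 129, .bwd 130, .fwd 123, .fwd 155, .fwd 157],
   .loop (some (22, 3)) [.bwd 157, .bwd 155, .bwd 123, .fwd 130, .bwd 129, .fwd 109, .fwd 112, .bwd 109, .bwd 158],
   .loop (some (62, 0)) [.fwd 159, .fwd 158, .fwd 92, .bwd 158, .fwd 159],
   .define,
   .loop (some (1, 3)) [.fwd 160, .fwd 158, .bwd 108, .fwd 90, .fwd 161],
   .loop (some (1, 1)) [.bwd 161, .fwd 108, .fwd 92, .bwd 158, .bwd 162],
   .loop (some (11, 1)) [.bwd 161, .fwd 93, .fwd 94, .bwd 93, .fwd 161],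
   .define,
   .loop (some (11, 1)) [.bwd 165, .fwd 105, .fwd 107, .bwd 105, .fwd 165],
   .loop (some (12, 1)) [.bwd 161, .bwd 100, .bwd 102, .fwd 103, .fwd 165],
   .define,
   .loop (some (1, 0)) [.bwd 168, .bwd 165, .fwd 128, .bwd 127, .fwd 155],
   .loop (some (62, 4)) [.bwd 150, .bwd 148, .bwd 105, .fwd 165, .fwd 168],
   .loop (some (63, 1)) [.bwd 168, .fwd 166, .fwd 168],
   .define,
   .loop (some (1, 2)) [.bwd 128, .fwd 125, .bwd 170, .bwd 169, .fwd 172],
   .loop (some (1, 0)) [.bwd 172, .bwd 155, .fwd 126, .bwd 125, .fwd 165],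
   .loop (some (2, 2)) [.bwd 174, .fwd 168, .fwd 171, .bwd 169, .fwd 172],
   .loop (some (64, 1)) [.bwd 168, .fwd 167, .fwd 163, .bwd 167, .fwd 174, .bwd 172, .fwd 172],
   .define,
   .define,
   .loop (some (30, 2)) [.bwd 16, .fwd 89, .fwd 161, .fwd 177, .fwd 178],
   .define,
   .loop (some (56, 13)) [.bwd 180, .fwd 179, .bwd 16, .fwd 8, .fwd 7, .bwd 1, .bwd 2, .bwd 1, .bwd 2, .bwd 7, .bwd 8, .fwd 16, .bwd 179, .fwd 180],
   .loop (some (11, 3)) [.fwd 178, .fwd 180, .fwd 181, .bwd 180, .bwd 178],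
   .loop (some (56, 0)) [.fwd 170, .bwd 150, .bwd 148, .bwd 105, .bwd 103, .bwd 101, .bwd 96, .fwd 95, .bwd 93, .fwd 161, .fwd 177, .fwd 182, .fwd 178, .fwd 180],
   .loop (some (30, 2)) [.bwd 170, .bwd 183, .fwd 181, .fwd 183, .fwd 170],
   .define,
   .loop (some (31, 5)) [.bwd 185, .fwd 175, .fwd 176, .bwd 183, .bwd 180],
   .define,
   .loop (some (31, 3)) [.fwd 25, .bwd 24, .bwd 179, .fwd 180, .fwd 187],
   .loop (some (31, 1)) [.bwd 187, .fwd 183, .fwd 171, .bwd 176, .fwd 185],
   .define,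
   .loop (some (12, 1)) [.bwd 190, .bwd 187, .fwd 181, .fwd 187, .fwd 190],
   .loop (some (30, 2)) [.bwd 155, .fwd 124, .bwd 49, .bwd 188, .fwd 190],
   .define,
   .loop (some (31, 0)) [.bwd 193, .fwd 191, .fwd 192, .fwd 156, .fwd 157],
   .define,
   .loop (some (30, 2)) [.fwd 74, .fwd 91, .bwd 158, .fwd 194, .fwd 195],
   .define,
   .loop (some (11, 1)) [.bwd 195, .bwd 193, .bwd 190, .bwd 189, .fwd 197],
   .define,
   .loop (some (31, 3)) [.fwd 23, .fwd 58, .bwd 196, .bwd 198, .fwd 199],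
   .define,
   .loop (some (12, 1)) [.fwd 178, .fwd 186, .fwd 197, .fwd 199, .fwd 201],
   .loop (some (30, 2)) [.bwd 165, .fwd 104, .fwd 38, .bwd 200, .fwd 201],
   .loop (some (41, 2)) [.fwd 203, .fwd 167, .fwd 177, .fwd 178, .fwd 180, .fwd 183, .bwd 176, .fwd 185, .fwd 197, .fwd 199, .fwd 200, .fwd 23, .bwd 200, .fwd 201],
   .define,
   .loop (some (11, 2)) [.bwd 205, .fwd 201, .fwd 204, .bwd 201, .fwd 205],
   .loop (some (31, 2)) [.fwd 196, .fwd 59, .bwd 58, .bwd 200, .fwd 205],
   .define,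
   .define,
   .loop (some (46, 0)) [.bwd 57, .fwd 42, .bwd 8, .fwd 16, .bwd 179, .fwd 180, .fwd 181, .bwd 180, .fwd 186, .fwd 189, .bwd 187, .fwd 181, .bwd 180, .fwd 208, .fwd 209],
   .define,
   .loop (some (51, 8)) [.fwd 200, .fwd 23, .bwd 38, .bwd 35, .fwd 36, .fwd 38, .fwd 58, .fwd 59, .bwd 58, .bwd 200, .fwd 201, .fwd 202, .fwd 182, .fwd 178, .fwd 208, .fwd 209, .fwd 211],
   .define,
   .loop (some (65, 2)) [.fwd 178, .fwd 208, .fwd 213],
   .loop (some (62, 5)) [.fwd 214, .fwd 182, .fwd 178, .fwd 208, .fwd 213],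
   .define,
   .loop (some (1, 3)) [.bwd 214, .bwd 213, .fwd 209, .fwd 211, .fwd 216],
   .define,
   .loop (some (1, 2)) [.bwd 209, .bwd 208, .bwd 178, .bwd 217, .fwd 218],
   .define,
   .loop (some (1, 1)) [.bwd 201, .bwd 212, .bwd 211, .bwd 219, .fwd 220],
   .loop (some (3, 5)) [.fwd 220, .fwd 221, .fwd 202, .bwd 217, .fwd 218],
   .loop (some (9, 9)) [.bwd 220, .bwd 218, .fwd 217, .bwd 214, .fwd 215, .fwd 214, .bwd 217, .fwd 218, .fwd 220],
   .define,
   .loop (some (2, 5)) [.bwd 224, .fwd 214, .fwd 182, .bwd 217, .fwd 218],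
   .loop (some (10, 9)) [.bwd 224, .fwd 214, .bwd 217, .fwd 218, .fwd 222, .bwd 218, .fwd 217, .bwd 214, .fwd 224],
   .define,
   .loop (some (43, 1)) [.bwd 225, .bwd 218, .fwd 217, .bwd 202, .fwd 204, .fwd 202, .fwd 178, .fwd 179, .fwd 17, .bwd 16, .fwd 39, .fwd 43, .bwd 69, .fwd 70, .fwd 227],
   .define,
   .loop (some (1, 1)) [.fwd 228, .bwd 224, .fwd 214, .fwd 178, .fwd 229],
   .define,
   .loop (some (0, 2)) [.bwd 230, .bwd 229, .fwd 208, .fwd 209, .fwd 211, .fwd 212, .fwd 231],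
   .loop (some (1, 2)) [.bwd 220, .bwd 218, .bwd 216, .fwd 212, .fwd 231],
   .define,
   .loop (some (0, 2)) [.bwd 221, .bwd 220, .bwd 218, .fwd 217, .bwd 214, .fwd 224, .fwd 234],
   .loop (some (1, 2)) [.bwd 229, .fwd 208, .fwd 213, .fwd 224, .fwd 234],
   .loop (some (2, 2)) [.fwd 217, .bwd 214, .fwd 215, .fwd 224, .fwd 234],
   .define,
   .loop (some (12, 1)) [.bwd 238, .bwd 106, .fwd 107, .fwd 106, .fwd 238],
   .loop (some (30, 2)) [.fwd 219, .fwd 210, .bwd 57, .fwd 98, .fwd 238],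
   .define,
   .loop (some (11, 2)) [.fwd 101, .fwd 102, .bwd 99, .fwd 238, .fwd 241],
   .loop (some (22, 4)) [.fwd 242, .bwd 96, .fwd 94, .fwd 96, .fwd 101, .fwd 102, .bwd 99, .fwd 238, .fwd 241],
   .loop (some (31, 3)) [.bwd 225, .fwd 222, .bwd 240, .fwd 241, .fwd 243],
   .define,
   .define,
   .loop (some (11, 2)) [.fwd 138, .bwd 130, .bwd 121, .fwd 245, .fwd 246],
   .loop (some (22, 4)) [.fwd 247, .fwd 145, .fwd 147, .bwd 145, .fwd 138, .bwd 130, .bwd 121, .fwd 245, .fwd 246],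
   .define,
   .loop (some (1, 0)) [.bwd 249, .bwd 238, .fwd 142, .fwd 143, .bwd 247],
   .define,
   .loop (some (1, 0)) [.bwd 251, .fwd 247, .fwd 140, .bwd 139, .fwd 238],
   .define,
   .loop (some (11, 2)) [.bwd 253, .fwd 213, .fwd 215, .bwd 213, .fwd 253],
   .loop (some (62, 3)) [.fwd 181, .bwd 180, .fwd 208, .fwd 253, .fwd 254],
   .define,
   .loop (some (2, 3)) [.fwd 255, .bwd 180, .fwd 229, .fwd 230, .fwd 256],
   .define,
   .loop (some (11, 1)) [.bwd 219, .fwd 225, .bwd 228, .fwd 256, .fwd 258],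
   .define,
   .loop (some (1, 0)) [.bwd 260, .bwd 258, .fwd 257, .fwd 255, .fwd 181],
   .loop (some (62, 1)) [.fwd 216, .fwd 218, .fwd 219, .bwd 259, .fwd 260],
   .define,
   .loop (some (2, 1)) [.bwd 256, .bwd 232, .bwd 231, .fwd 205, .fwd 263],
   .loop (some (1, 2)) [.bwd 261, .bwd 255, .fwd 254, .bwd 257, .bwd 264],
   .loop (some (2, 2)) [.bwd 229, .fwd 208, .fwd 253, .bwd 257, .bwd 264],
   .define,
   .loop (some (0, 1)) [.fwd 263, .fwd 264, .fwd 257, .fwd 255, .fwd 261, .bwd 260, .fwd 267],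
   .loop (some (1, 5)) [.bwd 267, .fwd 260, .bwd 265, .bwd 263, .bwd 268],
   .loop (some (2, 5)) [.bwd 267, .fwd 260, .fwd 262, .fwd 212, .fwd 231],
   .define,
   .loop (some (31, 3)) [.bwd 61, .fwd 56, .bwd 210, .bwd 259, .fwd 271],
   .define,
   .loop (some (12, 2)) [.bwd 273, .bwd 219, .fwd 222, .fwd 219, .fwd 273],
   .loop (some (23, 3)) [.bwd 271, .fwd 267, .bwd 270, .fwd 233, .fwd 221, .fwd 204, .fwd 202, .fwd 182, .bwd 202, .bwd 221, .fwd 223, .bwd 233, .fwd 270, .fwd 268, .bwd 205, .bwd 199, .fwd 198, .bwd 207, .bwd 268, .fwd 269, .bwd 267, .fwd 259, .fwd 273],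
   .define,
   .loop (some (3, 0)) [.bwd 276, .fwd 199, .bwd 212, .bwd 211, .fwd 273],
   .define,
   .loop (some (3, 0)) [.bwd 278, .bwd 187, .fwd 261, .bwd 260, .fwd 271],
   .define,
   .loop (some (1, 1)) [.fwd 274, .fwd 277, .bwd 276, .bwd 197, .fwd 280],
   .loop (some (65, 3)) [.fwd 281, .fwd 274, .bwd 281],
   .define,
   .loop (some (2, 1)) [.bwd 275, .fwd 277, .bwd 276, .fwd 198, .fwd 283],
   .loop (some (62, 5)) [.fwd 284, .bwd 275, .fwd 274, .bwd 281, .fwd 282],
   .define,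
   .loop (some (31, 5)) [.bwd 286, .fwd 68, .fwd 70, .fwd 227, .fwd 256],
   .define,
   .loop (some (3, 1)) [.bwd 287, .fwd 257, .fwd 255, .fwd 187, .fwd 288],
   .define,
   .loop (some (0, 2)) [.bwd 289, .bwd 288, .fwd 278, .bwd 279, .bwd 284, .bwd 283, .fwd 290],
   .loop (some (2, 2)) [.bwd 277, .bwd 281, .fwd 285, .bwd 283, .fwd 290],
   .define,
   .loop (some (23, 4)) [.bwd 232, .fwd 270, .fwd 269, .fwd 268, .bwd 205, .bwd 199, .fwd 198, .bwd 207, .bwd 268, .bwd 270, .fwd 233, .fwd 223, .fwd 221, .fwd 204, .fwd 202, .fwd 182, .bwd 202, .bwd 221, .bwd 233, .fwd 232, .fwd 256, .fwd 287, .fwd 293],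
   .loop (some (40, 10)) [.bwd 293, .bwd 286, .fwd 68, .fwd 69, .bwd 97, .bwd 242, .bwd 241, .fwd 240, .fwd 225, .bwd 228, .bwd 227, .bwd 68, .fwd 286, .fwd 293],
   .define,
   .loop (some (2, 0)) [.bwd 296, .bwd 293, .bwd 291, .bwd 290, .bwd 198],
   .loop (some (63, 1)) [.fwd 289, .fwd 293, .fwd 296],
   .loop (some (65, 1)) [.bwd 296, .fwd 295, .fwd 296]]

/-- justifications -/
noncomputable def just2 : List Cert.Just :=
  [.define,
   .loop (some (0, 1)) [.fwd 280, .fwd 281, .fwd 277, .bwd 276, .fwd 297, .bwd 296, .fwd 300],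
   .loop (some (1, 5)) [.bwd 300, .fwd 296, .fwd 299, .bwd 297, .fwd 276],
   .loop (some (2, 5)) [.bwd 300, .fwd 296, .fwd 298, .bwd 288, .fwd 278],
   .define,
   .loop (some (11, 1)) [.bwd 304, .bwd 275, .fwd 274, .fwd 275, .fwd 304],
   .loop (some (30, 2)) [.bwd 245, .fwd 114, .fwd 83, .bwd 272, .fwd 304],
   .define,
   .loop (some (11, 1)) [.bwd 307, .fwd 293, .fwd 295, .bwd 293, .fwd 307],
   .loop (some (12, 1)) [.bwd 304, .bwd 271, .bwd 258, .fwd 287, .fwd 307],
   .define,
   .loop (some (1, 0)) [.bwd 310, .fwd 195, .fwd 283, .fwd 284, .fwd 304],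
   .loop (some (62, 4)) [.fwd 292, .bwd 276, .fwd 198, .bwd 195, .fwd 310],
   .define,
   .loop (some (1, 0)) [.bwd 313, .bwd 307, .bwd 291, .bwd 290, .bwd 195],
   .loop (some (62, 4)) [.bwd 298, .bwd 296, .bwd 293, .fwd 307, .fwd 313],
   .loop (some (63, 1)) [.bwd 313, .fwd 308, .fwd 313],
   .define,
   .loop (some (1, 2)) [.bwd 283, .fwd 290, .bwd 312, .bwd 311, .fwd 317],
   .loop (some (1, 0)) [.bwd 317, .bwd 304, .fwd 279, .bwd 278, .fwd 190],
   .loop (some (9, 4)) [.bwd 317, .fwd 311, .bwd 310, .fwd 314, .fwd 316, .bwd 314, .fwd 310, .bwd 311, .fwd 317],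
   .define,
   .loop (some (0, 2)) [.fwd 313, .bwd 314, .fwd 310, .bwd 311, .fwd 317, .bwd 319, .fwd 321],
   .loop (some (1, 2)) [.bwd 279, .bwd 284, .bwd 318, .bwd 319, .fwd 321],
   .loop (some (2, 2)) [.bwd 311, .fwd 317, .fwd 320, .bwd 319, .fwd 321],
   .define,
   .loop (some (35, 8)) [.bwd 325, .fwd 257, .fwd 255, .fwd 183, .fwd 171, .bwd 183, .bwd 255, .bwd 257, .fwd 325],
   .define,
   .loop (some (46, 2)) [.fwd 150, .bwd 170, .bwd 183, .bwd 180, .bwd 178, .fwd 182, .bwd 202, .fwd 204, .fwd 202, .fwd 178, .fwd 180, .bwd 255, .bwd 257, .fwd 325, .fwd 327],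
   .define,
   .loop (some (31, 1)) [.fwd 326, .bwd 325, .bwd 256, .bwd 294, .fwd 329],
   .define,
   .loop (some (30, 2)) [.bwd 331, .bwd 329, .fwd 295, .fwd 329, .fwd 331],
   .loop (some (43, 12)) [.fwd 154, .bwd 173, .fwd 176, .bwd 183, .fwd 181, .bwd 180, .fwd 208, .fwd 209, .fwd 273, .fwd 275, .bwd 271, .bwd 258, .fwd 325, .bwd 330, .fwd 331],
   .define,
   .loop (some (27, 10)) [.fwd 328, .bwd 148, .bwd 105, .bwd 103, .bwd 101, .bwd 96, .fwd 95, .fwd 96, .fwd 101, .fwd 103, .fwd 105, .fwd 106, .fwd 238, .fwd 252, .bwd 251, .fwd 250, .bwd 249, .bwd 238, .fwd 139, .fwd 141, .bwd 136, .fwd 144, .fwd 334],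
   .loop (some (64, 6)) [.fwd 335, .bwd 335, .bwd 334, .fwd 143, .fwd 145, .fwd 152, .bwd 333],
   .define,
   .loop (some (40, 7)) [.bwd 337, .bwd 205, .fwd 201, .fwd 204, .fwd 203, .fwd 166, .bwd 165, .fwd 104, .fwd 38, .fwd 23, .bwd 200, .fwd 205, .fwd 206, .fwd 337],
   .define,
   .loop (some (31, 3)) [.fwd 198, .bwd 207, .fwd 337, .fwd 338, .fwd 339],
   .loop (some (31, 1)) [.bwd 339, .bwd 337, .bwd 205, .bwd 199, .bwd 340],
   .define,
   .loop (some (30, 2)) [.bwd 173, .fwd 185, .fwd 197, .bwd 340, .fwd 342],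
   .define,
   .loop (some (31, 1)) [.bwd 344, .fwd 343, .bwd 154, .bwd 333, .fwd 332],
   .define,
   .define,
   .loop (some (2, 3)) [.bwd 346, .bwd 345, .fwd 336, .fwd 335, .fwd 347],
   .loop (some (11, 2)) [.bwd 345, .bwd 331, .fwd 330, .fwd 327, .fwd 347],
   .define,
   .loop (some (12, 1)) [.fwd 349, .bwd 344, .bwd 342, .bwd 339, .fwd 350],
   .loop (some (30, 2)) [.bwd 350, .bwd 337, .fwd 206, .fwd 337, .fwd 350],
   .define,
   .loop (some (35, 8)) [.bwd 353, .fwd 277, .bwd 276, .bwd 340, .fwd 341, .fwd 340, .fwd 276, .bwd 277, .fwd 353],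
   .define,
   .loop (some (31, 0)) [.bwd 355, .fwd 354, .bwd 353, .fwd 275, .bwd 271],
   .define,
   .loop (some (30, 2)) [.bwd 327, .bwd 325, .fwd 258, .fwd 356, .fwd 357],
   .define,
   .loop (some (31, 1)) [.bwd 359, .fwd 358, .fwd 347, .bwd 351, .fwd 352],
   .define,
   .loop (some (17, 2)) [.fwd 359, .bwd 360, .fwd 351, .bwd 347, .fwd 328, .fwd 150, .fwd 361],
   .define,
   .loop (some (12, 1)) [.bwd 173, .fwd 176, .fwd 170, .fwd 361, .fwd 363],
   .define,
   .loop (some (11, 2)) [.fwd 355, .fwd 357, .bwd 362, .fwd 363, .fwd 365],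
   .define,
   .loop (some (12, 2)) [.bwd 367, .fwd 366, .fwd 354, .bwd 366, .fwd 367],
   .loop (some (17, 2)) [.fwd 344, .bwd 345, .fwd 333, .fwd 154, .bwd 364, .fwd 365, .fwd 367],
   .define,
   .define,
   .loop (some (64, 3)) [.bwd 234, .fwd 226, .bwd 224, .fwd 214, .bwd 214, .fwd 370, .fwd 371],
   .loop (some (64, 6)) [.bwd 371, .fwd 371, .fwd 372, .bwd 234, .fwd 226, .fwd 234, .bwd 372],
   .define,
   .loop (some (3, 5)) [.bwd 374, .fwd 371, .fwd 372, .fwd 235, .bwd 221],
   .define,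
   .loop (some (3, 2)) [.fwd 217, .bwd 214, .fwd 370, .fwd 374, .fwd 376],
   .define,
   .define,
   .loop (some (64, 3)) [.fwd 281, .bwd 273, .bwd 209, .bwd 208, .fwd 208, .fwd 378, .fwd 379],
   .define,
   .loop (some (3, 3)) [.fwd 379, .fwd 380, .bwd 280, .bwd 301, .fwd 381],
   .define,
   .loop (some (3, 2)) [.bwd 229, .fwd 208, .fwd 378, .bwd 382, .fwd 383],
   .define,
   .loop (some (3, 5)) [.bwd 385, .bwd 379, .bwd 378, .fwd 209, .fwd 211],
   .define,
   .loop (some (3, 1)) [.bwd 387, .bwd 277, .bwd 281, .bwd 380, .fwd 385],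
   .define,
   .loop (some (3, 5)) [.bwd 389, .bwd 388, .bwd 386, .fwd 212, .fwd 231],
   .define,
   .loop (some (0, 2)) [.bwd 383, .fwd 382, .fwd 379, .fwd 385, .fwd 388, .fwd 389, .fwd 391],
   .loop (some (3, 2)) [.bwd 297, .fwd 276, .fwd 387, .fwd 389, .fwd 391],
   .define,
   .define,
   .loop (some (12, 2)) [.bwd 370, .bwd 213, .fwd 378, .fwd 394, .fwd 395],
   .define,
   .loop (some (65, 2)) [.fwd 396, .fwd 371, .fwd 397],
   .loop (some (1, 0)) [.bwd 398, .bwd 397, .fwd 373, .bwd 371, .bwd 396],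
   .define,
   .loop (some (12, 1)) [.bwd 397, .fwd 372, .fwd 236, .bwd 384, .fwd 400],
   .define,
   .loop (some (1, 1)) [.bwd 394, .bwd 382, .fwd 383, .fwd 400, .fwd 402],
   .loop (some (64, 1)) [.fwd 403, .fwd 395, .bwd 398, .bwd 401, .fwd 402, .fwd 403, .bwd 403],
   .loop (some (65, 3)) [.fwd 403, .bwd 394, .fwd 379],
   .define,
   .loop (some (1, 3)) [.fwd 398, .fwd 396, .fwd 374, .fwd 376, .fwd 406],
   .define,
   .loop (some (12, 2)) [.bwd 386, .fwd 216, .bwd 377, .fwd 406, .fwd 408],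
   .define,
   .loop (some (1, 1)) [.fwd 409, .bwd 385, .bwd 379, .fwd 394, .fwd 410],
   .loop (some (1, 5)) [.bwd 410, .bwd 403, .bwd 405, .fwd 385, .fwd 388],
   .define,
   .loop (some (3, 1)) [.bwd 413, .bwd 410, .bwd 403, .fwd 404, .bwd 402],
   .loop (some (12, 2)) [.bwd 381, .bwd 302, .fwd 387, .fwd 412, .fwd 413],
   .define,
   .loop (some (1, 2)) [.bwd 374, .fwd 371, .fwd 397, .bwd 407, .fwd 416],
   .define,
   .loop (some (3, 3)) [.bwd 414, .fwd 401, .bwd 407, .fwd 416, .fwd 418],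
   .loop (some (12, 2)) [.bwd 390, .fwd 233, .fwd 375, .bwd 417, .fwd 418],
   .define,
   .loop (some (0, 1)) [.fwd 419, .bwd 414, .fwd 402, .fwd 403, .fwd 410, .fwd 411, .fwd 421],
   .loop (some (1, 5)) [.bwd 421, .bwd 411, .bwd 412, .fwd 389, .fwd 391],
   .define,
   .define,
   .loop (some (28, 17)) [.fwd 372, .fwd 237, .bwd 377, .bwd 376, .bwd 417, .fwd 418, .fwd 419, .bwd 414, .fwd 402, .fwd 403, .bwd 394, .bwd 378, .fwd 213, .fwd 214, .fwd 182, .bwd 202, .fwd 204, .fwd 202, .bwd 214, .fwd 215, .fwd 370, .fwd 424, .fwd 425],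
   .loop (some (2, 0)) [.fwd 425, .fwd 426, .fwd 373, .bwd 371, .fwd 424],
   .define,
   .loop (some (2, 3)) [.bwd 425, .bwd 424, .fwd 374, .fwd 376, .fwd 428],
   .define,
   .loop (some (2, 1)) [.bwd 430, .bwd 374, .fwd 371, .bwd 426, .bwd 429],
   .define,
   .define,
   .loop (some (17, 1)) [.bwd 428, .fwd 377, .bwd 237, .bwd 372, .bwd 426, .fwd 432, .fwd 433],
   .define,
   .loop (some (17, 2)) [.bwd 435, .bwd 424, .bwd 370, .fwd 215, .fwd 370, .fwd 424, .fwd 435],
   .define,
   .loop (some (3, 1)) [.bwd 435, .fwd 427, .fwd 425, .fwd 432, .fwd 437],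
   .loop (some (64, 1)) [.fwd 438, .bwd 435, .fwd 425, .fwd 432, .fwd 437, .fwd 438, .bwd 438],
   .loop (some (63, 3)) [.fwd 438, .fwd 436, .bwd 438],
   .define,
   .loop (some (54, 4)) [.fwd 440, .fwd 438, .fwd 436, .bwd 435, .bwd 424, .bwd 370, .fwd 214, .fwd 182, .fwd 178, .fwd 179, .fwd 17, .fwd 24, .fwd 49, .fwd 52, .fwd 53, .bwd 39, .fwd 8, .fwd 441],
   .loop (some (30, 2)) [.bwd 442, .bwd 441, .fwd 9, .fwd 441, .fwd 442],
   .define,
   .loop (some (2, 1)) [.bwd 433, .fwd 437, .fwd 438, .fwd 436, .fwd 444],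
   .define,
   .loop (some (3, 1)) [.bwd 446, .bwd 444, .bwd 438, .fwd 439, .bwd 437],
   .loop (some (36, 8)) [.bwd 446, .bwd 444, .bwd 438, .fwd 443, .fwd 440, .fwd 439, .fwd 443, .fwd 438, .fwd 444],
   .define]

/-- justifications -/
noncomputable def just3 : List Cert.Just :=
  [.loop (some (43, 1)) [.fwd 448, .bwd 447, .fwd 437, .fwd 439, .fwd 440, .fwd 439, .bwd 442, .bwd 441, .bwd 8, .fwd 16, .fwd 24, .fwd 25, .fwd 49, .fwd 52, .fwd 449],
   .define,
   .loop (some (1, 1)) [.fwd 450, .bwd 444, .bwd 438, .bwd 442, .fwd 451],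
   .loop (some (62, 2)) [.fwd 452, .fwd 450, .fwd 448, .bwd 447, .fwd 433],
   .define,
   .loop (some (43, 9)) [.fwd 82, .fwd 83, .fwd 62, .bwd 61, .bwd 57, .fwd 42, .fwd 441, .fwd 442, .fwd 440, .fwd 438, .fwd 444, .fwd 446, .bwd 448, .fwd 446, .fwd 454],
   .define,
   .loop (some (1, 2)) [.fwd 444, .fwd 445, .fwd 453, .bwd 451, .fwd 456],
   .loop (some (1, 0)) [.bwd 456, .fwd 442, .bwd 437, .fwd 447, .fwd 454],
   .define,
   .loop (some (1, 2)) [.fwd 437, .fwd 438, .bwd 457, .bwd 458, .fwd 459],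
   .define,
   .loop (some (35, 9)) [.bwd 461, .bwd 459, .fwd 455, .fwd 82, .bwd 114, .fwd 117, .bwd 118, .fwd 97, .fwd 44],
   .define,
   .loop (some (0, 2)) [.bwd 452, .bwd 451, .fwd 456, .bwd 458, .fwd 459, .fwd 461, .fwd 463],
   .define,
   .loop (some (3, 3)) [.bwd 447, .bwd 432, .bwd 429, .fwd 431, .fwd 465],
   .loop (some (17, 2)) [.bwd 465, .bwd 430, .bwd 375, .fwd 223, .fwd 375, .fwd 430, .fwd 465],
   .loop (some (27, 23)) [.fwd 464, .bwd 452, .bwd 451, .fwd 456, .fwd 457, .bwd 438, .fwd 440, .fwd 439, .fwd 440, .fwd 439, .fwd 438, .bwd 435, .fwd 425, .fwd 426, .fwd 372, .fwd 237, .bwd 377, .bwd 376, .bwd 375, .fwd 223, .fwd 375, .fwd 430, .fwd 465],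
   .define,
   .loop (some (1, 1)) [.bwd 469, .bwd 461, .bwd 459, .bwd 454, .bwd 466],
   .loop (some (30, 2)) [.bwd 469, .bwd 462, .fwd 34, .fwd 462, .fwd 469],
   .loop (some (43, 2)) [.bwd 470, .fwd 466, .bwd 446, .fwd 448, .bwd 446, .bwd 450, .bwd 449, .bwd 65, .fwd 66, .fwd 67, .fwd 68, .fwd 69, .fwd 44, .fwd 462, .fwd 469],
   .define,
   .loop (some (12, 2)) [.bwd 473, .fwd 442, .fwd 439, .bwd 442, .fwd 473],
   .define,
   .loop (some (31, 0)) [.bwd 475, .bwd 473, .bwd 441, .bwd 8, .fwd 39],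
   .define,
   .loop (some (31, 1)) [.bwd 477, .bwd 476, .fwd 43, .fwd 44, .fwd 462],
   .loop (some (43, 11)) [.bwd 477, .bwd 475, .fwd 474, .bwd 473, .bwd 441, .fwd 9, .bwd 8, .bwd 4, .bwd 5, .fwd 39, .fwd 43, .fwd 44, .fwd 34, .fwd 462, .fwd 478],
   .define,
   .loop (some (11, 1)) [.bwd 480, .bwd 475, .fwd 474, .fwd 475, .fwd 480],
   .define,
   .loop (some (11, 2)) [.bwd 482, .bwd 468, .fwd 467, .fwd 468, .fwd 482],
   .loop (some (62, 3)) [.fwd 479, .bwd 478, .fwd 463, .fwd 482, .fwd 483],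
   .define,
   .loop (some (2, 3)) [.fwd 484, .bwd 478, .bwd 461, .bwd 459, .fwd 485],
   .define,
   .loop (some (11, 1)) [.fwd 450, .fwd 448, .fwd 454, .fwd 485, .fwd 487],
   .define,
   .loop (some (1, 0)) [.bwd 489, .bwd 487, .fwd 486, .fwd 484, .fwd 479],
   .loop (some (62, 1)) [.bwd 453, .bwd 445, .bwd 450, .bwd 488, .fwd 489],
   .define,
   .loop (some (31, 3)) [.fwd 87, .fwd 52, .fwd 449, .bwd 488, .fwd 492],
   .define,
   .loop (some (31, 2)) [.fwd 455, .fwd 82, .fwd 86, .bwd 493, .fwd 494],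
   .define,
   .loop (some (12, 2)) [.fwd 495, .bwd 454, .bwd 446, .bwd 450, .fwd 496],
   .define,
   .loop (some (17, 1)) [.bwd 485, .bwd 495, .bwd 494, .bwd 492, .fwd 488, .fwd 496, .fwd 498],
   .loop (some (31, 0)) [.bwd 498, .bwd 496, .bwd 449, .bwd 65, .fwd 78],
   .define,
   .loop (some (3, 1)) [.fwd 499, .fwd 486, .fwd 484, .bwd 477, .fwd 501],
   .define,
   .loop (some (3, 0)) [.bwd 503, .fwd 477, .fwd 490, .bwd 489, .fwd 492],
   .define,
   .loop (some (2, 1)) [.bwd 494, .fwd 504, .bwd 503, .bwd 475, .fwd 505],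
   .define,
   .loop (some (1, 1)) [.fwd 474, .fwd 505, .fwd 506, .bwd 497, .fwd 507],
   .loop (some (63, 3)) [.fwd 508, .fwd 475, .fwd 503],
   .loop (some (65, 3)) [.fwd 508, .fwd 474, .bwd 508],
   .define,
   .loop (some (2, 1)) [.bwd 511, .fwd 461, .fwd 463, .fwd 482, .bwd 486],
   .loop (some (11, 2)) [.fwd 491, .bwd 453, .bwd 433, .bwd 460, .fwd 511],
   .define,
   .loop (some (2, 3)) [.bwd 512, .bwd 485, .fwd 458, .bwd 456, .fwd 514],
   .loop (some (11, 2)) [.bwd 514, .fwd 442, .fwd 440, .bwd 442, .fwd 514],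
   .define,
   .loop (some (31, 3)) [.bwd 45, .fwd 42, .fwd 441, .fwd 514, .fwd 517],
   .define,
   .loop (some (0, 2)) [.fwd 489, .bwd 490, .bwd 484, .bwd 486, .fwd 512, .bwd 515, .fwd 519],
   .loop (some (1, 2)) [.fwd 520, .fwd 489, .bwd 513, .bwd 515, .fwd 519],
   .loop (some (2, 2)) [.bwd 458, .fwd 459, .fwd 511, .bwd 515, .fwd 519],
   .define,
   .loop (some (17, 1)) [.fwd 478, .bwd 477, .bwd 475, .bwd 473, .fwd 514, .fwd 517, .fwd 523],
   .loop (some (40, 10)) [.bwd 523, .fwd 518, .bwd 45, .fwd 57, .bwd 210, .bwd 219, .fwd 225, .bwd 244, .bwd 241, .bwd 238, .bwd 98, .fwd 45, .bwd 518, .fwd 523],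
   .define,
   .loop (some (3, 0)) [.bwd 526, .fwd 524, .bwd 461, .bwd 459, .bwd 495],
   .define,
   .loop (some (2, 2)) [.bwd 505, .bwd 508, .bwd 509, .bwd 504, .fwd 528],
   .loop (some (2, 0)) [.bwd 528, .fwd 494, .fwd 527, .bwd 526, .bwd 523],
   .define,
   .loop (some (0, 1)) [.fwd 530, .bwd 528, .fwd 504, .bwd 503, .fwd 501, .fwd 502, .fwd 531],
   .loop (some (9, 9)) [.bwd 531, .bwd 502, .bwd 501, .fwd 503, .fwd 509, .fwd 508, .fwd 505, .fwd 506, .fwd 527],
   .define,
   .loop (some (0, 1)) [.fwd 507, .fwd 508, .fwd 505, .fwd 506, .fwd 527, .bwd 526, .fwd 534],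
   .loop (some (2, 5)) [.bwd 534, .fwd 526, .fwd 533, .bwd 531, .bwd 502],
   .define,
   .loop (some (11, 1)) [.bwd 537, .fwd 523, .fwd 525, .bwd 523, .fwd 537],
   .loop (some (12, 1)) [.bwd 537, .bwd 517, .fwd 516, .fwd 517, .fwd 537],
   .define,
   .loop (some (11, 1)) [.bwd 540, .fwd 509, .fwd 510, .bwd 509, .fwd 540],
   .loop (some (62, 3)) [.bwd 480, .bwd 475, .bwd 508, .bwd 509, .fwd 540],
   .define,
   .loop (some (1, 3)) [.fwd 542, .bwd 480, .fwd 501, .fwd 502, .fwd 543],
   .define,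
   .loop (some (12, 2)) [.bwd 492, .bwd 487, .bwd 499, .fwd 543, .fwd 545],
   .loop (some (22, 3)) [.fwd 545, .fwd 546, .bwd 492, .bwd 487, .bwd 499, .bwd 498, .fwd 497, .bwd 494, .bwd 546],
   .define,
   .loop (some (1, 0)) [.bwd 548, .fwd 546, .fwd 504, .bwd 503, .fwd 480],
   .loop (some (62, 4)) [.fwd 529, .fwd 506, .bwd 494, .bwd 546, .fwd 548],
   .define,
   .loop (some (1, 2)) [.bwd 501, .fwd 503, .fwd 540, .bwd 544, .fwd 551],
   .loop (some (1, 0)) [.bwd 551, .bwd 543, .fwd 531, .fwd 532, .fwd 537],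
   .loop (some (2, 2)) [.bwd 549, .bwd 542, .fwd 541, .bwd 544, .fwd 551],
   .define,
   .loop (some (0, 2)) [.fwd 548, .bwd 549, .bwd 542, .bwd 544, .fwd 551, .bwd 553, .fwd 555],
   .loop (some (1, 2)) [.bwd 531, .bwd 502, .bwd 552, .bwd 553, .fwd 555],
   .loop (some (2, 2)) [.fwd 556, .fwd 548, .bwd 554, .bwd 553, .fwd 555],
   .define,
   .define,
   .loop (some (40, 8)) [.bwd 478, .fwd 469, .fwd 472, .fwd 471, .fwd 472, .bwd 469, .bwd 462, .fwd 34, .bwd 37, .bwd 104, .fwd 105, .fwd 107, .fwd 559, .fwd 560],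
   .define,
   .loop (some (31, 3)) [.fwd 475, .fwd 477, .bwd 561, .bwd 560, .fwd 562],
   .define,
   .loop (some (31, 1)) [.bwd 562, .bwd 559, .bwd 105, .bwd 103, .fwd 564],
   .define,
   .loop (some (31, 5)) [.bwd 566, .bwd 514, .fwd 473, .bwd 563, .bwd 565],
   .define,
   .loop (some (35, 0)) [.bwd 568, .bwd 566, .bwd 514, .bwd 441, .fwd 7, .fwd 6, .fwd 441, .fwd 473, .bwd 563],
   .define,
   .loop (some (31, 0)) [.bwd 570, .bwd 567, .bwd 564, .bwd 101, .bwd 96],
   .define,
   .loop (some (31, 5)) [.bwd 572, .bwd 523, .bwd 517, .fwd 566, .fwd 570],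
   .define,
   .loop (some (35, 0)) [.bwd 574, .fwd 563, .fwd 475, .bwd 476, .bwd 41, .bwd 40, .fwd 476, .fwd 477, .bwd 561],
   .define,
   .loop (some (2, 0)) [.bwd 576, .fwd 560, .fwd 575, .bwd 574, .bwd 565],
   .define,
   .loop (some (2, 0)) [.bwd 578, .fwd 565, .fwd 569, .bwd 568, .fwd 570],
   .loop (some (63, 1)) [.bwd 574, .bwd 565, .fwd 578],
   .define,
   .loop (some (2, 2)) [.bwd 577, .fwd 578, .fwd 580, .bwd 575, .fwd 581],
   .loop (some (10, 0)) [.bwd 581, .fwd 575, .bwd 574, .bwd 562, .fwd 576, .bwd 577, .fwd 578, .bwd 579, .fwd 573],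
   .define,
   .loop (some (31, 3)) [.bwd 99, .bwd 106, .fwd 559, .fwd 560, .fwd 584],
   .define,
   .loop (some (2, 2)) [.bwd 569, .fwd 574, .bwd 580, .bwd 579, .fwd 586],
   .loop (some (3, 0)) [.bwd 586, .fwd 573, .fwd 583, .bwd 581, .fwd 584],
   .define,
   .loop (some (0, 2)) [.fwd 576, .bwd 577, .fwd 578, .bwd 579, .fwd 586, .bwd 588, .fwd 589],
   .define,
   .loop (some (0, 2)) [.fwd 568, .bwd 569, .fwd 574, .bwd 575, .fwd 581, .bwd 583, .fwd 591],
   .loop (some (2, 2)) [.fwd 590, .fwd 576, .bwd 582, .bwd 583, .fwd 591],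
   .define,
   .define,
   .loop (some (40, 1)) [.bwd 595, .bwd 594, .fwd 150, .bwd 170, .bwd 183, .bwd 180, .fwd 179, .fwd 17, .bwd 16, .fwd 8, .fwd 441, .fwd 514, .fwd 516, .fwd 566],
   .loop (some (40, 6)) [.bwd 595, .bwd 594, .fwd 150, .bwd 170, .fwd 171, .bwd 183, .bwd 180, .bwd 178, .bwd 177, .bwd 161, .fwd 93, .fwd 571, .bwd 570, .fwd 596],
   .define,
   .loop (some (31, 3)) [.bwd 347, .fwd 328, .fwd 594, .fwd 595, .fwd 598]]

/-- justifications -/
noncomputable def just4 : List Cert.Just :=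
  [.define,
   .loop (some (62, 4)) [.bwd 587, .bwd 586, .bwd 570, .fwd 596, .fwd 600],
   .define,
   .loop (some (1, 5)) [.bwd 602, .bwd 600, .bwd 596, .bwd 592, .bwd 591],
   .loop (some (34, 6)) [.bwd 602, .bwd 600, .bwd 596, .bwd 592, .bwd 591, .bwd 572, .fwd 525, .fwd 572, .fwd 603],
   .define,
   .loop (some (35, 8)) [.fwd 604, .bwd 602, .bwd 600, .fwd 597, .bwd 595, .bwd 594, .bwd 148, .fwd 153, .fwd 605],
   .define,
   .loop (some (31, 1)) [.bwd 606, .bwd 605, .fwd 154, .bwd 364, .fwd 607],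
   .define,
   .loop (some (3, 0)) [.bwd 609, .fwd 606, .bwd 602, .bwd 600, .fwd 598],
   .define,
   .loop (some (2, 0)) [.bwd 611, .fwd 608, .bwd 602, .bwd 600, .bwd 595],
   .define,
   .loop (some (1, 3)) [.fwd 600, .fwd 601, .bwd 569, .fwd 574, .fwd 613],
   .define,
   .loop (some (1, 1)) [.bwd 615, .fwd 569, .bwd 568, .fwd 596, .bwd 614],
   .loop (some (30, 2)) [.bwd 615, .fwd 563, .fwd 474, .bwd 563, .fwd 615],
   .define,
   .loop (some (35, 4)) [.fwd 346, .bwd 348, .bwd 599, .bwd 598, .fwd 597, .bwd 614, .fwd 616, .fwd 617, .fwd 618],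
   .define,
   .loop (some (31, 3)) [.fwd 369, .fwd 344, .bwd 619, .bwd 618, .fwd 620],
   .define,
   .loop (some (31, 1)) [.bwd 622, .bwd 607, .fwd 365, .fwd 367, .bwd 621],
   .define,
   .loop (some (40, 0)) [.bwd 624, .bwd 623, .fwd 621, .fwd 369, .bwd 342, .fwd 340, .fwd 198, .fwd 196, .fwd 59, .fwd 74, .bwd 80, .fwd 500, .bwd 498, .fwd 497],
   .define,
   .loop (some (35, 3)) [.bwd 625, .bwd 506, .bwd 505, .bwd 563, .bwd 562, .bwd 559, .fwd 153, .bwd 152, .fwd 626],
   .define,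
   .loop (some (31, 3)) [.bwd 485, .bwd 495, .fwd 625, .bwd 627, .fwd 628],
   .define,
   .loop (some (31, 1)) [.bwd 628, .bwd 626, .fwd 146, .bwd 123, .fwd 630],
   .define,
   .loop (some (33, 0)) [.bwd 632, .bwd 626, .fwd 149, .bwd 148, .fwd 559, .fwd 576, .bwd 577, .bwd 564, .bwd 120, .bwd 122, .fwd 630],
   .define,
   .loop (some (31, 3)) [.bwd 138, .fwd 145, .fwd 626, .fwd 627, .fwd 634],
   .define,
   .loop (some (31, 0)) [.bwd 636, .bwd 634, .bwd 625, .bwd 494, .bwd 492],
   .define,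
   .loop (some (41, 12)) [.bwd 594, .fwd 150, .fwd 184, .bwd 170, .fwd 171, .bwd 183, .fwd 187, .fwd 188, .fwd 49, .bwd 87, .bwd 493, .bwd 492, .fwd 637, .fwd 638],
   .define,
   .loop (some (30, 1)) [.fwd 629, .fwd 487, .fwd 637, .fwd 638, .fwd 640],
   .loop (some (31, 1)) [.bwd 598, .fwd 597, .bwd 595, .bwd 639, .fwd 640],
   .define,
   .loop (some (31, 1)) [.fwd 639, .bwd 594, .fwd 150, .fwd 361, .fwd 643],
   .define,
   .loop (some (31, 5)) [.bwd 645, .bwd 360, .fwd 351, .bwd 599, .bwd 642],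
   .define,
   .loop (some (30, 2)) [.bwd 647, .fwd 561, .fwd 479, .bwd 561, .fwd 647],
   .loop (some (40, 2)) [.bwd 645, .bwd 360, .bwd 350, .bwd 337, .bwd 205, .fwd 200, .fwd 23, .bwd 38, .fwd 37, .fwd 462, .fwd 478, .fwd 479, .bwd 561, .fwd 647],
   .loop (some (41, 4)) [.fwd 648, .bwd 647, .bwd 560, .bwd 559, .fwd 106, .bwd 98, .fwd 57, .fwd 56, .bwd 210, .bwd 259, .fwd 356, .fwd 357, .bwd 362, .fwd 643],
   .define,
   .loop (some (31, 3)) [.bwd 109, .fwd 129, .bwd 635, .fwd 636, .fwd 651],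
   .define,
   .loop (some (33, 0)) [.bwd 653, .bwd 630, .fwd 122, .fwd 120, .fwd 564, .fwd 578, .bwd 579, .bwd 571, .fwd 95, .bwd 110, .bwd 652],
   .define,
   .loop (some (31, 1)) [.bwd 651, .bwd 637, .fwd 488, .fwd 496, .fwd 655],
   .loop (some (31, 5)) [.bwd 655, .fwd 498, .fwd 499, .bwd 629, .bwd 631],
   .define,
   .loop (some (17, 1)) [.bwd 618, .fwd 620, .fwd 623, .bwd 622, .fwd 608, .bwd 606, .fwd 658],
   .loop (some (40, 1)) [.bwd 658, .bwd 605, .fwd 154, .bwd 173, .fwd 185, .fwd 189, .fwd 188, .fwd 25, .fwd 49, .bwd 87, .bwd 493, .fwd 494, .bwd 497, .fwd 655],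
   .define,
   .loop (some (33, 0)) [.bwd 661, .fwd 652, .fwd 110, .fwd 95, .fwd 571, .fwd 586, .bwd 588, .fwd 585, .fwd 131, .bwd 132, .bwd 635],
   .define,
   .loop (some (0, 2)) [.fwd 632, .bwd 633, .fwd 653, .bwd 654, .fwd 661, .bwd 662, .fwd 663],
   .define,
   .loop (some (2, 0)) [.bwd 665, .bwd 627, .bwd 664, .bwd 663, .fwd 636],
   .loop (some (63, 1)) [.bwd 632, .fwd 627, .fwd 665],
   .define,
   .loop (some (2, 0)) [.bwd 668, .bwd 631, .fwd 633, .bwd 632, .fwd 627],
   .define,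
   .loop (some (2, 0)) [.bwd 670, .bwd 636, .fwd 662, .bwd 661, .bwd 656],
   .define,
   .loop (some (0, 2)) [.fwd 668, .bwd 669, .fwd 665, .bwd 666, .fwd 670, .bwd 671, .fwd 672],
   .define,
   .loop (some (1, 0)) [.bwd 674, .bwd 647, .fwd 575, .bwd 574, .fwd 615],
   .loop (some (62, 4)) [.fwd 582, .bwd 576, .fwd 560, .fwd 647, .fwd 674],
   .define,
   .loop (some (1, 0)) [.bwd 677, .fwd 624, .fwd 669, .bwd 668, .bwd 641],
   .loop (some (62, 4)) [.fwd 667, .bwd 632, .fwd 627, .bwd 624, .fwd 677],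
   .define,
   .loop (some (1, 2)) [.bwd 669, .fwd 665, .bwd 679, .bwd 678, .fwd 680],
   .loop (some (1, 0)) [.bwd 680, .fwd 641, .bwd 673, .bwd 672, .fwd 660],
   .define,
   .loop (some (1, 2)) [.fwd 673, .fwd 668, .bwd 681, .bwd 682, .fwd 683],
   .loop (some (1, 0)) [.bwd 683, .bwd 660, .fwd 671, .bwd 670, .fwd 638],
   .define,
   .loop (some (0, 2)) [.fwd 674, .bwd 675, .bwd 616, .fwd 614, .fwd 600, .fwd 602, .fwd 686],
   .loop (some (63, 1)) [.bwd 611, .fwd 608, .fwd 686],
   .define,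
   .loop (some (0, 2)) [.fwd 677, .bwd 678, .fwd 680, .bwd 682, .fwd 683, .bwd 685, .fwd 689],
   .loop (some (1, 2)) [.bwd 671, .fwd 672, .bwd 684, .bwd 685, .fwd 689],
   .define,
   .loop (some (2, 2)) [.fwd 602, .fwd 686, .fwd 688, .bwd 612, .fwd 692],
   .loop (some (2, 0)) [.bwd 692, .fwd 595, .bwd 614, .fwd 616, .fwd 618],
   .define,
   .loop (some (2, 0)) [.bwd 695, .bwd 649, .bwd 687, .bwd 686, .bwd 608],
   .loop (some (62, 1)) [.fwd 676, .bwd 581, .fwd 647, .fwd 649, .fwd 695],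
   .define,
   .loop (some (2, 0)) [.bwd 698, .fwd 644, .fwd 685, .bwd 683, .bwd 658],
   .loop (some (62, 1)) [.fwd 691, .bwd 670, .fwd 638, .bwd 644, .fwd 698],
   .define,
   .loop (some (2, 0)) [.bwd 701, .fwd 623, .bwd 690, .bwd 689, .bwd 644],
   .loop (some (62, 1)) [.fwd 679, .bwd 665, .bwd 624, .bwd 623, .fwd 701],
   .define,
   .loop (some (0, 2)) [.fwd 695, .bwd 696, .fwd 611, .bwd 612, .fwd 692, .bwd 694, .fwd 704],
   .loop (some (2, 2)) [.fwd 614, .fwd 600, .bwd 693, .bwd 694, .fwd 704],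
   .define,
   .loop (some (0, 1)) [.fwd 610, .bwd 609, .fwd 699, .bwd 698, .fwd 702, .bwd 701, .fwd 707],
   .loop (some (2, 5)) [.bwd 707, .fwd 701, .fwd 703, .bwd 678, .fwd 680],
   .define,
   .define,
   .loop (some (54, 10)) [.bwd 551, .bwd 547, .fwd 546, .fwd 493, .fwd 87, .fwd 52, .fwd 53, .bwd 39, .fwd 16, .fwd 24, .fwd 25, .bwd 188, .fwd 190, .fwd 193, .fwd 310, .bwd 324, .fwd 710, .fwd 711],
   .define,
   .loop (some (64, 6)) [.fwd 713, .bwd 713, .bwd 710, .bwd 321, .fwd 191, .fwd 321, .fwd 710],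
   .loop (some (64, 3)) [.bwd 317, .bwd 309, .bwd 322, .bwd 321, .fwd 321, .fwd 710, .fwd 713],
   .define,
   .loop (some (54, 9)) [.fwd 715, .bwd 317, .fwd 305, .bwd 304, .fwd 272, .bwd 61, .fwd 56, .bwd 57, .fwd 42, .fwd 9, .bwd 42, .fwd 45, .bwd 518, .fwd 537, .fwd 538, .fwd 555, .fwd 558, .fwd 716],
   .loop (some (64, 2)) [.fwd 712, .bwd 551, .fwd 545, .bwd 556, .bwd 555, .fwd 555, .fwd 716],
   .define,
   .loop (some (3, 5)) [.bwd 719, .bwd 713, .bwd 710, .fwd 322, .fwd 313],
   .define,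
   .loop (some (27, 8)) [.bwd 720, .bwd 313, .fwd 309, .fwd 317, .fwd 320, .bwd 715, .bwd 717, .bwd 716, .bwd 555, .fwd 539, .fwd 538, .fwd 539, .fwd 538, .fwd 539, .bwd 537, .fwd 530, .bwd 528, .fwd 504, .bwd 503, .fwd 480, .bwd 542, .fwd 541, .fwd 721],
   .define,
   .loop (some (3, 3)) [.bwd 718, .bwd 716, .fwd 556, .fwd 548, .fwd 723],
   .loop (some (27, 17)) [.bwd 721, .fwd 541, .fwd 721, .fwd 722, .bwd 720, .fwd 315, .bwd 288, .fwd 278, .bwd 279, .bwd 284, .bwd 318, .bwd 317, .fwd 305, .bwd 309, .fwd 308, .fwd 309, .fwd 317, .bwd 715, .bwd 713, .fwd 711, .fwd 712, .fwd 554, .fwd 723],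
   .loop (some (57, 6)) [.bwd 725, .fwd 724, .fwd 712, .bwd 551, .fwd 544, .fwd 542, .fwd 549, .fwd 723, .fwd 725],
   .define,
   .loop (some (2, 1)) [.bwd 727, .fwd 724, .bwd 718, .fwd 717, .fwd 719],
   .loop (some (6, 1)) [.bwd 727, .fwd 725, .fwd 726, .fwd 722, .fwd 728],
   .loop (some (17, 1)) [.bwd 324, .fwd 710, .fwd 711, .fwd 712, .fwd 554, .fwd 723, .fwd 727],
   .define,
   .loop (some (30, 2)) [.bwd 731, .fwd 621, .fwd 368, .bwd 621, .fwd 731],
   .define,
   .loop (some (12, 2)) [.fwd 562, .fwd 615, .fwd 620, .fwd 731, .fwd 733],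
   .define,
   .loop (some (11, 1)) [.bwd 731, .fwd 623, .fwd 624, .bwd 627, .fwd 735],
   .define,
   .loop (some (12, 2)) [.bwd 646, .fwd 641, .bwd 628, .fwd 735, .fwd 737],
   .loop (some (22, 3)) [.bwd 737, .bwd 735, .fwd 628, .bwd 641, .fwd 646, .bwd 649, .bwd 647, .bwd 560, .bwd 734],
   .loop (some (31, 3)) [.bwd 739, .bwd 733, .fwd 732, .bwd 736, .fwd 737],
   .define,
   .loop (some (62, 4)) [.bwd 582, .bwd 581, .bwd 560, .bwd 734, .fwd 741],
   .define,
   .loop (some (1, 3)) [.bwd 741, .fwd 734, .bwd 590, .bwd 589, .fwd 743],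
   .define,
   .loop (some (12, 1)) [.bwd 743, .bwd 584, .fwd 647, .bwd 650, .fwd 745],
   .define,
   .loop (some (11, 2)) [.fwd 636, .fwd 638, .bwd 644, .fwd 745, .fwd 747],
   .define]

/-- justifications -/
noncomputable def just5 : List Cert.Just :=
  [.loop (some (30, 1)) [.bwd 607, .bwd 363, .fwd 643, .fwd 745, .fwd 749],
   .loop (some (40, 4)) [.bwd 743, .fwd 585, .bwd 99, .bwd 98, .fwd 45, .fwd 73, .fwd 82, .bwd 114, .fwd 121, .fwd 130, .bwd 635, .bwd 748, .bwd 747, .fwd 749],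
   .loop (some (50, 15)) [.bwd 749, .bwd 745, .fwd 650, .fwd 649, .bwd 738, .fwd 740, .bwd 737, .bwd 735, .fwd 627, .fwd 634, .fwd 636, .fwd 651, .fwd 661, .bwd 662, .bwd 748],
   .define,
   .loop (some (30, 1)) [.bwd 564, .fwd 102, .bwd 585, .fwd 743, .fwd 753],
   .define,
   .loop (some (30, 1)) [.bwd 630, .fwd 130, .bwd 635, .bwd 748, .fwd 755],
   .define,
   .loop (some (12, 2)) [.bwd 659, .bwd 660, .bwd 657, .bwd 756, .fwd 757],
   .loop (some (22, 3)) [.bwd 757, .fwd 756, .fwd 657, .fwd 660, .fwd 659, .bwd 618, .bwd 615, .bwd 565, .bwd 754],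
   .define,
   .loop (some (30, 1)) [.fwd 599, .fwd 349, .bwd 619, .bwd 758, .fwd 760],
   .loop (some (40, 7)) [.bwd 755, .bwd 747, .bwd 745, .fwd 644, .fwd 640, .fwd 642, .bwd 761, .bwd 760, .fwd 758, .bwd 618, .fwd 617, .fwd 618, .bwd 758, .fwd 760],
   .define,
   .loop (some (1, 0)) [.bwd 763, .fwd 750, .fwd 696, .bwd 695, .bwd 738],
   .loop (some (62, 4)) [.bwd 688, .bwd 686, .bwd 608, .bwd 750, .fwd 763],
   .define,
   .loop (some (1, 0)) [.bwd 766, .bwd 735, .bwd 664, .bwd 663, .bwd 748],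
   .loop (some (62, 4)) [.bwd 667, .bwd 665, .bwd 627, .fwd 735, .fwd 766],
   .define,
   .loop (some (1, 0)) [.bwd 769, .bwd 745, .fwd 702, .bwd 701, .fwd 731],
   .loop (some (62, 4)) [.fwd 700, .bwd 689, .bwd 644, .fwd 745, .fwd 769],
   .define,
   .loop (some (1, 0)) [.bwd 772, .fwd 754, .fwd 577, .bwd 576, .bwd 734],
   .loop (some (62, 4)) [.fwd 580, .bwd 574, .bwd 565, .bwd 754, .fwd 772],
   .define,
   .loop (some (1, 2)) [.bwd 696, .fwd 611, .bwd 765, .bwd 764, .fwd 775],
   .loop (some (1, 0)) [.bwd 775, .fwd 738, .bwd 705, .bwd 704, .bwd 758],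
   .loop (some (13, 5)) [.fwd 742, .bwd 582, .bwd 676, .bwd 697, .bwd 696, .fwd 611, .bwd 765, .bwd 764, .fwd 775],
   .define,
   .loop (some (54, 10)) [.bwd 775, .bwd 739, .fwd 734, .bwd 559, .bwd 105, .bwd 103, .fwd 102, .fwd 100, .fwd 161, .bwd 167, .fwd 166, .bwd 203, .bwd 201, .fwd 205, .bwd 268, .bwd 270, .fwd 390, .fwd 779],
   .define,
   .loop (some (1, 0)) [.bwd 781, .fwd 756, .fwd 633, .bwd 632, .fwd 735],
   .define,
   .loop (some (54, 10)) [.bwd 763, .fwd 751, .bwd 743, .fwd 585, .bwd 99, .bwd 106, .fwd 107, .fwd 106, .fwd 238, .fwd 239, .fwd 241, .fwd 244, .bwd 228, .fwd 256, .bwd 264, .fwd 266, .bwd 384, .fwd 783],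
   .define,
   .loop (some (1, 2)) [.bwd 702, .fwd 698, .bwd 771, .bwd 770, .fwd 785],
   .loop (some (1, 0)) [.bwd 785, .bwd 731, .fwd 707, .fwd 708, .bwd 761],
   .loop (some (13, 5)) [.fwd 768, .bwd 667, .bwd 679, .bwd 703, .bwd 702, .fwd 698, .bwd 771, .bwd 770, .fwd 785],
   .define,
   .loop (some (54, 9)) [.bwd 381, .fwd 301, .fwd 189, .fwd 190, .fwd 192, .fwd 156, .fwd 157, .fwd 158, .fwd 129, .bwd 130, .fwd 123, .bwd 146, .fwd 626, .fwd 735, .fwd 736, .fwd 785, .fwd 788, .fwd 789],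
   .loop (some (64, 2)) [.fwd 784, .bwd 763, .bwd 752, .fwd 767, .bwd 766, .fwd 766, .fwd 789],
   .loop (some (64, 6)) [.fwd 791, .bwd 791, .bwd 789, .bwd 766, .fwd 737, .fwd 775, .bwd 780],
   .define,
   .loop (some (2, 1)) [.bwd 793, .fwd 392, .bwd 383, .bwd 790, .bwd 792],
   .loop (some (54, 10)) [.bwd 781, .bwd 762, .fwd 761, .fwd 599, .bwd 347, .fwd 328, .fwd 151, .bwd 328, .bwd 327, .fwd 326, .bwd 330, .bwd 329, .fwd 295, .bwd 293, .bwd 289, .bwd 298, .bwd 393, .fwd 793],
   .define,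
   .loop (some (1, 2)) [.bwd 707, .fwd 701, .bwd 786, .bwd 787, .fwd 796],
   .loop (some (2, 2)) [.bwd 782, .fwd 766, .bwd 788, .bwd 787, .fwd 796],
   .define,
   .loop (some (1, 2)) [.fwd 590, .fwd 576, .bwd 742, .bwd 744, .fwd 799],
   .loop (some (2, 2)) [.bwd 764, .fwd 775, .fwd 778, .bwd 744, .fwd 799],
   .define,
   .loop (some (1, 5)) [.bwd 802, .bwd 799, .bwd 743, .fwd 588, .bwd 586],
   .define,
   .loop (some (0, 2)) [.fwd 772, .bwd 773, .fwd 741, .bwd 744, .fwd 799, .fwd 802, .fwd 804],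
   .define,
   .loop (some (1, 3)) [.bwd 796, .fwd 761, .fwd 610, .bwd 609, .fwd 806],
   .loop (some (12, 1)) [.bwd 803, .fwd 573, .fwd 603, .bwd 606, .fwd 806],
   .define,
   .loop (some (11, 1)) [.bwd 806, .fwd 658, .bwd 660, .fwd 656, .fwd 809],
   .define,
   .loop (some (12, 2)) [.bwd 639, .bwd 638, .fwd 651, .fwd 809, .fwd 811],
   .loop (some (22, 3)) [.bwd 811, .bwd 809, .bwd 651, .fwd 638, .fwd 639, .fwd 595, .bwd 596, .fwd 570, .fwd 803],
   .define,
   .loop (some (1, 2)) [.fwd 705, .fwd 695, .bwd 776, .bwd 777, .fwd 814],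
   .loop (some (1, 0)) [.bwd 814, .fwd 758, .fwd 694, .bwd 692, .bwd 812],
   .loop (some (2, 2)) [.bwd 773, .fwd 741, .bwd 778, .bwd 777, .fwd 814],
   .define,
   .loop (some (1, 0)) [.bwd 818, .bwd 809, .fwd 654, .bwd 653, .bwd 756],
   .define,
   .loop (some (2, 2)) [.bwd 770, .fwd 785, .fwd 788, .bwd 767, .fwd 820],
   .define,
   .loop (some (0, 2)) [.fwd 763, .bwd 764, .fwd 775, .bwd 777, .fwd 814, .bwd 816, .fwd 822],
   .loop (some (1, 2)) [.bwd 694, .fwd 704, .bwd 815, .bwd 816, .fwd 822],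
   .loop (some (2, 2)) [.fwd 805, .fwd 772, .bwd 817, .bwd 816, .fwd 822],
   .define,
   .loop (some (54, 10)) [.bwd 822, .bwd 813, .bwd 803, .bwd 571, .bwd 93, .bwd 100, .bwd 102, .fwd 103, .fwd 165, .fwd 167, .fwd 164, .fwd 177, .fwd 178, .fwd 180, .bwd 255, .bwd 253, .fwd 378, .fwd 826],
   .define,
   .loop (some (54, 10)) [.bwd 814, .bwd 759, .fwd 754, .bwd 564, .bwd 101, .bwd 96, .fwd 94, .fwd 96, .bwd 242, .fwd 243, .bwd 241, .fwd 240, .fwd 219, .bwd 259, .fwd 260, .fwd 262, .fwd 386, .fwd 828],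
   .define,
   .loop (some (0, 2)) [.fwd 769, .bwd 770, .fwd 785, .bwd 787, .fwd 796, .bwd 807, .fwd 830],
   .loop (some (1, 2)) [.bwd 610, .bwd 708, .bwd 797, .bwd 807, .fwd 830],
   .loop (some (2, 2)) [.bwd 819, .fwd 781, .bwd 798, .bwd 807, .fwd 830],
   .define,
   .loop (some (54, 9)) [.bwd 387, .bwd 276, .fwd 198, .bwd 195, .bwd 194, .fwd 159, .bwd 157, .bwd 155, .bwd 123, .fwd 130, .bwd 129, .fwd 109, .bwd 652, .fwd 809, .fwd 810, .fwd 830, .fwd 833, .fwd 834],
   .define,
   .loop (some (54, 9)) [.fwd 380, .fwd 281, .fwd 275, .fwd 304, .fwd 306, .fwd 246, .fwd 248, .fwd 247, .fwd 145, .fwd 147, .bwd 145, .fwd 138, .bwd 635, .bwd 748, .bwd 747, .fwd 769, .bwd 821, .fwd 836],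
   .define,
   .define,
   .loop (some (17, 1)) [.bwd 253, .fwd 378, .fwd 826, .fwd 827, .fwd 825, .fwd 838, .fwd 839],
   .define,
   .loop (some (27, 10)) [.bwd 838, .bwd 804, .fwd 813, .bwd 811, .fwd 810, .fwd 808, .fwd 804, .fwd 838, .fwd 839, .fwd 840, .bwd 253, .fwd 378, .fwd 394, .fwd 410, .fwd 411, .fwd 421, .fwd 422, .fwd 420, .fwd 391, .fwd 793, .fwd 795, .bwd 798, .fwd 841],
   .define,
   .loop (some (17, 2)) [.bwd 841, .fwd 798, .bwd 795, .bwd 793, .fwd 393, .fwd 298, .fwd 843],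
   .loop (some (27, 17)) [.fwd 840, .bwd 253, .fwd 378, .fwd 826, .fwd 827, .fwd 824, .bwd 694, .fwd 704, .fwd 705, .fwd 695, .bwd 776, .bwd 775, .bwd 739, .bwd 733, .bwd 736, .fwd 737, .fwd 775, .bwd 780, .fwd 794, .bwd 793, .fwd 393, .fwd 298, .fwd 843],
   .define,
   .loop (some (3, 3)) [.bwd 845, .bwd 843, .bwd 288, .fwd 278, .fwd 846],
   .define,
   .loop (some (17, 1)) [.fwd 788, .fwd 789, .fwd 790, .bwd 381, .bwd 303, .fwd 846, .fwd 848],
   .define,
   .loop (some (2, 0)) [.bwd 850, .bwd 848, .fwd 847, .bwd 845, .fwd 844],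
   .loop (some (27, 9)) [.bwd 850, .fwd 849, .bwd 785, .bwd 736, .fwd 737, .bwd 739, .bwd 733, .fwd 785, .bwd 849, .bwd 848, .bwd 846, .fwd 303, .fwd 381, .bwd 415, .bwd 419, .bwd 422, .bwd 421, .bwd 411, .bwd 412, .bwd 388, .fwd 828, .fwd 829, .fwd 817],
   .define,
   .loop (some (2, 1)) [.bwd 853, .bwd 851, .fwd 842, .fwd 839, .bwd 847],
   .loop (some (17, 1)) [.fwd 262, .fwd 386, .fwd 828, .fwd 829, .fwd 817, .fwd 852, .fwd 853],
   .define,
   .loop (some (3, 5)) [.bwd 856, .fwd 845, .fwd 840, .bwd 257, .bwd 264],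
   .define,
   .loop (some (17, 2)) [.bwd 857, .fwd 266, .bwd 384, .fwd 783, .fwd 784, .bwd 801, .fwd 858],
   .define,
   .loop (some (27, 9)) [.bwd 860, .bwd 858, .bwd 799, .bwd 751, .bwd 752, .bwd 747, .fwd 746, .fwd 799, .fwd 858, .fwd 859, .bwd 857, .fwd 266, .bwd 384, .fwd 400, .fwd 402, .fwd 403, .fwd 410, .fwd 411, .fwd 409, .fwd 388, .bwd 835, .bwd 834, .bwd 833],
   .define,
   .loop (some (3, 1)) [.bwd 862, .fwd 291, .bwd 289, .fwd 843, .fwd 856],
   .define,
   .loop (some (3, 5)) [.bwd 864, .bwd 863, .bwd 857, .bwd 263, .bwd 268],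
   .define,
   .loop (some (3, 3)) [.fwd 850, .bwd 852, .bwd 773, .fwd 741, .fwd 866],
   .loop (some (17, 2)) [.bwd 865, .bwd 270, .fwd 390, .fwd 779, .fwd 780, .fwd 778, .fwd 866],
   .define,
   .loop (some (3, 3)) [.fwd 860, .bwd 861, .fwd 831, .fwd 769, .fwd 869],
   .loop (some (3, 1)) [.bwd 869, .bwd 770, .fwd 785, .bwd 849, .bwd 867],
   .define,
   .loop (some (3, 3)) [.bwd 854, .bwd 846, .bwd 279, .bwd 284, .fwd 872],
   .loop (some (3, 1)) [.bwd 872, .bwd 283, .fwd 290, .fwd 862, .fwd 864],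
   .loop (some (17, 2)) [.bwd 869, .bwd 821, .fwd 836, .fwd 837, .fwd 380, .fwd 285, .fwd 872],
   .define,
   .define,
   .loop (some (23, 4)) [.fwd 602, .bwd 608, .bwd 750, .fwd 763, .bwd 801, .fwd 858, .fwd 859, .bwd 857, .fwd 264, .bwd 256, .fwd 228, .bwd 225, .bwd 218, .bwd 237, .bwd 372, .bwd 426, .fwd 432, .fwd 447, .fwd 454, .fwd 458, .bwd 522, .fwd 876, .fwd 877],
   .define,
   .loop (some (64, 2)) [.bwd 876, .bwd 519, .fwd 517, .fwd 530, .bwd 528, .fwd 528, .fwd 879],
   .define,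
   .loop (some (23, 21)) [.bwd 609, .fwd 806, .fwd 807, .fwd 798, .bwd 795, .bwd 793, .fwd 393, .bwd 297, .fwd 198, .bwd 195, .fwd 310, .bwd 324, .fwd 710, .fwd 711, .fwd 712, .bwd 551, .bwd 547, .fwd 546, .fwd 494, .bwd 506, .bwd 529, .fwd 879, .fwd 881],
   .loop (some (63, 2)) [.bwd 877, .bwd 880, .fwd 881],
   .define,
   .loop (some (3, 3)) [.fwd 880, .bwd 876, .fwd 520, .fwd 489, .fwd 884],
   .define,
   .loop (some (23, 4)) [.fwd 614, .bwd 595, .bwd 812, .fwd 822, .fwd 825, .fwd 838, .fwd 839, .fwd 840, .fwd 255, .bwd 180, .bwd 178, .fwd 182, .bwd 214, .fwd 215, .fwd 370, .fwd 424, .fwd 435, .bwd 438, .bwd 442, .fwd 451, .bwd 491, .fwd 884, .fwd 886],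
   .define,
   .loop (some (3, 1)) [.bwd 888, .bwd 504, .fwd 528, .fwd 879, .bwd 885],
   .define,
   .loop (some (23, 21)) [.fwd 708, .bwd 761, .fwd 787, .fwd 788, .fwd 789, .fwd 790, .bwd 381, .bwd 300, .bwd 293, .fwd 307, .fwd 313, .fwd 316, .fwd 720, .bwd 722, .bwd 721, .fwd 542, .fwd 481, .bwd 480, .bwd 475, .bwd 508, .bwd 509, .fwd 888, .fwd 890],
   .loop (some (63, 2)) [.bwd 886, .fwd 889, .fwd 890],
   .define,
   .loop (some (3, 5)) [.bwd 893, .bwd 880, .bwd 879, .bwd 530, .bwd 532],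
   .define,
   .loop (some (23, 21)) [.bwd 698, .fwd 745, .bwd 831, .fwd 833, .fwd 834, .fwd 835, .bwd 387, .bwd 277, .fwd 275, .fwd 304, .fwd 317, .fwd 320, .bwd 715, .bwd 717, .bwd 716, .bwd 555, .fwd 538, .bwd 537, .fwd 523, .fwd 526, .fwd 533, .fwd 894, .fwd 895],
   .define,
   .loop (some (3, 3)) [.bwd 889, .bwd 884, .bwd 490, .bwd 484, .fwd 897],
   .define]

/-- justifications -/
noncomputable def just6 : List Cert.Just :=
  [.loop (some (23, 3)) [.bwd 897, .bwd 486, .bwd 485, .bwd 454, .bwd 447, .fwd 433, .fwd 434, .bwd 428, .fwd 377, .fwd 218, .fwd 225, .bwd 228, .fwd 256, .bwd 264, .fwd 266, .bwd 384, .fwd 783, .fwd 784, .bwd 763, .fwd 750, .fwd 696, .fwd 697, .fwd 899],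
   .define,
   .loop (some (3, 2)) [.bwd 501, .fwd 503, .fwd 888, .bwd 898, .fwd 901],
   .define,
   .loop (some (2, 3)) [.bwd 892, .bwd 890, .bwd 898, .fwd 901, .fwd 903],
   .loop (some (23, 21)) [.bwd 701, .fwd 731, .fwd 770, .bwd 821, .fwd 836, .fwd 837, .fwd 380, .bwd 280, .fwd 189, .fwd 190, .fwd 321, .fwd 324, .bwd 730, .bwd 727, .bwd 723, .bwd 548, .fwd 547, .bwd 543, .bwd 498, .bwd 535, .bwd 536, .bwd 902, .fwd 903],
   .loop (some (63, 2)) [.fwd 900, .fwd 901, .fwd 903],
   .loop (some (9, 0)) [.bwd 906, .fwd 904, .bwd 892, .bwd 890, .bwd 889, .fwd 885, .fwd 880, .fwd 893, .fwd 895],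
   .define,
   .loop (some (0, 2)) [.bwd 901, .fwd 898, .bwd 889, .fwd 885, .fwd 880, .fwd 893, .fwd 908],
   .loop (some (3, 2)) [.bwd 515, .fwd 519, .fwd 876, .fwd 893, .fwd 908],
   .define,
   .loop (some (3, 3)) [.fwd 883, .fwd 878, .fwd 602, .fwd 686, .fwd 911],
   .loop (some (3, 1)) [.bwd 911, .fwd 687, .fwd 674, .fwd 899, .bwd 907],
   .loop (some (23, 3)) [.fwd 910, .bwd 515, .bwd 514, .fwd 442, .fwd 438, .fwd 436, .bwd 435, .bwd 424, .bwd 370, .fwd 214, .fwd 182, .fwd 178, .fwd 180, .bwd 255, .bwd 253, .fwd 378, .fwd 826, .fwd 827, .bwd 822, .fwd 812, .fwd 612, .bwd 688, .fwd 911],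
   .define,
   .define,
   .loop (some (17, 1)) [.bwd 522, .fwd 876, .fwd 877, .fwd 878, .bwd 693, .fwd 915, .fwd 916],
   .define,
   .loop (some (27, 17)) [.fwd 917, .bwd 522, .fwd 876, .fwd 877, .fwd 878, .fwd 601, .bwd 569, .fwd 574, .bwd 575, .fwd 581, .bwd 676, .bwd 674, .fwd 649, .bwd 646, .fwd 642, .bwd 598, .fwd 600, .bwd 878, .bwd 883, .bwd 881, .bwd 879, .fwd 529, .fwd 918],
   .define,
   .loop (some (3, 3)) [.bwd 919, .bwd 918, .bwd 505, .bwd 508, .fwd 920],
   .define,
   .loop (some (17, 2)) [.bwd 920, .bwd 509, .fwd 888, .fwd 890, .fwd 891, .bwd 709, .fwd 922],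
   .define,
   .loop (some (3, 2)) [.bwd 451, .fwd 456, .bwd 917, .bwd 921, .fwd 924],
   .define,
   .loop (some (17, 2)) [.fwd 925, .bwd 491, .fwd 884, .fwd 886, .fwd 887, .bwd 706, .fwd 926],
   .loop (some (27, 12)) [.fwd 923, .bwd 920, .bwd 509, .fwd 888, .bwd 889, .bwd 884, .fwd 491, .bwd 925, .bwd 927, .bwd 926, .bwd 815, .bwd 816, .fwd 822, .fwd 823, .fwd 763, .fwd 765, .bwd 611, .fwd 608, .bwd 606, .fwd 658, .fwd 659, .fwd 704, .fwd 926],
   .define,
   .loop (some (3, 5)) [.bwd 929, .fwd 919, .fwd 917, .bwd 458, .fwd 459],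
   .define,
   .loop (some (17, 2)) [.bwd 930, .fwd 511, .bwd 910, .bwd 914, .bwd 911, .fwd 688, .fwd 931],
   .define,
   .loop (some (3, 1)) [.bwd 933, .bwd 527, .bwd 506, .fwd 918, .fwd 929],
   .define,
   .loop (some (27, 12)) [.bwd 935, .bwd 933, .fwd 533, .fwd 894, .fwd 908, .fwd 910, .bwd 511, .fwd 930, .bwd 932, .bwd 931, .bwd 765, .bwd 764, .fwd 775, .bwd 777, .fwd 814, .fwd 815, .bwd 704, .bwd 618, .fwd 620, .fwd 623, .bwd 622, .fwd 611, .fwd 931],
   .define,
   .loop (some (3, 5)) [.bwd 937, .bwd 934, .bwd 930, .fwd 461, .fwd 463],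
   .define,
   .loop (some (3, 3)) [.bwd 928, .bwd 926, .fwd 705, .fwd 695, .fwd 939],
   .loop (some (17, 2)) [.bwd 938, .fwd 482, .fwd 897, .bwd 900, .bwd 899, .bwd 697, .fwd 939],
   .define,
   .loop (some (3, 3)) [.bwd 924, .bwd 920, .bwd 507, .bwd 535, .fwd 942],
   .loop (some (3, 1)) [.bwd 942, .bwd 534, .fwd 526, .fwd 933, .fwd 937],
   .define,
   .loop (some (3, 1)) [.bwd 945, .bwd 678, .fwd 680, .fwd 922, .bwd 940],
   .loop (some (17, 2)) [.bwd 942, .bwd 536, .bwd 902, .fwd 903, .fwd 905, .fwd 703, .fwd 945],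
   .define,
   .define,
   .loop (some (23, 4)) [.fwd 590, .fwd 560, .fwd 647, .fwd 674, .bwd 697, .fwd 939, .fwd 941, .bwd 938, .bwd 463, .fwd 478, .fwd 479, .bwd 478, .fwd 463, .fwd 482, .fwd 897, .bwd 900, .bwd 899, .bwd 674, .bwd 647, .fwd 575, .bwd 580, .fwd 948, .fwd 949],
   .define,
   .loop (some (64, 2)) [.fwd 950, .bwd 589, .bwd 584, .fwd 575, .bwd 574, .fwd 574, .fwd 951],
   .define,
   .loop (some (17, 1)) [.fwd 593, .bwd 950, .bwd 949, .bwd 948, .fwd 580, .fwd 951, .fwd 953],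
   .loop (some (63, 2)) [.fwd 949, .bwd 952, .fwd 953],
   .define,
   .loop (some (3, 3)) [.fwd 952, .fwd 950, .fwd 590, .fwd 576, .fwd 956],
   .loop (some (23, 3)) [.bwd 956, .bwd 577, .fwd 565, .fwd 615, .bwd 616, .bwd 706, .fwd 926, .fwd 927, .fwd 925, .fwd 452, .bwd 488, .bwd 487, .bwd 485, .fwd 459, .fwd 511, .bwd 910, .bwd 914, .bwd 911, .bwd 686, .bwd 603, .fwd 583, .fwd 582, .fwd 956],
   .define,
   .loop (some (2, 0)) [.bwd 959, .fwd 958, .fwd 957, .fwd 952, .bwd 949],
   .loop (some (3, 2)) [.bwd 569, .fwd 574, .fwd 951, .bwd 957, .fwd 959],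
   .define,
   .loop (some (3, 5)) [.bwd 962, .fwd 955, .bwd 948, .bwd 579, .fwd 586],
   .define,
   .loop (some (0, 2)) [.bwd 952, .bwd 957, .fwd 959, .bwd 960, .bwd 955, .fwd 962, .fwd 964],
   .loop (some (2, 2)) [.fwd 965, .bwd 952, .fwd 953, .fwd 962, .fwd 964],
   .loop (some (3, 2)) [.bwd 583, .fwd 591, .bwd 954, .fwd 962, .fwd 964],
   .define,
   .loop (some (12, 1)) [.bwd 968, .bwd 865, .fwd 269, .fwd 865, .fwd 968],
   .define,
   .loop (some (62, 4)) [.fwd 875, .bwd 871, .fwd 868, .fwd 968, .fwd 970],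
   .define,
   .loop (some (12, 1)) [.fwd 971, .bwd 872, .bwd 318, .bwd 715, .fwd 972],
   .define,
   .loop (some (62, 4)) [.fwd 711, .bwd 718, .fwd 717, .fwd 972, .fwd 974],
   .loop (some (64, 6)) [.fwd 974, .bwd 974, .fwd 973, .bwd 970, .fwd 969, .fwd 970, .bwd 973],
   .loop (some (66, 17)) [.bwd 456, .bwd 441, .bwd 8, .fwd 39, .fwd 43, .bwd 69, .fwd 71, .bwd 75, .bwd 74, .fwd 59, .fwd 60, .bwd 58, .fwd 23, .bwd 21, .bwd 18, .bwd 7, .fwd 441, .fwd 514, .fwd 517, .fwd 537, .fwd 555, .fwd 716, .fwd 718, .bwd 711, .bwd 975, .bwd 974, .fwd 973, .bwd 970, .bwd 968, .bwd 865, .bwd 270],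
   .loop (some (31, 3)) [.bwd 779, .bwd 390, .fwd 977, .bwd 522, .fwd 876],
   .loop (some (46, 5)) [.bwd 706, .bwd 815, .fwd 817, .fwd 852, .fwd 853, .fwd 855, .bwd 265, .fwd 266, .fwd 230, .bwd 232, .fwd 977, .fwd 457, .bwd 435, .bwd 424, .bwd 396],
   .loop (some (46, 0)) [.fwd 417, .bwd 375, .fwd 223, .bwd 233, .fwd 977, .bwd 522, .fwd 521, .fwd 522, .bwd 917, .bwd 916, .bwd 915, .bwd 824, .fwd 825, .bwd 804, .bwd 802],
   .loop (some (53, 5)) [.bwd 468, .fwd 467, .bwd 465, .bwd 430, .bwd 375, .bwd 233, .fwd 977, .bwd 456, .fwd 451, .fwd 452, .bwd 464],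
   .loop (some (53, 5)) [.fwd 213, .fwd 215, .fwd 370, .fwd 424, .fwd 435, .bwd 457, .bwd 977, .bwd 231, .bwd 212, .bwd 211, .bwd 209],
   .loop (some (31, 3)) [.bwd 778, .bwd 780, .bwd 978, .fwd 877, .fwd 878],
   .loop (some (33, 8)) [.fwd 398, .fwd 399, .fwd 979, .fwd 614, .fwd 600, .fwd 983, .bwd 744, .fwd 799, .fwd 980, .bwd 416, .fwd 407],
   .loop (some (43, 9)) [.bwd 697, .bwd 776, .bwd 780, .bwd 779, .bwd 420, .bwd 418, .bwd 980, .fwd 800, .bwd 593, .bwd 591, .fwd 583, .bwd 967, .fwd 966, .fwd 967, .bwd 676],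
   .define,
   .loop (some (43, 8)) [.bwd 986, .fwd 688, .bwd 765, .bwd 784, .bwd 783, .fwd 400, .fwd 401, .fwd 984, .bwd 397, .bwd 426, .bwd 425, .fwd 427, .fwd 435, .fwd 436, .bwd 435],
   .define,
   .loop (some (43, 0)) [.bwd 988, .bwd 428, .bwd 376, .bwd 374, .bwd 370, .fwd 215, .fwd 370, .bwd 396, .fwd 979, .bwd 706, .bwd 815, .bwd 829, .bwd 828, .bwd 409, .bwd 408],
   .define,
   .loop (some (46, 1)) [.fwd 967, .fwd 582, .bwd 742, .bwd 983, .bwd 693, .bwd 824, .fwd 825, .fwd 838, .fwd 839, .fwd 840, .fwd 254, .bwd 253, .bwd 208, .fwd 229, .fwd 990],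
   .define,
   .loop (some (46, 0)) [.bwd 992, .bwd 956, .bwd 582, .bwd 676, .fwd 985, .bwd 697, .bwd 776, .fwd 778, .fwd 866, .fwd 868, .bwd 865, .fwd 269, .bwd 270, .bwd 231, .bwd 212],
   .define,
   .loop (some (3, 3)) [.fwd 970, .bwd 973, .fwd 976, .fwd 974, .fwd 994],
   .loop (some (12, 2)) [.bwd 846, .bwd 323, .fwd 710, .bwd 975, .fwd 994],
   .define,
   .loop (some (46, 1)) [.fwd 465, .fwd 467, .fwd 468, .fwd 981, .fwd 482, .fwd 483, .bwd 482, .fwd 938, .bwd 941, .bwd 939, .bwd 776, .fwd 778, .bwd 741, .fwd 773, .fwd 997],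
   .loop (some (62, 3)) [.bwd 988, .bwd 428, .bwd 376, .fwd 430, .bwd 998],
   .loop (some (1, 0)) [.fwd 999, .bwd 988, .fwd 429, .bwd 425, .fwd 987],
   .define,
   .loop (some (12, 2)) [.fwd 925, .bwd 453, .fwd 434, .fwd 988, .fwd 1001],
   .define,
   .loop (some (62, 4)) [.bwd 923, .bwd 928, .fwd 927, .bwd 1002, .fwd 1003],
   .define,
   .loop (some (12, 1)) [.bwd 992, .bwd 956, .bwd 742, .fwd 866, .fwd 1005],
   .define,
   .define,
   .loop (some (1, 2)) [.bwd 429, .fwd 431, .bwd 998, .bwd 1000, .fwd 1008],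
   .define,
   .loop (some (12, 2)) [.bwd 930, .fwd 460, .bwd 432, .bwd 1009, .fwd 1010],
   .define,
   .loop (some (62, 4)) [.fwd 935, .bwd 936, .fwd 932, .bwd 1011, .fwd 1012],
   .define,
   .loop (some (1, 3)) [.bwd 1003, .fwd 1002, .bwd 943, .bwd 944, .fwd 1014],
   .loop (some (12, 1)) [.fwd 998, .fwd 465, .fwd 468, .fwd 938, .fwd 1014],
   .define,
   .loop (some (1, 3)) [.bwd 1012, .fwd 1011, .bwd 929, .fwd 919, .fwd 1017],
   .define,
   .loop (some (12, 1)) [.fwd 991, .fwd 967, .bwd 676, .fwd 899, .fwd 1019],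
   .define,
   .loop (some (31, 1)) [.fwd 1020, .bwd 990, .bwd 266, .fwd 857, .fwd 1021],
   .define,
   .loop (some (31, 1)) [.bwd 1023, .bwd 1021, .bwd 859, .bwd 858, .fwd 980],
   .define,
   .loop (some (11, 1)) [.fwd 998, .bwd 430, .bwd 417, .fwd 1024, .fwd 1025],
   .loop (some (43, 12)) [.bwd 1007, .bwd 1005, .bwd 866, .bwd 983, .fwd 601, .bwd 587, .bwd 586, .fwd 579, .fwd 948, .fwd 949, .fwd 950, .bwd 800, .fwd 980, .fwd 1024, .fwd 1025],
   .define,
   .loop (some (11, 2)) [.bwd 1007, .bwd 1005, .fwd 868, .fwd 968, .fwd 1028],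
   .define,
   .loop (some (12, 1)) [.fwd 1029, .bwd 1027, .bwd 1025, .bwd 1023, .fwd 1030],
   .define,
   .loop (some (11, 2)) [.bwd 900, .fwd 1019, .bwd 1022, .fwd 1030, .fwd 1032],
   .loop (some (17, 1)) [.bwd 1032, .fwd 1031, .bwd 1028, .fwd 969, .fwd 1028, .bwd 1031, .fwd 1032],
   .define,
   .define,
   .loop (some (26, 14)) [.fwd 902, .fwd 502, .bwd 498, .bwd 496, .bwd 488, .fwd 492, .fwd 528, .bwd 550, .fwd 723, .fwd 725, .fwd 722, .bwd 720, .fwd 316, .fwd 720, .fwd 728, .fwd 729, .bwd 728, .bwd 719, .bwd 713, .fwd 714, .fwd 713, .fwd 972, .fwd 973, .bwd 970, .fwd 1028, .bwd 1031, .fwd 1032, .fwd 1034, .fwd 1036],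
   .define,
   .define,
   .loop (some (62, 3)) [.bwd 1038, .bwd 711, .fwd 713, .bwd 717, .fwd 1039],
   .define,
   .loop (some (1, 3)) [.fwd 1040, .bwd 1038, .bwd 724, .fwd 725, .fwd 1041],
   .define,
   .loop (some (1, 2)) [.fwd 724, .bwd 718, .fwd 1039, .bwd 1042, .fwd 1043],
   .define,
   .loop (some (1, 5)) [.bwd 1045, .bwd 970, .bwd 968, .bwd 864, .bwd 863],
   .define,
   .loop (some (1, 1)) [.bwd 1047, .bwd 873, .bwd 874, .fwd 968, .bwd 995],
   .loop (some (12, 1)) [.bwd 1046, .bwd 857, .fwd 265, .bwd 855, .fwd 1047]]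

/-- justifications -/
noncomputable def just7 : List Cert.Just :=
  [.define,
   .loop (some (12, 1)) [.bwd 1041, .bwd 721, .bwd 540, .fwd 888, .fwd 1050],
   .define,
   .loop (some (1, 3)) [.fwd 1036, .fwd 1037, .bwd 909, .bwd 908, .fwd 1052],
   .loop (some (12, 1)) [.bwd 1039, .bwd 716, .fwd 557, .fwd 894, .fwd 1052],
   .define,
   .loop (some (24, 6)) [.bwd 1022, .fwd 1023, .bwd 1024, .fwd 418, .bwd 422, .bwd 423, .fwd 793, .bwd 794, .bwd 779, .bwd 390, .fwd 270, .fwd 865, .fwd 874, .bwd 971, .bwd 970, .fwd 1028, .bwd 1031, .fwd 1032, .fwd 1034, .bwd 1053, .bwd 1052, .fwd 908, .fwd 909, .fwd 903, .fwd 1055],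
   .define,
   .loop (some (66, 25)) [.bwd 1055, .bwd 903, .bwd 901, .bwd 897, .bwd 482, .bwd 463, .bwd 462, .bwd 33, .fwd 32, .fwd 31, .fwd 29, .fwd 30, .fwd 33, .bwd 44, .fwd 47, .bwd 45, .fwd 57, .fwd 55, .bwd 52, .fwd 50, .bwd 49, .bwd 24, .fwd 17, .bwd 179, .fwd 208, .fwd 982, .fwd 253, .bwd 840, .bwd 839, .fwd 1035, .fwd 1057],
   .loop (some (12, 0)) [.fwd 1058, .bwd 1055, .fwd 905, .bwd 786, .bwd 849],
   .define,
   .loop (some (1, 3)) [.fwd 1056, .bwd 1019, .bwd 907, .fwd 913, .fwd 1060],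
   .define,
   .define,
   .loop (some (1, 0)) [.bwd 1063, .bwd 1062, .bwd 885, .fwd 889, .fwd 1050],
   .loop (some (62, 4)) [.fwd 877, .bwd 883, .bwd 881, .fwd 1062, .fwd 1063],
   .define,
   .loop (some (1, 1)) [.bwd 1050, .bwd 898, .fwd 901, .bwd 1037, .fwd 1066],
   .loop (some (1, 5)) [.bwd 1066, .bwd 1036, .fwd 1033, .fwd 898, .bwd 889],
   .define,
   .loop (some (0, 1)) [.fwd 1053, .fwd 1036, .fwd 1066, .fwd 1067, .fwd 1064, .bwd 1063, .fwd 1069],
   .loop (some (1, 5)) [.bwd 1069, .fwd 1063, .fwd 1065, .fwd 893, .fwd 908],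
   .define,
   .loop (some (1, 1)) [.bwd 1017, .bwd 921, .fwd 924, .bwd 1002, .fwd 1072],
   .loop (some (1, 5)) [.bwd 1072, .fwd 1003, .fwd 1004, .fwd 921, .bwd 919],
   .define,
   .loop (some (0, 1)) [.fwd 1015, .bwd 1003, .fwd 1072, .fwd 1073, .fwd 1018, .bwd 1012, .fwd 1075],
   .loop (some (1, 5)) [.bwd 1075, .fwd 1012, .fwd 1013, .fwd 937, .fwd 944],
   .define,
   .loop (some (62, 0)) [.bwd 1078, .bwd 406, .bwd 376, .bwd 417, .fwd 1024],
   .define,
   .loop (some (49, 9)) [.bwd 1078, .bwd 406, .fwd 377, .bwd 216, .bwd 211, .bwd 209, .fwd 982, .fwd 213, .fwd 370, .fwd 424, .fwd 987, .bwd 986, .fwd 911, .fwd 1060, .fwd 1080],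
   .define,
   .loop (some (11, 1)) [.bwd 988, .bwd 428, .fwd 406, .fwd 1078, .fwd 1082],
   .loop (some (62, 3)) [.bwd 1025, .bwd 1024, .bwd 416, .fwd 1078, .fwd 1082],
   .define,
   .loop (some (11, 2)) [.bwd 1080, .bwd 1060, .fwd 914, .fwd 1071, .fwd 1085],
   .define,
   .loop (some (26, 11)) [.bwd 1049, .bwd 1048, .fwd 996, .bwd 846, .bwd 278, .bwd 189, .bwd 186, .fwd 180, .fwd 187, .fwd 278, .bwd 323, .fwd 710, .fwd 713, .bwd 717, .bwd 716, .fwd 558, .fwd 716, .fwd 718, .bwd 724, .fwd 725, .fwd 726, .bwd 725, .fwd 724, .bwd 718, .fwd 1039, .bwd 1054, .bwd 1070, .fwd 1085, .fwd 1087],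
   .define,
   .loop (some (12, 1)) [.bwd 1082, .bwd 1081, .bwd 1086, .fwd 1087, .fwd 1089],
   .define,
   .loop (some (31, 1)) [.bwd 408, .fwd 989, .bwd 1083, .bwd 1090, .fwd 1091],
   .define,
   .loop (some (11, 1)) [.bwd 1089, .fwd 1088, .bwd 1046, .bwd 859, .fwd 1093],
   .define,
   .loop (some (12, 1)) [.bwd 1093, .bwd 858, .fwd 800, .bwd 950, .fwd 1095],
   .define,
   .loop (some (43, 1)) [.bwd 953, .fwd 952, .bwd 965, .fwd 967, .fwd 582, .fwd 956, .fwd 992, .bwd 993, .bwd 262, .bwd 265, .fwd 857, .bwd 859, .fwd 1093, .bwd 1096, .fwd 1097],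
   .loop (some (49, 6)) [.bwd 1060, .fwd 914, .fwd 910, .bwd 511, .fwd 460, .bwd 432, .bwd 1009, .bwd 1008, .fwd 1000, .bwd 997, .fwd 774, .fwd 948, .fwd 949, .fwd 1095, .fwd 1097],
   .define,
   .loop (some (17, 2)) [.fwd 1099, .fwd 1080, .fwd 1081, .bwd 1078, .fwd 408, .bwd 1092, .fwd 1100],
   .define,
   .loop (some (1, 2)) [.fwd 907, .bwd 906, .fwd 1055, .bwd 1061, .fwd 1102],
   .define,
   .loop (some (12, 1)) [.fwd 1103, .fwd 896, .bwd 771, .fwd 869, .fwd 1104],
   .loop (some (24, 6)) [.fwd 1007, .bwd 1027, .fwd 1026, .bwd 1016, .bwd 1076, .bwd 1077, .bwd 947, .bwd 946, .fwd 941, .bwd 938, .fwd 482, .fwd 897, .fwd 901, .bwd 1037, .bwd 1036, .bwd 1032, .fwd 1031, .bwd 1028, .fwd 969, .bwd 995, .fwd 996, .fwd 854, .bwd 873, .fwd 875, .fwd 1104],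
   .define,
   .loop (some (1, 3)) [.bwd 1102, .bwd 1060, .fwd 912, .fwd 883, .fwd 1107],
   .define,
   .loop (some (1, 2)) [.bwd 851, .fwd 842, .fwd 1035, .fwd 1057, .fwd 1109],
   .loop (some (1, 0)) [.bwd 1109, .bwd 1059, .bwd 867, .fwd 871, .fwd 1104],
   .define,
   .loop (some (43, 15)) [.bwd 1112, .bwd 453, .bwd 433, .fwd 447, .bwd 466, .bwd 465, .bwd 430, .bwd 375, .bwd 233, .fwd 977, .bwd 522, .fwd 521, .fwd 876, .fwd 877, .fwd 1107],
   .loop (some (43, 8)) [.bwd 1112, .bwd 491, .bwd 513, .bwd 910, .bwd 914, .fwd 1060, .bwd 1099, .bwd 1097, .bwd 1095, .bwd 949, .bwd 955, .fwd 962, .bwd 963, .fwd 587, .bwd 961],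
   .loop (some (66, 18)) [.bwd 993, .bwd 262, .bwd 855, .bwd 853, .bwd 1110, .bwd 1111, .fwd 1105, .fwd 1103, .bwd 895, .fwd 908, .fwd 910, .bwd 511, .bwd 459, .fwd 455, .fwd 72, .fwd 227, .fwd 256, .fwd 287, .fwd 307, .fwd 313, .fwd 720, .fwd 728, .bwd 727, .bwd 1044, .bwd 1043, .bwd 1051, .bwd 1067, .bwd 1068, .bwd 884, .fwd 491, .fwd 1112],
   .loop (some (3, 0)) [.bwd 1115, .bwd 1113, .fwd 1108, .bwd 1102, .bwd 1099],
   .loop (some (1, 0)) [.fwd 1115, .bwd 992, .fwd 957, .fwd 952, .fwd 1095],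
   .define,
   .loop (some (1, 3)) [.bwd 1106, .bwd 1104, .fwd 870, .fwd 860, .fwd 1118],
   .define,
   .loop (some (3, 1)) [.bwd 1120, .fwd 1119, .bwd 1106, .fwd 1105, .bwd 1108],
   .loop (some (12, 2)) [.fwd 882, .bwd 832, .fwd 861, .fwd 1118, .fwd 1120],
   .define,
   .define,
   .loop (some (1, 2)) [.bwd 957, .fwd 959, .fwd 1114, .bwd 1117, .fwd 1124],
   .define,
   .loop (some (11, 2)) [.fwd 1101, .fwd 1098, .bwd 953, .bwd 1125, .fwd 1126],
   .define,
   .loop (some (23, 9)) [.fwd 1096, .fwd 1094, .fwd 1090, .fwd 1084, .fwd 1026, .fwd 998, .bwd 430, .fwd 376, .fwd 428, .bwd 434, .bwd 433, .bwd 432, .bwd 425, .fwd 987, .fwd 1000, .bwd 1026, .fwd 1027, .bwd 1007, .fwd 1006, .bwd 1116, .bwd 1101, .bwd 1127, .fwd 1128],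
   .define,
   .loop (some (24, 6)) [.fwd 1101, .fwd 1099, .fwd 1080, .fwd 1081, .bwd 1079, .fwd 1025, .fwd 1026, .fwd 999, .bwd 1083, .bwd 1090, .bwd 1094, .bwd 1096, .fwd 1124, .fwd 1125, .fwd 952, .bwd 949, .bwd 948, .fwd 580, .fwd 951, .bwd 957, .fwd 992, .bwd 1115, .bwd 1117, .bwd 1129, .fwd 1130],
   .define,
   .loop (some (2, 5)) [.bwd 1132, .fwd 1131, .fwd 1101, .fwd 1116, .bwd 1115],
   .define,
   .loop (some (62, 1)) [.bwd 1017, .bwd 919, .fwd 1074, .fwd 1123, .fwd 1134],
   .loop (some (66, 29)) [.bwd 1133, .fwd 1115, .bwd 993, .bwd 211, .fwd 210, .fwd 61, .fwd 62, .bwd 83, .bwd 85, .fwd 67, .fwd 85, .bwd 82, .bwd 73, .bwd 47, .fwd 44, .bwd 33, .fwd 30, .bwd 29, .bwd 31, .fwd 32, .fwd 33, .fwd 462, .fwd 478, .bwd 477, .bwd 475, .fwd 474, .fwd 505, .fwd 918, .fwd 1074, .fwd 1123, .fwd 1134],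
   .loop (some (26, 9)) [.bwd 1135, .fwd 1136, .bwd 1133, .bwd 1113, .fwd 1121, .fwd 1122, .fwd 882, .bwd 609, .fwd 658, .fwd 659, .bwd 618, .fwd 620, .fwd 701, .bwd 786, .bwd 849, .fwd 850, .fwd 853, .fwd 855, .fwd 262, .fwd 386, .fwd 388, .fwd 389, .fwd 391, .fwd 392, .bwd 383, .fwd 382, .fwd 379, .fwd 405, .fwd 404, .fwd 403],
   .loop none [.bwd 1137],
   .loop none [.fwd 1017, .bwd 1138, .bwd 394],
   .loop none [.bwd 1139],
   .loop none [.bwd 917, .bwd 1140, .bwd 378],
   .loop none [.bwd 1141],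
   .loop none [.fwd 456, .bwd 1142, .bwd 208],
   .loop none [.bwd 1143],
   .loop none [.fwd 441, .bwd 1144, .fwd 179],
   .loop none [.fwd 1145],
   .loop none [.bwd 15, .bwd 1146, .fwd 7],
   .loop none [.bwd 1147],
   .loop none [.fwd 1148, .bwd 11, .bwd 1148, .bwd 1],
   .loop none [.fwd 1148, .bwd 13, .bwd 1148, .fwd 18],
   .loop none [.bwd 1149],
   .loop none [.bwd 18, .bwd 1151, .bwd 0],
   .loop none [.fwd 1150, .bwd 1151],
   .loop none [.fwd 1153, .bwd 1152],
   .loop none [.fwd 0, .bwd 1154]]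

/-- justifications -/
noncomputable def justs : List Cert.Just := just0 ++ just1 ++ just2 ++ just3 ++ just4 ++ just5 ++ just6 ++ just7

end CfsgLib.Spor.HSLocal.TcBad1
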