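import Cfsg.Agent.Lib.PresCert.Check

/-!
Coset table certificate (generated data).
-/

namespace CfsgLib.Spor.HSLocal.TcBad2

open CfsgLib.PresCert

noncomputable def tab : BTree := (.leaf 0x11cc004a8000000000880002800000000068000200000000004800018000000000280001000000000008000080000)

noncomputable def par : BTree := (.node (.leaf 0x500003000000000040001d000000000020001a00000000004000170000000000300015000000000010001900000000002000180000000000300017000000000000001600000000002000140000000000400008000000000010001300000000004000120000000000300009000000000020000f000000000020000e000000000010000e0000000000400003000000000000000a000000000000000b000000000040000a00000000003000070000000000400006000000000000000700000000005000020000000000100005000000000030000100000000001000020000000000000001000000000020000100000000005000000000000000000000) (.leaf 0x2000240000000000300025000000000040001f000000000040002300000000002000200000000000400021000000000020001f000000000000001f))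

noncomputable def fact : BTree := (.node (.node (.node (.leaf 0x250000b50000b000240000a20000b000230000b30000b000220000b40000a000210000a30000700020000091000090001f000090000090001e000092000090001d000094000060001c000082000080001b000081000070001a0000800000700019000074000070001800007200007000170000750000200016000062000060001500006300003000140000500000600013000061000050001200005500005000110000540000500010000052000050000f000053000010000e000042000030000d000020000040000c000041000020000b000011000030000a000030000010000900002300002000080000140000200007000022000010000600001500000) (.leaf 0x940000050000000093000016000000009200001600000000910000b60000100090000046000010008f0000f6000040008e0001c6000040008d000036000010008c0000c60000b0008b0000f60000c0008a0001160000d000890001c600003000880001760000e000870000f600004000860001660000f)) (.node (.leaf 0x65000232000200006400010500022000630002240002100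06200021300021000610002120001f000600001b5000200005f0002000001f0005e0001f5000030005d0001e00001e0005c0001220001e0005b0001e40001d0005a0001d000018000590001d100018000580001630001d000570001d20001a000560001c00001c000550001b20001c000540001c30001c000530001c400017000520001b10001b000510001b00001b000500001a40001b0004f0001b3000150004e0001a3000110004d0001900001a0004c0001a1000190004b000194000190004a000103000190004900019200018000480001840001800047000183000170004600013200017) (.leaf 0x0))) (.node (.node (.leaf 0x4500017100016000440001700001600043000164000160004200016200014000410001500001500040000152000150003f000154000080003e0001430000f0003d000144000140003c000130000140003b000141000130003a0000e300013000390001340001200038000121000120003700012000012000360001230000900035000101000110003400011000010000330000d400011000320001120000f000310000c400010000300001020000e0002f0000440000f0002e0000e00000f0002d0000f10000e0002c0000e4000030002b0000830000d0002a0000c20000d000290000d10000a000280000d00000a000270000c30000c000260000c00000b)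 (.leaf 0x0)) (.node (.leaf 0x850001c6000040008400003600001000830001b600003000820000c60000b000810001e60000c00080000196000160007f0001a60000e0007e0001160000d0007d0001760001a0007c0001960000f0007b000186000110007a0001b600003000790002060001f000780001e60000c0007700016600019000760001a60000e0007500018600011000740001d600010000730002060001f0007200023600021000710001d60001000070000236000210006f000246000220006e000246000220006d000276000260006c000276000260006b000272000240006a000262000220006900026300025000680002540001f000670001d5000240006600024400023) (.leaf 0x0))))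

/-- the certificate -/
noncomputable def cert : Cert where
  n := 1
  v := 39
  g := 6
  inv := [0, 1, 2, 3, 4, 5]
  rels := [[1, 0, 1, 0, 1, 0, 1, 0], [1, 0, 3, 1, 0, 3], [1, 0, 2, 1, 0, 2], [1, 0, 4, 1, 0, 4], [0, 1, 0, 1, 0, 1, 0, 1], [0, 1, 3, 0, 1, 3], [0, 1, 2, 0, 1, 2], [0, 1, 4, 0, 1, 4], [1, 0, 1, 0, 3, 0, 1, 0, 1, 3], [1, 0, 1, 0, 2, 0, 1, 0, 1, 2], [1, 0, 1, 0, 4, 0, 1, 0, 1, 4], [3, 2, 3, 2, 3, 2], [3, 4, 3, 4, 3, 4], [1, 0, 3, 1, 0, 2, 3, 2, 3, 2], [1, 0, 3, 4, 3, 4, 3, 1, 0, 4], [0, 1, 3, 0, 1, 2, 3, 2, 3, 2], [0, 1, 3, 4, 3, 4, 3, 0, 1, 4], [2, 4, 2, 4, 2, 4, 2, 4], [1, 0, 1, 0, 3, 4, 3, 4, 3, 0, 1, 0, 1, 4], [1, 0, 1, 0, 2, 3, 2, 3, 2, 0, 1, 0, 1, 3], [1, 0, 2, 1, 0, 4, 2, 4, 2, 4, 2, 4], [0, 1, 2, 0, 1, 4, 2, 4, 2, 4, 2, 4], [3, 2, 3, 2, 4, 3, 4, 3, 4, 2], [1, 2, 4, 2, 4, 1, 2, 3, 0, 2, 4, 2, 4, 0, 2, 3, 2, 0, 2, 4, 2, 4, 0, 3], [1, 3, 0, 1, 2, 3, 0, 2, 4, 2,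 4, 0, 3, 2, 0, 2, 4, 2, 4, 0, 3, 0, 2, 4, 2, 4], [0, 1, 2, 0, 1, 0, 2, 4, 2, 4, 0, 3, 0, 2, 4, 2, 4, 0, 2, 3, 2, 0, 2, 4, 2, 4, 0, 3], [1, 0, 1, 0, 1, 0, 3, 4, 0, 2, 4, 2, 4, 0, 3, 4, 0, 2, 4, 2, 4, 0, 3, 4, 0, 2, 4, 2, 4, 0], [1, 0, 1, 0, 3, 0, 2, 4, 2, 4, 0, 4, 0, 2, 4, 2, 4, 0, 4, 2, 4, 2, 4, 3], [1, 0, 1, 0, 3, 4, 3, 0, 2, 4, 2, 4, 0, 2, 4, 2, 0, 2, 4, 2, 4, 0, 3, 4], [1, 0, 1, 0, 3, 4, 2, 4, 2, 4, 0, 2, 4, 2, 4, 0, 4, 0, 2, 4, 2, 4, 0, 3], [5, 3, 5, 3, 5, 3], [5, 2, 4, 5, 2, 4], [5, 4, 2, 5, 4, 2], [1, 0, 5, 1, 0, 5, 0, 1, 5, 0, 1, 5], [1, 0, 5, 3, 5, 3, 5, 1, 0, 3], [1, 0, 5, 2, 5, 0, 1, 5, 4, 5], [1, 0, 5, 2, 4, 5, 0, 1, 2, 4], [1, 0, 5, 4, 2, 5, 0, 1, 4, 2], [1, 0, 5, 4, 2, 5, 4, 1, 0, 2], [1, 0, 2, 1, 0, 4, 5, 2, 4, 5], [5, 3, 2, 5, 2, 3, 5, 2, 5, 2, 3, 2, 5, 2, 3], [5, 3, 2, 5, 4, 5, 3, 2, 5, 4, 5, 3, 4, 5, 2], [5, 3, 2, 5, 4, 5, 3, 4, 5, 2, 5, 3, 4, 5, 2], [5, 3, 2,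 0, 1, 4, 2, 4, 3, 5, 2, 3, 4, 2, 3, 4], [5, 3, 2, 4, 0, 1, 2, 4, 3, 5, 4, 3, 2, 4, 3, 2], [5, 3, 4, 2, 0, 1, 4, 2, 3, 5, 4, 3, 2, 4, 3, 2], [5, 3, 4, 2, 3, 5, 2, 3, 2, 4, 2, 4, 3, 2, 0, 1], [5, 3, 4, 2, 3, 5, 2, 3, 4, 2, 4, 2, 0, 1, 3, 2], [5, 3, 4, 2, 3, 5, 2, 3, 4, 2, 4, 2, 3, 2, 0, 1], [5, 3, 4, 2, 3, 5, 4, 3, 2, 4, 2, 3, 4, 3, 0, 1], [5, 3, 4, 2, 3, 5, 4, 3, 2, 4, 2, 4, 0, 1, 3, 4], [5, 3, 4, 2, 3, 0, 1, 0, 1, 5, 2, 3, 0, 1, 3, 4, 2, 4], [5, 3, 4, 2, 3, 2, 5, 2, 5, 2, 0, 1, 0, 1, 5, 2, 0, 1], [5, 0, 1, 0, 1, 5, 3, 2, 4, 2, 4, 3], [3, 4, 2, 5, 3, 2, 0, 2, 4, 2, 4, 0, 2, 3, 5, 2, 4, 3, 4], [5, 2, 4, 3, 0, 1, 0, 1, 3, 4, 2, 5, 3, 2, 4, 2, 4, 3], [5, 3, 2, 0, 2, 4, 2, 4, 0, 2, 3, 5, 2, 3, 2], [0, 1, 0, 1, 4, 0, 1, 0, 1, 4], [0, 1, 0, 1, 3, 0, 1, 0, 1, 3], [3, 2, 3, 2, 3, 4, 2, 4, 2, 4, 2, 4], [3, 2, 3, 4, 3, 2, 4, 3, 4, 2, 3, 4], [3, 2, 3, 4, 2, 3, 2, 4, 2, 3, 2, 4], [0, 2, 3,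 0, 3, 2], [0, 2, 0, 2], [0, 4, 0, 4, 0, 4, 1, 0], [0, 3, 0, 3], [5, 0, 5, 2, 4, 3, 0, 4, 0, 2, 3, 0, 4, 0, 3, 4, 2, 5, 0, 5, 4, 3, 2, 4, 2, 0]]
  subs := [[0], [1], [2], [3], [4]]
  tab := tab
  par := par
  fact := fact
  nfact := 143

/-- justifications -/
noncomputable def just0 : List Cert.Just :=
  [.define,
   .define,
   .loop (some (31, 2)) [.bwd 0, .edge 2, .edge 4, .fwd 0, .fwd 1],
   .loop (some (56, 13)) [.bwd 1, .bwd 0, .edge 3, .edge 2, .edge 0, .edge 2, .edge 4, .edge 2, .edge 4, .edge 0, .edge 2, .edge 3, .fwd 0, .fwd 1],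
   .define,
   .loop (some (46, 15)) [.bwd 0, .edge 3, .edge 4, .edge 2, .edge 3, .fwd 0, .fwd 1, .fwd 3, .bwd 1, .bwd 2, .bwd 1, .bwd 2, .fwd 3, .bwd 1, .fwd 4],
   .define,
   .loop (some (2, 1)) [.bwd 1, .bwd 5, .bwd 4, .fwd 1, .fwd 6],
   .loop (some (63, 3)) [.fwd 7, .bwd 1, .fwd 4],
   .define,
   .loop (some (11, 1)) [.bwd 9, .fwd 1, .fwd 3, .bwd 1, .fwd 9],
   .loop (some (12, 1)) [.bwd 9, .bwd 2, .fwd 3, .fwd 2, .fwd 9],
   .loop (some (30, 2)) [.bwd 9, .bwd 0, .edge 3, .fwd 0, .fwd 9],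
   .define,
   .loop (some (1, 1)) [.bwd 9, .bwd 5, .bwd 4, .fwd 9, .fwd 13],
   .loop (some (62, 2)) [.fwd 14, .bwd 9, .fwd 1, .bwd 7, .bwd 8],
   .loop (some (63, 3)) [.fwd 14, .fwd 10, .bwd 14],
   .define,
   .loop (some (40, 7)) [.bwd 17, .bwd 1, .fwd 9, .fwd 10, .fwd 12, .fwd 10, .bwd 9, .bwd 0, .edge 3, .edge 2, .fwd 0, .fwd 1, .fwd 3, .fwd 17],
   .loop (some (41, 4)) [.bwd 17, .fwd 3, .bwd 1, .bwd 0, .edge 4, .fwd 0, .fwd 9, .fwd 11, .fwd 12, .fwd 10, .fwd 12, .bwd 9, .fwd 1, .fwd 17],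
   .define,
   .loop (some (35, 0)) [.bwd 20, .bwd 17, .bwd 1, .bwd 0, .edge 0, .edge 1, .fwd 0, .bwd 2, .fwd 17],
   .loop (some (63, 1)) [.bwd 20, .fwd 18, .fwd 20],
   .define,
   .loop (some (54, 9)) [.bwd 23, .fwd 14, .fwd 10, .bwd 9, .bwd 0, .edge 2, .edge 4, .edge 3, .edge 4, .edge 3, .edge 4, .edge 2, .fwd 0, .fwd 9, .fwd 10, .bwd 14, .fwd 16, .fwd 23],
   .loop (some (64, 2)) [.bwd 23, .fwd 14, .fwd 11, .fwd 13, .fwd 14, .bwd 14, .fwd 23],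
   .loop (some (64, 6)) [.fwd 25, .fwd 25, .bwd 23, .fwd 14, .fwd 11, .bwd 14, .fwd 23],
   .define,
   .define,
   .loop (some (12, 2)) [.bwd 28, .bwd 27, .fwd 19, .fwd 27, .fwd 28],
   .loop (some (43, 13)) [.bwd 27, .fwd 19, .bwd 17, .fwd 3, .bwd 1, .fwd 4, .fwd 5, .bwd 2, .bwd 1, .bwd 2, .fwd 3, .fwd 17, .fwd 18, .fwd 27, .fwd 28],
   .loop (some (40, 3)) [.fwd 30, .bwd 27, .bwd 17, .bwd 1, .bwd 0, .edge 2, .edge 3, .edge 2, .fwd 0, .fwd 1, .fwd 3, .fwd 17, .fwd 27, .bwd 30],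
   .define,
   .loop (some (65, 1)) [.bwd 32, .fwd 29, .fwd 32],
   .define,
   .loop (some (1, 0)) [.bwd 34, .bwd 27, .fwd 21, .bwd 20, .fwd 27],
   .loop (some (62, 1)) [.fwd 33, .bwd 32, .fwd 29, .fwd 30, .fwd 34],
   .loop (some (62, 4)) [.fwd 22, .bwd 20, .fwd 18, .fwd 27, .fwd 34],
   .define,
   .define,
   .loop (some (3, 1)) [.bwd 38, .fwd 5, .fwd 4, .fwd 38, .fwd 39],
   .loop (some (64, 1)) [.fwd 7, .fwd 2, .fwd 4, .fwd 38, .fwd 39, .fwd 40, .bwd 40],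
   .define,
   .loop (some (54, 10)) [.bwd 32, .fwd 30, .bwd 27, .bwd 17, .bwd 1, .bwd 2, .fwd 3, .fwd 2, .fwd 9, .fwd 11, .fwd 10, .fwd 12, .bwd 9, .fwd 1, .bwd 7, .bwd 8, .fwd 38, .fwd 42],
   .define,
   .loop (some (17, 1)) [.fwd 36, .bwd 43, .bwd 42, .bwd 38, .fwd 8, .bwd 41, .fwd 44],
   .loop (some (27, 17)) [.fwd 45, .fwd 36, .bwd 43, .bwd 42, .bwd 38, .fwd 15, .bwd 13, .bwd 14, .bwd 13, .bwd 14, .bwd 15, .bwd 4, .fwd 1, .fwd 2, .fwd 1, .fwd 2, .fwd 4, .fwd 38, .bwd 40, .fwd 44, .fwd 45, .fwd 36, .bwd 43],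
   .loop (some (3, 0)) [.fwd 46, .fwd 45, .bwd 35, .fwd 34, .bwd 45],
   .define,
   .loop (some (62, 3)) [.bwd 48, .fwd 24, .fwd 25, .fwd 24, .fwd 48],
   .loop (some (1, 0)) [.fwd 49, .bwd 48, .fwd 26, .fwd 25, .fwd 48],
   .define,
   .loop (some (12, 2)) [.bwd 38, .fwd 15, .fwd 23, .fwd 48, .fwd 51],
   .define,
   .loop (some (1, 1)) [.fwd 52, .fwd 39, .fwd 40, .bwd 52, .fwd 53],
   .loop (some (64, 1)) [.fwd 54, .bwd 51, .fwd 49, .fwd 51, .fwd 53, .fwd 54, .bwd 54],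
   .loop (some (62, 2)) [.fwd 54, .fwd 52, .fwd 42, .fwd 46, .bwd 44],
   .define,
   .loop (some (23, 3)) [.bwd 57, .bwd 21, .fwd 18, .fwd 27, .fwd 34, .fwd 36, .bwd 43, .bwd 42, .bwd 38, .bwd 4, .fwd 1, .fwd 3, .bwd 1, .fwd 4, .fwd 8, .bwd 41, .fwd 44, .fwd 45, .bwd 34, .bwd 27, .fwd 21, .fwd 22, .fwd 57],
   .loop (some (64, 2)) [.bwd 57, .bwd 20, .fwd 19, .fwd 21, .bwd 20, .fwd 20, .fwd 57],
   .define,
   .loop (some (26, 10)) [.bwd 60, .fwd 55, .fwd 54, .fwd 52, .bwd 38, .bwd 4, .fwd 1, .fwd 2, .fwd 1, .fwd 2, .fwd 4, .fwd 15, .fwd 23, .fwd 25, .fwd 24, .bwd 23, .fwd 16, .fwd 23, .fwd 25, .fwd 26, .fwd 25, .fwd 26, .fwd 25, .fwd 26, .fwd 25, .fwd 48, .fwd 51, .bwd 54, .fwd 60],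
   .define,
   .loop (some (2, 0)) [.bwd 62, .bwd 60, .bwd 53, .bwd 54, .fwd 60],
   .loop (some (62, 1)) [.fwd 52, .bwd 40, .fwd 56, .fwd 60, .fwd 62],
   .define,
   .loop (some (60, 11)) [.bwd 65, .fwd 64, .fwd 52, .bwd 38, .fwd 15, .fwd 16, .fwd 23, .fwd 48, .fwd 51, .bwd 64, .fwd 65],
   .define,
   .loop (some (11, 2)) [.bwd 42, .bwd 52, .bwd 64, .fwd 65, .fwd 67],
   .loop (some (22, 4)) [.fwd 68, .fwd 43, .fwd 33, .bwd 43, .bwd 42, .bwd 52, .bwd 64, .fwd 65, .fwd 67],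
   .define,
   .loop (some (1, 1)) [.fwd 68, .bwd 47, .bwd 46, .bwd 68, .fwd 70],
   .loop (some (62, 2)) [.fwd 71, .fwd 68, .bwd 42, .bwd 40, .fwd 44],
   .define,
   .loop (some (12, 1)) [.bwd 72, .fwd 45, .fwd 37, .fwd 57, .fwd 73],
   .loop (some (62, 3)) [.bwd 73, .fwd 58, .fwd 59, .fwd 58, .fwd 73],
   .loop (some (3, 0)) [.fwd 75, .fwd 74, .bwd 70, .bwd 71, .bwd 74],
   .define,
   .loop (some (12, 2)) [.bwd 77, .fwd 65, .fwd 66, .bwd 65, .fwd 77],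
   .loop (some (23, 3)) [.fwd 74, .bwd 70, .bwd 67, .bwd 65, .bwd 62, .bwd 60, .fwd 55, .fwd 60, .fwd 61, .fwd 62, .fwd 64, .fwd 52, .fwd 42, .fwd 46, .bwd 44, .fwd 41, .bwd 8, .fwd 38, .bwd 40, .fwd 56, .bwd 53, .bwd 64, .fwd 77],
   .loop (some (64, 2)) [.bwd 77, .bwd 62, .fwd 61, .fwd 63, .bwd 62, .fwd 62, .fwd 77],
   .define,
   .loop (some (11, 2)) [.bwd 60, .bwd 56, .fwd 44, .fwd 72, .fwd 81],
   .loop (some (23, 0)) [.bwd 81, .bwd 74, .bwd 79, .bwd 77, .bwd 63, .bwd 60, .bwd 56, .fwd 40, .fwd 42, .fwd 43, .bwd 36, .bwd 45, .bwd 46, .bwd 42, .bwd 52, .bwd 64, .bwd 62, .bwd 60, .fwd 55, .fwd 60, .fwd 61, .fwd 62, .fwd 65],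
   .loop (some (23, 17)) [.bwd 81, .bwd 74, .bwd 79, .bwd 77, .bwd 62, .bwd 82, .bwd 83, .fwd 67, .fwd 69, .bwd 67, .fwd 66, .fwd 83, .bwd 81, .bwd 72, .bwd 46, .bwd 42, .bwd 38, .fwd 8, .bwd 41, .fwd 40, .fwd 42, .bwd 68, .bwd 67],
   .define,
   .loop (some (17, 2)) [.fwd 51, .bwd 64, .fwd 77, .fwd 79, .fwd 74, .fwd 81, .fwd 85],
   .loop (some (23, 13)) [.fwd 86, .bwd 48, .fwd 24, .fwd 25, .fwd 24, .bwd 23, .fwd 16, .fwd 23, .fwd 25, .fwd 48, .fwd 50, .bwd 86, .bwd 85, .bwd 81, .bwd 74, .fwd 76, .bwd 79, .fwd 78, .fwd 80, .fwd 79, .fwd 74, .fwd 81, .fwd 85],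
   .define,
   .define,
   .loop (some (66, 2)) [.bwd 79, .bwd 77, .fwd 65, .fwd 84, .fwd 85, .fwd 87, .fwd 86, .bwd 48, .fwd 25, .bwd 23, .fwd 14, .bwd 9, .bwd 2, .bwd 1, .bwd 0, .edge 0, .fwd 0, .bwd 2, .fwd 3, .bwd 1, .bwd 2, .bwd 1, .fwd 4, .fwd 88, .fwd 89],
   .define,
   .loop (some (56, 13)) [.bwd 91, .bwd 88, .fwd 15, .fwd 16, .fwd 14, .fwd 10, .fwd 11, .fwd 10, .fwd 11, .bwd 14, .fwd 16, .bwd 15, .fwd 88, .fwd 91],
   .define,
   .loop (some (31, 3)) [.bwd 42, .bwd 38, .fwd 88, .fwd 91, .fwd 93],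
   .define,
   .define,
   .loop (some (31, 3)) [.bwd 81, .bwd 74, .bwd 90, .fwd 95, .fwd 96],
   .define,
   .define,
   .loop (some (43, 10)) [.bwd 99, .bwd 98, .fwd 91, .fwd 92, .fwd 93, .fwd 94, .bwd 68, .bwd 67, .fwd 84, .bwd 83, .fwd 66, .fwd 67, .fwd 69, .fwd 68, .bwd 94],
   .define,
   .loop (some (66, 22)) [.bwd 101, .bwd 96, .bwd 95, .bwd 89, .bwd 88, .bwd 4, .bwd 0, .edge 2, .edge 4, .edge 3, .edge 0, .edge 4, .edge 0, .edge 2, .edge 3, .edge 0, .edge 4, .edge 0, .edge 3, .edge 4, .edge 2, .fwd 0, .fwd 4, .fwd 88, .fwd 98, .fwd 99],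
   .loop none [.bwd 102],
   .loop none [.fwd 101, .bwd 103, .bwd 100],
   .loop none [.bwd 104],
   .loop none [.fwd 96, .bwd 105, .bwd 93],
   .loop none [.bwd 97, .bwd 105, .fwd 94],
   .loop none [.bwd 106],
   .loop none [.fwd 95, .bwd 108, .bwd 91],
   .loop none [.bwd 107],
   .loop none [.fwd 84, .bwd 110, .fwd 46],
   .loop none [.fwd 81, .bwd 110, .bwd 42],
   .loop none [.bwd 82, .bwd 110, .bwd 68],
   .loop none [.bwd 85, .bwd 110, .fwd 43],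
   .loop none [.bwd 109],
   .loop none [.bwd 90, .bwd 115, .bwd 88],
   .loop none [.bwd 111],
   .loop none [.bwd 67, .bwd 117, .bwd 44],
   .loop none [.fwd 65, .bwd 117, .fwd 72],
   .loop none [.fwd 117, .bwd 66, .bwd 117, .fwd 45],
   .loop none [.bwd 112],
   .loop none [.fwd 113],
   .loop none [.bwd 114],
   .loop none [.fwd 123, .bwd 87, .bwd 123, .bwd 32],
   .loop none [.bwd 116],
   .loop none [.fwd 125, .bwd 75, .bwd 125, .bwd 4],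
   .loop none [.fwd 79, .bwd 125, .fwd 8],
   .loop none [.fwd 122, .bwd 118],
   .loop none [.fwd 128, .bwd 61, .bwd 128, .fwd 41],
   .loop none [.bwd 119, .bwd 121],
   .loop none [.bwd 77, .bwd 130, .bwd 38],
   .loop none [.bwd 120],
   .loop none [.fwd 44, .bwd 132, .fwd 36],
   .loop none [.bwd 124],
   .loop none [.bwd 126],
   .loop none [.bwd 127],
   .loop none [.bwd 129],
   .loop none [.fwd 136, .bwd 131, .bwd 135],
   .loop none [.fwd 134, .fwd 133, .bwd 137, .bwd 138],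
   .loop none [.fwd 139, .bwd 31, .bwd 139, .bwd 0],
   .loop none [.bwd 140],
   .loop none [.fwd 0, .bwd 141]]

/-- justifications -/
noncomputable def justs : List Cert.Just := just0

end CfsgLib.Spor.HSLocal.TcBad2
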