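import Cfsg.Agent.Lib.PresCert.Check

/-!
Coset table certificate (generated data).
-/

namespace CfsgLib.Spor.HSLocal.TcBad4

open CfsgLib.PresCert

noncomputable def tab : BTree := (.leaf 0x150c00578000000000880002800000000068000200000000004800018000000000280001000000000008000080000)

noncomputable def par : BTree := (.node (.leaf 0x500003000000000040001d000000000020001a00000000004000170000000000300015000000000010001900000000002000180000000000300017000000000000001600000000002000140000000000400008000000000010001300000000004000120000000000300009000000000020000f000000000020000e000000000010000e0000000000400003000000000000000a000000000000000b000000000040000a00000000003000070000000000400006000000000000000700000000005000020000000000100005000000000030000100000000001000020000000000000001000000000020000100000000005000000000000000000000) (.leaf 0x40002000000000004000280000000000200024000000000040002500000000003000250000000000200022000000000040002300000000002000200000000000400021000000000020001f000000000000001f))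

noncomputable def fact : BTree := (.node (.node (.node (.leaf 0x250000c00000b000240000a20000b000230000b30000b000220000b40000a000210000a30000700020000091000090001f000090000090001e000092000090001d000094000060001c000082000080001b000081000070001a0000800000700019000074000070001800007200007000170000750000200016000062000060001500006300003000140000500000600013000061000050001200005500005000110000540000500010000052000050000f000053000010000e000042000030000d000020000040000c000041000020000b000011000030000a000030000010000900002300002000080000140000200007000022000010000600001500000) (.leaf 0xa500014600010000a40000a600007000a30000b60000a000a200008600007000a10001160000a000a0000116000140009f0001760000f0009e000106000010009d0000e6000020009c000086000050009b000066000050009a0000f6000010009900004600002000980000e6000170009700014600010000960001360001100095000064000080009400009600008000930001160000b0009200008600007000910000d60000a000900001160000d0008f000173000110008e000186000110008d0001760000f0008c0001c6000040008b0000e6000020008a000066000050008900004600002000880000360000100087000136000110008600009600008))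 (.node (.leaf 0x65000233000230006400023200020000630001050002200062000224000210006100021300021000600002120001f0005f0001b5000200005e0002000001f0005d0001f5000030005c0001e00001e0005b0001220001e0005a0001e40001d000590001d000018000580001d100018000570001630001d000560001d20001a000550001c00001c000540001b20001c000530001c30001c000520001c400017000510001b10001b000500001b00001b0004f0001a40001b0004e0001b3000150004d0001a3000110004c0001900001a0004b0001a1000190004a000194000190004900010300019000480001920001800047000184000180004600018300017) (.leaf 0x0))) (.node (.node (.leaf 0x4500013200017000440001710001600043000170000160004200016400016000410001620001400040000150000150003f000152000150003e000154000080003d0001430000f0003c000144000140003b000130000140003a00014100013000390000e300013000380001340001200037000121000120003600012000012000350001230000900034000101000110003300011000010000320000d400011000310001120000f000300000c4000100002f0001020000e0002e0000440000f0002d0000e00000f0002c0000f10000e0002b0000e4000030002a0000830000d000290000c20000d000280000d10000a000270000d00000a000260000c30000c)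 (.leaf 0xae00000500000000ad00001600000000ac00005600001000ab0000a600001000aa00010600001000a900007600005000a800007600000000a700002600001000a60000f600002)) (.node (.leaf 0x850000d60000a000840001260000d0008300018600011000820001d600010000810001c60000400080000036000010007f0001b6000030007e0001260000d0007d000296000270007c0001d6000100007b000246000220007a0001b600003000790002060001f000780002960002700077000246000220007600028600025000750002060001f0007400028600025000730002a600026000720002a600026000710002a300028000700002a4000200006f000125000290006e000294000280006d000282000240006c0000d5000270006b000274000250006a0001f40002600069000263000250006800025200022000670001d5000240006600024400023) (.leaf 0x0))))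

/-- the certificate -/
noncomputable def cert : Cert where
  n := 1
  v := 42
  g := 6
  inv := [0, 1, 2, 3, 4, 5]
  rels := [[1, 0, 1, 0, 1, 0, 1, 0], [1, 0, 3, 1, 0, 3], [1, 0, 2, 1, 0, 2], [1, 0, 4, 1, 0, 4], [0, 1, 0, 1, 0, 1, 0, 1], [0, 1, 3, 0, 1, 3], [0, 1, 2, 0, 1, 2], [0, 1, 4, 0, 1, 4], [1, 0, 1, 0, 3, 0, 1, 0, 1, 3], [1, 0, 1, 0, 2, 0, 1, 0, 1, 2], [1, 0, 1, 0, 4, 0, 1, 0, 1, 4], [3, 2, 3, 2, 3, 2], [3, 4, 3, 4, 3, 4], [1, 0, 3, 1, 0, 2, 3, 2, 3, 2], [1, 0, 3, 4, 3, 4, 3, 1, 0, 4], [0, 1, 3, 0, 1, 2, 3, 2, 3, 2], [0, 1, 3, 4, 3, 4, 3, 0, 1, 4], [2, 4, 2, 4, 2, 4, 2, 4], [1, 0, 1, 0, 3, 4, 3, 4, 3, 0, 1, 0, 1, 4], [1, 0, 1, 0, 2, 3, 2, 3, 2, 0, 1, 0, 1, 3], [1, 0, 2, 1, 0, 4, 2, 4, 2, 4, 2, 4], [0, 1, 2, 0, 1, 4, 2, 4, 2, 4, 2, 4], [3, 2, 3, 2, 4, 3, 4, 3, 4, 2], [1, 2, 4, 2, 4, 1, 2, 3, 0, 2, 4, 2, 4, 0, 2, 3, 2, 0, 2, 4, 2, 4, 0, 3], [1, 3, 0, 1, 2, 3, 0, 2, 4, 2, 4, 0, 3, 2, 0,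 2, 4, 2, 4, 0, 3, 0, 2, 4, 2, 4], [0, 1, 2, 0, 1, 0, 2, 4, 2, 4, 0, 3, 0, 2, 4, 2, 4, 0, 2, 3, 2, 0, 2, 4, 2, 4, 0, 3], [1, 0, 1, 0, 1, 0, 3, 4, 0, 2, 4, 2, 4, 0, 3, 4, 0, 2, 4, 2, 4, 0, 3, 4, 0, 2, 4, 2, 4, 0], [1, 0, 1, 0, 3, 0, 2, 4, 2, 4, 0, 4, 0, 2, 4, 2, 4, 0, 4, 2, 4, 2, 4, 3], [1, 0, 1, 0, 3, 4, 3, 0, 2, 4, 2, 4, 0, 2, 4, 2, 0, 2, 4, 2, 4, 0, 3, 4], [1, 0, 1, 0, 3, 4, 2, 4, 2, 4, 0, 2, 4, 2, 4, 0, 4, 0, 2, 4, 2, 4, 0, 3], [5, 3, 5, 3, 5, 3], [5, 2, 4, 5, 2, 4], [5, 4, 2, 5, 4, 2], [1, 0, 5, 1, 0, 5, 0, 1, 5, 0, 1, 5], [1, 0, 5, 3, 5, 3, 5, 1, 0, 3], [1, 0, 5, 2, 5, 0, 1, 5, 4, 5], [1, 0, 5, 2, 4, 5, 0, 1, 2, 4], [1, 0, 5, 4, 2, 5, 0, 1, 4, 2], [1, 0, 5, 4, 2, 5, 4, 1, 0, 2], [1, 0, 2, 1, 0, 4, 5, 2, 4, 5], [5, 3, 2, 5, 2, 3, 5, 2, 5, 2, 3, 2, 5, 2, 3], [5, 3, 2, 5, 4, 5, 3, 2, 5, 4, 5, 3, 4, 5, 2], [5, 3, 2, 5, 4, 5, 3, 4, 5, 2, 5, 3, 4, 5, 2], [5, 3, 2, 0, 1, 4, 2, 4, 3, 5, 2, 3, 4,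 2, 3, 4], [5, 3, 2, 4, 0, 1, 2, 4, 3, 5, 4, 3, 2, 4, 3, 2], [5, 3, 4, 2, 0, 1, 4, 2, 3, 5, 4, 3, 2, 4, 3, 2], [5, 3, 4, 2, 3, 5, 2, 3, 2, 4, 2, 4, 3, 2, 0, 1], [5, 3, 4, 2, 3, 5, 2, 3, 4, 2, 4, 2, 0, 1, 3, 2], [5, 3, 4, 2, 3, 5, 2, 3, 4, 2, 4, 2, 3, 2, 0, 1], [5, 3, 4, 2, 3, 5, 4, 3, 2, 4, 2, 3, 4, 3, 0, 1], [5, 3, 4, 2, 3, 5, 4, 3, 2, 4, 2, 4, 0, 1, 3, 4], [5, 3, 4, 2, 3, 0, 1, 0, 1, 5, 2, 3, 0, 1, 3, 4, 2, 4], [5, 3, 4, 2, 3, 2, 5, 2, 5, 2, 0, 1, 0, 1, 5, 2, 0, 1], [5, 0, 1, 0, 1, 5, 3, 2, 4, 2, 4, 3], [3, 4, 2, 5, 3, 2, 0, 2, 4, 2, 4, 0, 2, 3, 5, 2, 4, 3, 4], [5, 2, 4, 3, 0, 1, 0, 1, 3, 4, 2, 5, 3, 2, 4, 2, 4, 3], [5, 3, 2, 0, 2, 4, 2, 4, 0, 2, 3, 5, 2, 3, 2], [0, 1, 0, 1, 4, 0, 1, 0, 1, 4], [0, 1, 0, 1, 3, 0, 1, 0, 1, 3], [3, 2, 3, 2, 3, 4, 2, 4, 2, 4, 2, 4], [3, 2, 3, 4, 3, 2, 4, 3, 4, 2, 3, 4], [3, 2, 3, 4, 2, 3, 2, 4, 2, 3, 2, 4], [0, 2, 3, 0, 3, 2], [0, 2, 0, 2], [0, 4, 0, 4, 0, 4, 1,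 0], [0, 3, 0, 3], [5, 0, 5, 2, 4, 3, 0, 4, 0, 2, 3, 0, 4, 0, 3, 4, 2, 5, 0, 5, 2, 4, 2, 3, 4, 0]]
  subs := [[0], [1], [2], [3], [4]]
  tab := tab
  par := par
  fact := fact
  nfact := 169

/-- justifications -/
noncomputable def just0 : List Cert.Just :=
  [.define,
   .define,
   .loop (some (31, 2)) [.bwd 0, .edge 2, .edge 4, .fwd 0, .fwd 1],
   .loop (some (56, 13)) [.bwd 1, .bwd 0, .edge 3, .edge 2, .edge 0, .edge 2, .edge 4, .edge 2, .edge 4, .edge 0, .edge 2, .edge 3, .fwd 0, .fwd 1],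
   .define,
   .loop (some (46, 15)) [.bwd 0, .edge 3, .edge 4, .edge 2, .edge 3, .fwd 0, .fwd 1, .fwd 3, .bwd 1, .bwd 2, .bwd 1, .bwd 2, .fwd 3, .bwd 1, .fwd 4],
   .define,
   .loop (some (2, 1)) [.bwd 1, .bwd 5, .bwd 4, .fwd 1, .fwd 6],
   .loop (some (63, 3)) [.fwd 7, .bwd 1, .fwd 4],
   .define,
   .loop (some (11, 1)) [.bwd 9, .fwd 1, .fwd 3, .bwd 1, .fwd 9],
   .loop (some (12, 1)) [.bwd 9, .bwd 2, .fwd 3, .fwd 2, .fwd 9],
   .loop (some (30, 2)) [.bwd 9, .bwd 0, .edge 3, .fwd 0, .fwd 9],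
   .define,
   .loop (some (1, 1)) [.bwd 9, .bwd 5, .bwd 4, .fwd 9, .fwd 13],
   .loop (some (62, 2)) [.fwd 14, .bwd 9, .fwd 1, .bwd 7, .bwd 8],
   .loop (some (63, 3)) [.fwd 14, .fwd 10, .bwd 14],
   .define,
   .loop (some (40, 7)) [.bwd 17, .bwd 1, .fwd 9, .fwd 10, .fwd 12, .fwd 10, .bwd 9, .bwd 0, .edge 3, .edge 2, .fwd 0, .fwd 1, .fwd 3, .fwd 17],
   .loop (some (41, 4)) [.bwd 17, .fwd 3, .bwd 1, .bwd 0, .edge 4, .fwd 0, .fwd 9, .fwd 11, .fwd 12, .fwd 10, .fwd 12, .bwd 9, .fwd 1, .fwd 17],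
   .define,
   .loop (some (35, 0)) [.bwd 20, .bwd 17, .bwd 1, .bwd 0, .edge 0, .edge 1, .fwd 0, .bwd 2, .fwd 17],
   .loop (some (63, 1)) [.bwd 20, .fwd 18, .fwd 20],
   .define,
   .loop (some (54, 9)) [.bwd 23, .fwd 14, .fwd 10, .bwd 9, .bwd 0, .edge 2, .edge 4, .edge 3, .edge 4, .edge 3, .edge 4, .edge 2, .fwd 0, .fwd 9, .fwd 10, .bwd 14, .fwd 16, .fwd 23],
   .loop (some (64, 2)) [.bwd 23, .fwd 14, .fwd 11, .fwd 13, .fwd 14, .bwd 14, .fwd 23],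
   .loop (some (64, 6)) [.fwd 25, .fwd 25, .bwd 23, .fwd 14, .fwd 11, .bwd 14, .fwd 23],
   .define,
   .define,
   .loop (some (12, 2)) [.bwd 28, .bwd 27, .fwd 19, .fwd 27, .fwd 28],
   .loop (some (43, 13)) [.bwd 27, .fwd 19, .bwd 17, .fwd 3, .bwd 1, .fwd 4, .fwd 5, .bwd 2, .bwd 1, .bwd 2, .fwd 3, .fwd 17, .fwd 18, .fwd 27, .fwd 28],
   .define,
   .loop (some (65, 1)) [.bwd 31, .fwd 29, .fwd 31],
   .define,
   .loop (some (1, 0)) [.bwd 33, .bwd 27, .fwd 21, .bwd 20, .fwd 27],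
   .loop (some (62, 1)) [.fwd 32, .bwd 31, .fwd 29, .fwd 30, .fwd 33],
   .loop (some (62, 4)) [.fwd 22, .bwd 20, .fwd 18, .fwd 27, .fwd 33],
   .define,
   .define,
   .loop (some (3, 1)) [.bwd 37, .fwd 5, .fwd 4, .fwd 37, .fwd 38],
   .loop (some (64, 1)) [.fwd 7, .fwd 2, .fwd 4, .fwd 37, .fwd 38, .fwd 39, .bwd 39],
   .define,
   .loop (some (54, 10)) [.bwd 31, .fwd 30, .bwd 27, .bwd 17, .bwd 1, .bwd 2, .fwd 3, .fwd 2, .fwd 9, .fwd 11, .fwd 10, .fwd 12, .bwd 9, .fwd 1, .bwd 7, .bwd 8, .fwd 37, .fwd 41],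
   .define,
   .loop (some (17, 1)) [.fwd 35, .bwd 42, .bwd 41, .bwd 37, .fwd 8, .bwd 40, .fwd 43],
   .loop (some (27, 17)) [.fwd 44, .fwd 35, .bwd 42, .bwd 41, .bwd 37, .fwd 15, .bwd 13, .bwd 14, .bwd 13, .bwd 14, .bwd 15, .bwd 4, .fwd 1, .fwd 2, .fwd 1, .fwd 2, .fwd 4, .fwd 37, .bwd 39, .fwd 43, .fwd 44, .fwd 35, .bwd 42],
   .loop (some (3, 0)) [.fwd 45, .fwd 44, .bwd 34, .fwd 33, .bwd 44],
   .define,
   .loop (some (62, 3)) [.bwd 47, .fwd 24, .fwd 25, .fwd 24, .fwd 47],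
   .loop (some (1, 0)) [.fwd 48, .bwd 47, .fwd 26, .fwd 25, .fwd 47],
   .define,
   .loop (some (12, 2)) [.bwd 37, .fwd 15, .fwd 23, .fwd 47, .fwd 50],
   .define,
   .loop (some (1, 1)) [.fwd 51, .fwd 38, .fwd 39, .bwd 51, .fwd 52],
   .loop (some (64, 1)) [.fwd 53, .bwd 50, .fwd 48, .fwd 50, .fwd 52, .fwd 53, .bwd 53],
   .loop (some (62, 2)) [.fwd 53, .fwd 51, .fwd 41, .fwd 45, .bwd 43],
   .define,
   .loop (some (23, 3)) [.bwd 56, .bwd 21, .fwd 18, .fwd 27, .fwd 33, .fwd 35, .bwd 42, .bwd 41, .bwd 37, .bwd 4, .fwd 1, .fwd 3, .bwd 1, .fwd 4, .fwd 8, .bwd 40, .fwd 43, .fwd 44, .bwd 33, .bwd 27, .fwd 21, .fwd 22, .fwd 56],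
   .loop (some (64, 2)) [.bwd 56, .bwd 20, .fwd 19, .fwd 21, .bwd 20, .fwd 20, .fwd 56],
   .define,
   .loop (some (26, 10)) [.bwd 59, .fwd 54, .fwd 53, .fwd 51, .bwd 37, .bwd 4, .fwd 1, .fwd 2, .fwd 1, .fwd 2, .fwd 4, .fwd 15, .fwd 23, .fwd 25, .fwd 24, .bwd 23, .fwd 16, .fwd 23, .fwd 25, .fwd 26, .fwd 25, .fwd 26, .fwd 25, .fwd 26, .fwd 25, .fwd 47, .fwd 50, .bwd 53, .fwd 59],
   .define,
   .loop (some (2, 0)) [.bwd 61, .bwd 59, .bwd 52, .bwd 53, .fwd 59],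
   .loop (some (62, 1)) [.fwd 51, .bwd 39, .fwd 55, .fwd 59, .fwd 61],
   .define,
   .loop (some (60, 11)) [.bwd 64, .fwd 63, .fwd 51, .bwd 37, .fwd 15, .fwd 16, .fwd 23, .fwd 47, .fwd 50, .bwd 63, .fwd 64],
   .define,
   .loop (some (11, 2)) [.bwd 41, .bwd 51, .bwd 63, .fwd 64, .fwd 66],
   .loop (some (22, 4)) [.fwd 67, .fwd 42, .fwd 32, .bwd 42, .bwd 41, .bwd 51, .bwd 63, .fwd 64, .fwd 66],
   .define,
   .loop (some (1, 1)) [.fwd 67, .bwd 46, .bwd 45, .bwd 67, .fwd 69],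
   .loop (some (62, 2)) [.fwd 70, .fwd 67, .bwd 41, .bwd 39, .fwd 43],
   .define,
   .loop (some (12, 1)) [.bwd 71, .fwd 44, .fwd 36, .fwd 56, .fwd 72],
   .loop (some (62, 3)) [.bwd 72, .fwd 57, .fwd 58, .fwd 57, .fwd 72],
   .loop (some (3, 0)) [.fwd 74, .fwd 73, .bwd 69, .bwd 70, .bwd 73],
   .define,
   .loop (some (12, 2)) [.bwd 76, .fwd 64, .fwd 65, .bwd 64, .fwd 76],
   .loop (some (23, 3)) [.fwd 73, .bwd 69, .bwd 66, .bwd 64, .bwd 61, .bwd 59, .fwd 54, .fwd 59, .fwd 60, .fwd 61, .fwd 63, .fwd 51, .fwd 41, .fwd 45, .bwd 43, .fwd 40, .bwd 8, .fwd 37, .bwd 39, .fwd 55, .bwd 52, .bwd 63, .fwd 76],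
   .loop (some (64, 2)) [.bwd 76, .bwd 61, .fwd 60, .fwd 62, .bwd 61, .fwd 61, .fwd 76],
   .define,
   .loop (some (11, 2)) [.bwd 59, .bwd 55, .fwd 43, .fwd 71, .fwd 80],
   .loop (some (23, 0)) [.bwd 80, .bwd 73, .bwd 78, .bwd 76, .bwd 62, .bwd 59, .bwd 55, .fwd 39, .fwd 41, .fwd 42, .bwd 35, .bwd 44, .bwd 45, .bwd 41, .bwd 51, .bwd 63, .bwd 61, .bwd 59, .fwd 54, .fwd 59, .fwd 60, .fwd 61, .fwd 64],
   .loop (some (23, 17)) [.bwd 80, .bwd 73, .bwd 78, .bwd 76, .bwd 61, .bwd 81, .bwd 82, .fwd 66, .fwd 68, .bwd 66, .fwd 65, .fwd 82, .bwd 80, .bwd 71, .bwd 45, .bwd 41, .bwd 37, .fwd 8, .bwd 40, .fwd 39, .fwd 41, .bwd 67, .bwd 66],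
   .define,
   .loop (some (17, 2)) [.fwd 50, .bwd 63, .fwd 76, .fwd 78, .fwd 73, .fwd 80, .fwd 84],
   .loop (some (23, 13)) [.fwd 85, .bwd 47, .fwd 24, .fwd 25, .fwd 24, .bwd 23, .fwd 16, .fwd 23, .fwd 25, .fwd 47, .fwd 49, .bwd 85, .bwd 84, .bwd 80, .bwd 73, .fwd 75, .bwd 78, .fwd 77, .fwd 79, .fwd 78, .fwd 73, .fwd 80, .fwd 84],
   .define,
   .define,
   .loop (some (66, 2)) [.bwd 78, .bwd 76, .fwd 64, .fwd 83, .fwd 84, .fwd 86, .fwd 85, .bwd 47, .fwd 25, .bwd 23, .fwd 14, .bwd 9, .bwd 2, .bwd 1, .bwd 0, .edge 0, .fwd 0, .fwd 1, .fwd 2, .fwd 1, .fwd 3, .fwd 2, .fwd 4, .fwd 87, .fwd 88],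
   .define,
   .loop (some (56, 13)) [.bwd 90, .bwd 87, .fwd 15, .fwd 16, .fwd 14, .fwd 10, .fwd 11, .fwd 10, .fwd 11, .bwd 14, .fwd 16, .bwd 15, .fwd 87, .fwd 90],
   .define,
   .loop (some (31, 3)) [.bwd 41, .bwd 37, .fwd 87, .fwd 90, .fwd 92],
   .define,
   .loop (some (56, 13)) [.bwd 94, .fwd 89, .bwd 72, .fwd 57, .fwd 58, .fwd 57, .bwd 56, .fwd 22, .fwd 56, .fwd 58, .fwd 57, .fwd 72, .bwd 89, .fwd 94],
   .define,
   .loop (some (31, 3)) [.bwd 80, .bwd 73, .bwd 89, .fwd 94, .fwd 96],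
   .define,
   .define,
   .loop (some (43, 12)) [.fwd 90, .fwd 91, .fwd 92, .fwd 93, .bwd 67, .bwd 66, .fwd 83, .bwd 82, .fwd 65, .fwd 66, .fwd 68, .fwd 67, .bwd 93, .fwd 98, .fwd 99],
   .define,
   .loop (some (31, 3)) [.fwd 35, .bwd 42, .bwd 93, .fwd 98, .fwd 101],
   .define,
   .define,
   .loop (some (31, 3)) [.bwd 85, .bwd 84, .bwd 97, .fwd 103, .fwd 104],
   .define,
   .loop (some (43, 11)) [.bwd 106, .fwd 94, .fwd 95, .fwd 96, .fwd 97, .fwd 81, .bwd 59, .fwd 53, .fwd 52, .fwd 54, .fwd 59, .fwd 60, .bwd 81, .bwd 97, .fwd 103],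
   .loop (some (66, 24)) [.bwd 106, .bwd 88, .bwd 87, .bwd 4, .bwd 0, .edge 2, .edge 4, .edge 3, .edge 0, .edge 4, .edge 0, .edge 2, .edge 3, .edge 0, .edge 4, .edge 0, .edge 3, .edge 4, .edge 2, .fwd 0, .fwd 4, .fwd 87, .fwd 90, .fwd 92, .fwd 98, .fwd 99],
   .loop none [.bwd 108],
   .loop none [.fwd 107, .bwd 109, .bwd 99],
   .loop none [.fwd 106, .bwd 109, .fwd 100],
   .loop none [.bwd 110],
   .loop none [.fwd 103, .bwd 112, .bwd 98],
   .loop none [.bwd 104, .bwd 112, .fwd 101],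
   .loop none [.bwd 111],
   .loop none [.bwd 89, .bwd 115, .bwd 87],
   .loop none [.bwd 113],
   .loop none [.bwd 97, .bwd 117, .fwd 93],
   .loop none [.bwd 114],
   .loop none [.bwd 105, .bwd 119, .fwd 102],
   .loop none [.bwd 116],
   .loop none [.fwd 121, .bwd 74, .bwd 121, .bwd 4],
   .loop none [.fwd 78, .bwd 121, .fwd 8],
   .loop none [.bwd 118],
   .loop none [.fwd 83, .bwd 124, .fwd 45],
   .loop none [.bwd 120],
   .loop none [.fwd 126, .bwd 48, .bwd 126, .bwd 33],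
   .loop none [.fwd 47, .bwd 126, .fwd 36],
   .loop none [.bwd 50, .bwd 126, .bwd 44],
   .loop none [.bwd 122],
   .loop none [.bwd 8, .bwd 130, .fwd 1],
   .loop none [.bwd 15, .bwd 130, .fwd 9],
   .loop none [.bwd 37, .bwd 130, .bwd 2],
   .loop none [.bwd 123],
   .loop none [.fwd 76, .bwd 134, .bwd 40],
   .loop none [.bwd 125],
   .loop none [.fwd 64, .bwd 136],
   .loop none [.fwd 136, .bwd 65, .bwd 136, .fwd 44],
   .loop none [.bwd 127],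
   .loop none [.bwd 36, .bwd 139, .bwd 27],
   .loop none [.fwd 44, .bwd 139, .fwd 28],
   .loop none [.bwd 128],
   .loop none [.fwd 23, .bwd 142],
   .loop none [.bwd 129],
   .loop none [.fwd 53, .bwd 144, .bwd 45],
   .loop none [.bwd 51, .bwd 144, .fwd 137],
   .loop none [.bwd 131],
   .loop none [.fwd 40, .bwd 147, .fwd 2],
   .loop none [.bwd 132]]

/-- justifications -/
noncomputable def just1 : List Cert.Just :=
  [.loop none [.fwd 143, .bwd 149, .fwd 11],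
   .loop none [.bwd 133],
   .loop none [.bwd 41, .bwd 151, .bwd 1],
   .loop none [.bwd 135],
   .loop none [.fwd 137, .bwd 153, .fwd 55],
   .loop none [.bwd 138, .bwd 139],
   .loop none [.bwd 140],
   .loop none [.fwd 141, .bwd 155],
   .loop none [.fwd 157, .bwd 29, .bwd 157, .bwd 27],
   .loop none [.bwd 145],
   .loop none [.fwd 153, .fwd 146, .bwd 151],
   .loop none [.fwd 160, .bwd 148],
   .loop none [.bwd 17, .bwd 161, .bwd 0],
   .loop none [.fwd 156, .bwd 150],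
   .loop none [.bwd 152],
   .loop none [.fwd 155, .bwd 154, .bwd 159, .bwd 164],
   .loop none [.fwd 163, .fwd 158, .bwd 165],
   .loop none [.fwd 166, .fwd 163, .bwd 162],
   .loop none [.fwd 0, .bwd 167]]

/-- justifications -/
noncomputable def justs : List Cert.Just := just0 ++ just1

end CfsgLib.Spor.HSLocal.TcBad4
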