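import Cfsg.Agent.Lib.PresCert.Check

/-!
Coset table certificate (generated data).
-/

namespace CfsgLib.Spor.HSLocal.TcBad5

open CfsgLib.PresCert

noncomputable def tab : BTree := (.leaf 0x4c8c01358000000000880002800000000068000200000000004800018000000000280001000000000008000080000)

noncomputable def par : BTree := (.node (.node (.node (.leaf 0x20001e000000000040001c000000000050000f000000000030001b0000000000400015000000000040001900000000002000150000000000000017000000000020001400000000004000080000000000500003000000000010001300000000004000120000000000300009000000000020000f000000000020000e000000000010000e0000000000400003000000000000000a000000000000000b000000000040000a00000000003000070000000000400006000000000000000700000000005000020000000000100005000000000030000100000000001000020000000000000001000000000020000100000000005000000000000000000000) (.leaf 0x9e00000000005000360000000000400093000000000040009200000000002000990000000000000094000000000040002c00000000003000960000000000400034000000000040002f0000000000400094000000000030009100000000000000900000000000000091000000000020009000000000005000680000000000300086000000000040008d000000000000008c000000000030008b000000000020007f0000000000300087000000000000008700000000000000860000000000400086000000000050004c000000000030007b000000000030007a00000000004000360000000000400037000000000000007e000000000000007c))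 (.node (.leaf 0x59000000000000005c000000000020005c0000000000300029000000000000005a0000000000200059000000000030001d000000000000004b0000000000100041000000000030004f000000000010004b0000000000300051000000000030004e0000000000000051000000000010004d000000000000004f000000000010004e000000000050004d000000000000004a000000000020004a000000000030004a000000000040004900000000003000440000000000300047000000000020004600000000003000450000000000400043000000000050004000000000002000420000000000300041000000000050003d000000000000003b) (.leaf 0x1000cb00000000003000ca00000000000000c900000000002000c800000000003000c7000000000050009d00000000001000a800000000002000a600000000003000be00000000001000c200000000002000c100000000003000c000000000001000be))) (.node (.node (.leaf 0x3e000000000030001e0000000000300015000000000040003b000000000030002e0000000000000038000000000000001f0000000000400035000000000010001d000000000000001d0000000000500018000000000010001c0000000000000031000000000000001b0000000000400027000000000000002e000000000000001e000000000040002d0000000000200029000000000020002a000000000000002900000000001000290000000000400028000000000020002700000000001000150000000000400025000000000020002200000000004000180000000000300016000000000010002100000000002000200000000000300018)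 (.leaf 0xb700000000002000b700000000001000ad000000000050007a00000000001000b300000000004000b900000000000000b800000000001000ac00000000003000b600000000005000b400000000000000b4000000000030009e00000000002000ae00000000001000ae00000000002000ab000000000050009900000000003000a700000000000000ad00000000002000ac00000000004000aa00000000004000a900000000002000a900000000003000a1000000000020009f00000000004000a2000000000010009f00000000004000a4000000000020009e00000000002000a2000000000050008200000000002000a00000000000500033)) (.node (.leaf 0x30007e0000000000500070000000000030007c0000000000500062000000000020007a00000000004000600000000000200078000000000040005b0000000000000074000000000000007300000000000000470000000000300067000000000050005d00000000001000700000000000000070000000000020006d0000000000000048000000000010004500000000005000200000000000100048000000000010004400000000000000450000000000000049000000000040004f00000000004000630000000000100063000000000010004c000000000000006300000000003000620000000000200051000000000020004e000000000000005d)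 (.leaf 0x0))))

noncomputable def fact : BTree := (.node (.node (.node (.node (.node (.leaf 0x250000a20000b000240000b30000b000230000b40000a000220000a50000a000210000a30000700020000091000090001f000090000090001e000092000090001d000094000060001c000082000080001b000081000070001a0000800000700019000074000070001800007200007000170000750000200016000062000060001500006300003000140000500000600013000061000050001200005500005000110000540000500010000052000050000f000053000010000e000042000030000d000020000040000c000041000020000b000011000030000a000030000010000900002300002000080000140000200007000022000010000600001500000) (.leaf 0x225000286000190022400074600054002230005d600059002220005c60005a002210002e60001e002200003160001b0021f0002d60001c0021e000256000100021d000286000190021c0005c60005a0021b0002d60001c0021a0002960001a002190002960001a002180002b60002a002170002b60002a00216000cc6000ad00215000cc6000ad00214000cc50002b00213000cc1000cb00212000cb0000a600211000cb3000ca00210000ca1000b40020f000ca0000c90020e000a63000c90020d000c92000c80020c000c83000c70020b000c62000c70020a000c750009d00209000c53000c600208000c61000a800207000c34000c500206000c52000a6))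 (.node (.leaf 0x12500069100068001240006900004900123000672000680012200068300068001210006840004f00120000175000670011f000674000630011e0006620004d0011d000663000660011c0004c0000660011b000661000630011a000643000650011900062000065001180006510004c001170005020006400116000641000430011500064000063001140004f20006300113000633000620011200061100062001110006220005100110000430000610010f000613000610010e0006120004e0010d0005e2000600010c000601000590010b000373000600010a0006000005d001090003630005f001080005b20005f001070005f10005d001060005f000059) (.leaf 0x0))) (.node (.node (.leaf 0xa50003c40003b000a40003b20003b000a30003b30002e000a20003020003a000a10003a000038000a00002f2000390009f000391000380009e0003900001f0009d000383000380009c0002e2000380009b000384000350009a000372000330009900035000037000980003710001d00097000322000360009600036100035000950003600001d00094000312000350009300035500018000920003420002b0009100034300033000900002d0000340008f0003410001c0008e000324000330008d0003310001b0008c000330000310008b0002c3000320008a00032100031000890003200001b000880003130002d0008700031400027000860003010001e)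 (.leaf 0x0)) (.node (.leaf 0x1a50009640002f001a40009520008f001a300095400094001a20007d500094001a100094300091001a0000922000930019f000931000910019e000930000900019d000921000900019c000920000910019b000914000910019a00091500063001990009120009000198000904000900019700090500068001960008610008700195000896000870019400087600089001930008600008600192000886000860019100086600088001900008f50008f0018f0008c40008f0018e0008f00008f0018d0008a10008f0018c0008f3000860018b0008d30008e0018a0008320008e001890008e40008d001880008220008d001870008d00008c001860007d20008c) (.leaf 0x0)))) (.node (.node (.node (.leaf 0x6500024300024000640002440001800063000231000230006200023000023000610002240002300060000233000160005f000223000110005e000210000220005d000221000210005c000214000210005b000103000210005a0002120002000059000204000200005800020300018000570001f30001f000560001d40001f000550001f20001e000540000d50001e000530001e40001c000520001b20001d000510001d50000f000500001c20001a0004f0001c30001b0004e0001b4000150004d0001050001a0004c0001a4000190004b000190000190004a000193000190004900019200015000480001320001800047000181000170004600018000017)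 (.leaf 0x2650000b600001002640001d6000000026300004600001002620004f60001d002610001d500004002600000e6000040025f000246000040025e000036000010025d0005160004f0025c0006d60004f0025b0001e60000a0025a0000a60000b002590000d60000a002580001d50000e002570000f60000e002560000c60000b002550006d60001e002540000d40000d002530000f60000c002520001160000d0025100024600003002500001860000e0024f0005160001d0024e0000f6000040024d0001760000f0024c000246000040024b000036000010024a0002360000300249000175000510024800067600051002470004f6000510024600056600054)) (.node (.leaf 0x1650008010007e001640008000007c001630003a40007f001620007f50007f001610007f30007e001600007e40007e0015f0007c20007e0015e0007e5000700015d0003940007d0015c0007d30007c0015b0007c40007c0015a0007c500062001590007b10007b001580007a10007a001570007a00007b001560005f40007b001550007b20007a001540007a400060001530007910007900152000780000790015100078300079001500005e4000790014f000792000780014e0007840005b0014d000772000770014c0006c3000770014b000770000740014a00076200076001490006e30007600148000761000470014700076000073001460006f300075)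 (.leaf 0x0))) (.node (.node (.leaf 0xe500053100054000e400054300051000e300053200053000e200041000053000e10005330004e000e000042100052000df00052000051000de00021500051000dd0005110004d000dc0004a100050000db0005000004f000da0001450004f000d90004f10004e000d80004200004e000d70004e50004d000d60004d00004a000d50004840004c000d40004c30004c000d30004c20004a000d20004b20004b000d10003e50004b000d00004140004b000cf0004b30004a000ce0000850004a000cd0004a400049000cc00048200049000cb00049300044000ca00016500048000c900048300047000c80004750003c000c700047200046000c60003b500046) (.leaf 0x0)) (.node (.leaf 0x1e5000b32000ae001e40009c5000b2001e3000b21000ae001e2000b13000b1001e1000b04000b1001e0000b12000ab001df000af2000b0001de000b0500099001dd000ad4000af001dc000af3000a7001db0006c5000ae001da000ae0000ad001d9000ac3000ac001d8000ad50002a001d7000ad2000ac001d6000ac4000aa001d50009a5000ab001d4000ab4000a9001d3000aa500034001d2000aa2000a9001d1000a93000a1001d0000a40000a8001cf000a83000a8001ce000a820009f001cd000a52000a7001cc000a74000a2001cb0007b5000a6001ca000a610009f001c90008e5000a5001c8000a54000a4001c7000a43000a4001c6000a420009e)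 (.leaf 0x0))))) (.node (.node (.node (.node (.leaf 0x4500017400017000440001720001400043000160000160004200016200016000410001640000800040000150000150003f000155000030003e0001430000f0003d000144000140003c000130000140003b000141000130003a0000e300013000390001340001200038000121000120003700012000012000360001230000900035000101000110003400011000010000330000d400011000320001120000f000310000c400010000300001020000e0002f0000440000f0002e0000e00000f0002d0000f10000e0002c0000e4000030002b0000830000d0002a0000c20000d000290000d10000a000280000d00000a000270000c30000c000260000c00000b) (.leaf 0x2450006d60004f0024400073600056002430000d60000a002420001260000d002410001860000f002400003560001d0023f0000c60000b0023e0002660000c0023d000216000170023c0002260000e0023b0006d5000110023a0001160000d0023900018600022002380002160000f0023700020600011002360002360000300235000276000150023400067600051002330005460005600232000746000540023100073600056002300005d6000590022f0001260000d0022e0002e60001e0022d0003560001d0022c0003160001b0022b0002660000c0022a00017600021002290002260000e002280002060001100227000256000100022600027600015))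 (.node (.leaf 0x145000751000740014400075000047001430005c5000740014200073400074001410007420007400140000743000670013f000732000730013e0006d3000730013d0007350005d0013c000440000720013b000721000700013a0006e2000710013900071100049001380007100007000137000703000700013600051400070001350007020006d001340006920006f001330006d10006f001320006f000048001310006d00006e001300006e1000450012f0006d4000620012e0006d5000200012d0006c20006b0012c0006700006c0012b0006c1000480012a0006b30006b001290006800006b001280006b100044001270006a100067001260006a000045) (.leaf 0x0))) (.node (.node (.leaf 0xc500046400046000c400046300045000c300045200044000c200009500045000c100045400043000c000044400042000bf00044500040000be0003f500043000bd00041200041000bc00043300043000bb00043200042000ba00006500042000b900042300041000b80004150003d000b70003f400040000b600040200040000b50004010003e000b400030300040000b30004000003b000b20003f20003f000b10002f30003f000b00003f10003b000af0003f00003e000ae0003d40003e000ad0003e20003e000ac0003e30001e000ab0003d00003d000aa0003c10003d000a90003d300015000a80003c00003c000a70003c20003c000a60002730003c)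 (.leaf 0x0)) (.node (.leaf 0x1c5000a33000a3001c4000a04000a3001c3000a32000a2001c2000a2500082001c10009e4000a1001c0000a12000a0001bf000a0500033001be0006e50009f001bd0009f00009e001bc0009e500036001bb0009d00009c001ba0009d10009d001b90008520009d001b80009c30009d001b70009d400093001b60008420009c001b50009c400092001b40009a40009b001b30009330009b001b20009b200099001b10009230009a001b00009720009a001af0009a000094001ae00097300099001ad00099000098001ac0009940002c001ab00097100098001aa00030400098001a900098300096001a800096000097001a700097400034001a600094200096) (.leaf 0x0)))) (.node (.node (.node (.leaf 0x850003000002e000840002f10002e000830002f00001e000820001250002e000810002e40002d000800002c10002d0007f0002d2000290007e0001c00002c0007d0002c20002a0007c0002a40002b0007b0002b10001a0007a0002b000029000790001a00002a000780002a100029000770002550002900076000294000280007500028300028000740002800002800073000191000280007200028200027000710002700002700070000235000270006f000271000150006e000260000260006d000122000260006c000264000250006b000250000200006a000251000200006900017300025000680002520002200067000240000240006600023200024)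 (.leaf 0x26a000005000000026900001600000002680001d600001002670000a600001002660001e60001d)) (.node (.leaf 0x1850008c30008b001840008a40008b001830008b20007f001820008a00008a001810003050008a001800008a3000870017f000891000860017e000890000870017d000882000880017c000881000870017b000880000860017a00087200087001790004950008700178000874000860017700086200086001760008650004c001750008410008400174000840000850017300081400085001720008530007b0017100080400084001700008430007a0016f000833000810016e0007d1000830016d000834000360016c000823000800016b0008210007f0016a0007d00008200169000824000370016800080200081001670008110007c001660008100007e) (.leaf 0x0))) (.node (.node (.leaf 0x1050005e10005a001040002b30005e001030005e00005c001020003530005d001010005d20005c001000005c40005c000ff0005b10005c000fe0005c300029000fd0002a30005b000fc0005b00005a000fb0005450005a000fa0005a40005a000f90001a30005a000f80005a200059000f700056500059000f600059400059000f50005930001d000f400058200058000f30004d300058000f200056100058000f10005800004b000f000057200055000ef00057300050000ee00056000057000ed00057100041000ec00056400056000eb00054200056000ea0005630004f000e900052300055000e800054400054000e700054000055000e60005510004b)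 (.leaf 0x0)) (.node (.leaf 0x205000c42000c300204000c43000be002030005b5000c300202000c31000c200201000c20000a500200000c22000c1001ff000c13000c0001fe000af0000c0001fd000c01000be001fc000b01000bf001fb000bf0000b7001fa000bc4000be001f9000be2000b7001f8000bc0000bd001f7000bd1000ad001f6000bb2000bc001f5000bc50007a001f4000bb3000b9001f3000bb1000b3001f2000935000ba001f1000ba4000b9001f0000b22000b9001ef000b90000b8001ee000b81000ac001ed0005f5000b7001ec000b73000b6001eb000b65000b4001ea0009f3000b5001e9000b50000b4001e8000b430009e001e7000ac0000b3001e6000b33000b3) (.leaf 0x0))))))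

/-- the certificate -/
noncomputable def cert : Cert where
  n := 1
  v := 204
  g := 6
  inv := [0, 1, 2, 3, 4, 5]
  rels := [[1, 0, 1, 0, 1, 0, 1, 0], [1, 0, 3, 1, 0, 3], [1, 0, 2, 1, 0, 2], [1, 0, 4, 1, 0, 4], [0, 1, 0, 1, 0, 1, 0, 1], [0, 1, 3, 0, 1, 3], [0, 1, 2, 0, 1, 2], [0, 1, 4, 0, 1, 4], [1, 0, 1, 0, 3, 0, 1, 0, 1, 3], [1, 0, 1, 0, 2, 0, 1, 0, 1, 2], [1, 0, 1, 0, 4, 0, 1, 0, 1, 4], [3, 2, 3, 2, 3, 2], [3, 4, 3, 4, 3, 4], [1, 0, 3, 1, 0, 2, 3, 2, 3, 2], [1, 0, 3, 4, 3, 4, 3, 1, 0, 4], [0, 1, 3, 0, 1, 2, 3, 2, 3, 2], [0, 1, 3, 4, 3, 4, 3, 0, 1, 4], [2, 4, 2, 4, 2, 4, 2, 4], [1, 0, 1, 0, 3, 4, 3, 4, 3, 0, 1, 0, 1, 4], [1, 0, 1, 0, 2, 3, 2, 3, 2, 0, 1, 0, 1, 3], [1, 0, 2, 1, 0, 4, 2, 4, 2, 4, 2, 4], [0, 1, 2, 0, 1, 4, 2, 4, 2, 4, 2, 4], [3, 2, 3, 2, 4, 3, 4, 3, 4, 2], [1, 2, 4, 2, 4, 1, 2, 3, 0, 2, 4, 2, 4, 0, 2, 3, 2, 0, 2, 4, 2, 4, 0, 3], [1, 3, 0, 1, 2, 3, 0, 2, 4, 2, 4, 0, 3, 2, 0, 2, 4, 2, 4, 0, 3, 0, 2, 4, 2, 4], [0, 1, 2, 0, 1, 0, 2, 4, 2, 4,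 0, 3, 0, 2, 4, 2, 4, 0, 2, 3, 2, 0, 2, 4, 2, 4, 0, 3], [1, 0, 1, 0, 1, 0, 3, 4, 0, 2, 4, 2, 4, 0, 3, 4, 0, 2, 4, 2, 4, 0, 3, 4, 0, 2, 4, 2, 4, 0], [1, 0, 1, 0, 3, 0, 2, 4, 2, 4, 0, 4, 0, 2, 4, 2, 4, 0, 4, 2, 4, 2, 4, 3], [1, 0, 1, 0, 3, 4, 3, 0, 2, 4, 2, 4, 0, 2, 4, 2, 0, 2, 4, 2, 4, 0, 3, 4], [1, 0, 1, 0, 3, 4, 2, 4, 2, 4, 0, 2, 4, 2, 4, 0, 4, 0, 2, 4, 2, 4, 0, 3], [5, 3, 5, 3, 5, 3], [5, 2, 4, 5, 2, 4], [5, 4, 2, 5, 4, 2], [1, 0, 5, 1, 0, 5, 0, 1, 5, 0, 1, 5], [1, 0, 5, 3, 5, 3, 5, 1, 0, 3], [1, 0, 5, 2, 5, 0, 1, 5, 4, 5], [1, 0, 5, 2, 4, 5, 0, 1, 2, 4], [1, 0, 5, 4, 2, 5, 0, 1, 4, 2], [1, 0, 5, 4, 2, 5, 4, 1, 0, 2], [1, 0, 2, 1, 0, 4, 5, 2, 4, 5], [5, 3, 2, 5, 2, 3, 5, 2, 5, 2, 3, 2, 5, 2, 3], [5, 3, 2, 5, 4, 5, 3, 2, 5, 4, 5, 3, 4, 5, 2], [5, 3, 2, 5, 4, 5, 3, 4, 5, 2, 5, 3, 4, 5, 2], [5, 3, 2, 0, 1, 4, 2, 4, 3, 5, 2, 3, 4, 2, 3, 4], [5, 3, 2, 4, 0, 1, 2, 4, 3, 5, 4, 3, 2, 4, 3, 2], [5, 3, 4, 2, 0, 1, 4, 2, 3, 5, 4, 3, 2, 4, 3, 2], [5, 3, 4, 2, 3, 5, 2,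 3, 2, 4, 2, 4, 3, 2, 0, 1], [5, 3, 4, 2, 3, 5, 2, 3, 4, 2, 4, 2, 0, 1, 3, 2], [5, 3, 4, 2, 3, 5, 2, 3, 4, 2, 4, 2, 3, 2, 0, 1], [5, 3, 4, 2, 3, 5, 4, 3, 2, 4, 2, 3, 4, 3, 0, 1], [5, 3, 4, 2, 3, 5, 4, 3, 2, 4, 2, 4, 0, 1, 3, 4], [5, 3, 4, 2, 3, 0, 1, 0, 1, 5, 2, 3, 0, 1, 3, 4, 2, 4], [5, 3, 4, 2, 3, 2, 5, 2, 5, 2, 0, 1, 0, 1, 5, 2, 0, 1], [5, 0, 1, 0, 1, 5, 3, 2, 4, 2, 4, 3], [3, 4, 2, 5, 3, 2, 0, 2, 4, 2, 4, 0, 2, 3, 5, 2, 4, 3, 4], [5, 2, 4, 3, 0, 1, 0, 1, 3, 4, 2, 5, 3, 2, 4, 2, 4, 3], [5, 3, 2, 0, 2, 4, 2, 4, 0, 2, 3, 5, 2, 3, 2], [0, 1, 0, 1, 4, 0, 1, 0, 1, 4], [0, 1, 0, 1, 3, 0, 1, 0, 1, 3], [3, 2, 3, 2, 3, 4, 2, 4, 2, 4, 2, 4], [3, 2, 3, 4, 3, 2, 4, 3, 4, 2, 3, 4], [3, 2, 3, 4, 2, 3, 2, 4, 2, 3, 2, 4], [0, 2, 3, 0, 3, 2], [0, 2, 0, 2], [0, 4, 0, 4, 0, 4, 1, 0], [0, 3, 0, 3], [5, 0, 5, 2, 4, 3, 0, 4, 0, 2, 3, 0, 4, 0, 3, 4, 2, 5, 0, 5, 0, 4, 3, 2, 4, 2]]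
  subs := [[0], [1], [2], [3], [4]]
  tab := tab
  par := par
  fact := fact
  nfact := 613

/-- justifications -/
noncomputable def just0 : List Cert.Just :=
  [.define,
   .define,
   .loop (some (31, 2)) [.bwd 0, .edge 2, .edge 4, .fwd 0, .fwd 1],
   .loop (some (56, 13)) [.bwd 1, .bwd 0, .edge 3, .edge 2, .edge 0, .edge 2, .edge 4, .edge 2, .edge 4, .edge 0, .edge 2, .edge 3, .fwd 0, .fwd 1],
   .define,
   .loop (some (46, 15)) [.bwd 0, .edge 3, .edge 4, .edge 2, .edge 3, .fwd 0, .fwd 1, .fwd 3, .bwd 1, .bwd 2, .bwd 1, .bwd 2, .fwd 3, .bwd 1, .fwd 4],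
   .define,
   .loop (some (2, 1)) [.bwd 1, .bwd 5, .bwd 4, .fwd 1, .fwd 6],
   .loop (some (63, 3)) [.fwd 7, .bwd 1, .fwd 4],
   .define,
   .loop (some (11, 1)) [.bwd 9, .fwd 1, .fwd 3, .bwd 1, .fwd 9],
   .loop (some (12, 1)) [.bwd 9, .bwd 2, .fwd 3, .fwd 2, .fwd 9],
   .loop (some (30, 2)) [.bwd 9, .bwd 0, .edge 3, .fwd 0, .fwd 9],
   .define,
   .loop (some (1, 1)) [.bwd 9, .bwd 5, .bwd 4, .fwd 9, .fwd 13],
   .loop (some (62, 2)) [.fwd 14, .bwd 9, .fwd 1, .bwd 7, .bwd 8],
   .loop (some (63, 3)) [.fwd 14, .fwd 10, .bwd 14],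
   .define,
   .loop (some (40, 7)) [.bwd 17, .bwd 1, .fwd 9, .fwd 10, .fwd 12, .fwd 10, .bwd 9, .bwd 0, .edge 3, .edge 2, .fwd 0, .fwd 1, .fwd 3, .fwd 17],
   .loop (some (41, 4)) [.bwd 17, .fwd 3, .bwd 1, .bwd 0, .edge 4, .fwd 0, .fwd 9, .fwd 11, .fwd 12, .fwd 10, .fwd 12, .bwd 9, .fwd 1, .fwd 17],
   .define,
   .loop (some (35, 0)) [.bwd 20, .bwd 17, .bwd 1, .bwd 0, .edge 0, .edge 1, .fwd 0, .bwd 2, .fwd 17],
   .loop (some (63, 1)) [.bwd 20, .fwd 18, .fwd 20],
   .define,
   .loop (some (54, 9)) [.bwd 23, .fwd 14, .fwd 10, .bwd 9, .bwd 0, .edge 2, .edge 4, .edge 3, .edge 4, .edge 3, .edge 4, .edge 2, .fwd 0, .fwd 9, .fwd 10, .bwd 14, .fwd 16, .fwd 23],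
   .loop (some (64, 2)) [.bwd 23, .fwd 14, .fwd 11, .fwd 13, .fwd 14, .bwd 14, .fwd 23],
   .loop (some (64, 6)) [.fwd 25, .fwd 25, .bwd 23, .fwd 14, .fwd 11, .bwd 14, .fwd 23],
   .define,
   .loop (some (30, 2)) [.bwd 27, .bwd 17, .fwd 3, .fwd 17, .fwd 27],
   .define,
   .loop (some (12, 2)) [.bwd 29, .bwd 27, .fwd 19, .fwd 27, .fwd 29],
   .loop (some (43, 13)) [.bwd 27, .fwd 19, .bwd 17, .fwd 3, .bwd 1, .fwd 4, .fwd 5, .bwd 2, .bwd 1, .bwd 2, .fwd 3, .fwd 17, .fwd 18, .fwd 27, .fwd 29],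
   .define,
   .loop (some (65, 1)) [.bwd 32, .fwd 30, .fwd 32],
   .define,
   .loop (some (1, 0)) [.bwd 34, .bwd 27, .fwd 21, .bwd 20, .fwd 27],
   .loop (some (62, 1)) [.fwd 33, .bwd 32, .fwd 30, .fwd 31, .fwd 34],
   .loop (some (62, 4)) [.fwd 22, .bwd 20, .fwd 18, .fwd 27, .fwd 34],
   .define,
   .define,
   .loop (some (3, 1)) [.bwd 38, .fwd 5, .fwd 4, .fwd 38, .fwd 39],
   .loop (some (64, 1)) [.fwd 7, .fwd 2, .fwd 4, .fwd 38, .fwd 39, .fwd 40, .bwd 40],
   .define,
   .loop (some (54, 10)) [.bwd 32, .fwd 31, .bwd 27, .bwd 17, .bwd 1, .bwd 2, .fwd 3, .fwd 2, .fwd 9, .fwd 11, .fwd 10, .fwd 12, .bwd 9, .fwd 1, .bwd 7, .bwd 8, .fwd 38, .fwd 42],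
   .define,
   .loop (some (17, 1)) [.fwd 36, .bwd 43, .bwd 42, .bwd 38, .fwd 8, .bwd 41, .fwd 44],
   .loop (some (27, 17)) [.fwd 45, .fwd 36, .bwd 43, .bwd 42, .bwd 38, .fwd 15, .bwd 13, .bwd 14, .bwd 13, .bwd 14, .bwd 15, .bwd 4, .fwd 1, .fwd 2, .fwd 1, .fwd 2, .fwd 4, .fwd 38, .bwd 40, .fwd 44, .fwd 45, .fwd 36, .bwd 43],
   .loop (some (3, 0)) [.fwd 46, .fwd 45, .bwd 35, .fwd 34, .bwd 45],
   .define,
   .loop (some (62, 3)) [.bwd 48, .fwd 24, .fwd 25, .fwd 24, .fwd 48],
   .loop (some (1, 0)) [.fwd 49, .bwd 48, .fwd 26, .fwd 25, .fwd 48],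
   .define,
   .loop (some (12, 2)) [.bwd 38, .fwd 15, .fwd 23, .fwd 48, .fwd 51],
   .define,
   .loop (some (1, 1)) [.fwd 52, .fwd 39, .fwd 40, .bwd 52, .fwd 53],
   .loop (some (64, 1)) [.fwd 54, .bwd 51, .fwd 49, .fwd 51, .fwd 53, .fwd 54, .bwd 54],
   .loop (some (62, 2)) [.fwd 54, .fwd 52, .fwd 42, .fwd 46, .bwd 44],
   .define,
   .loop (some (66, 18)) [.bwd 57, .bwd 4, .bwd 2, .fwd 3, .bwd 1, .bwd 2, .bwd 1, .bwd 0, .edge 0, .fwd 0, .fwd 1, .fwd 2, .fwd 9, .bwd 14, .fwd 23, .fwd 25, .fwd 24, .fwd 48, .fwd 49, .fwd 51, .bwd 54, .bwd 56, .fwd 41, .bwd 8, .fwd 57],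
   .define,
   .loop (some (23, 3)) [.bwd 59, .bwd 21, .fwd 18, .fwd 27, .fwd 34, .fwd 36, .bwd 43, .bwd 42, .bwd 38, .bwd 4, .fwd 1, .fwd 3, .bwd 1, .fwd 4, .fwd 8, .bwd 41, .fwd 44, .fwd 45, .bwd 34, .bwd 27, .fwd 21, .fwd 22, .fwd 59],
   .loop (some (64, 2)) [.bwd 59, .bwd 20, .fwd 19, .fwd 21, .bwd 20, .fwd 20, .fwd 59],
   .define,
   .loop (some (26, 10)) [.bwd 62, .fwd 55, .fwd 54, .fwd 52, .bwd 38, .bwd 4, .fwd 1, .fwd 2, .fwd 1, .fwd 2, .fwd 4, .fwd 15, .fwd 23, .fwd 25, .fwd 24, .bwd 23, .fwd 16, .fwd 23, .fwd 25, .fwd 26, .fwd 25, .fwd 26, .fwd 25, .fwd 26, .fwd 25, .fwd 48, .fwd 51, .bwd 54, .fwd 62],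
   .define,
   .loop (some (2, 0)) [.bwd 64, .bwd 62, .bwd 53, .bwd 54, .fwd 62],
   .loop (some (62, 1)) [.fwd 52, .bwd 40, .fwd 56, .fwd 62, .fwd 64],
   .define,
   .loop (some (56, 13)) [.bwd 67, .bwd 57, .fwd 15, .fwd 16, .fwd 14, .fwd 10, .fwd 11, .fwd 10, .fwd 11, .bwd 14, .fwd 16, .bwd 15, .fwd 57, .fwd 67],
   .loop (some (62, 3)) [.fwd 68, .bwd 67, .fwd 58, .fwd 67, .fwd 68],
   .define,
   .loop (some (31, 3)) [.bwd 42, .bwd 38, .fwd 57, .fwd 67, .fwd 70],
   .define,
   .define,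
   .loop (some (43, 13)) [.bwd 73, .bwd 72, .bwd 57, .fwd 15, .fwd 16, .fwd 14, .fwd 13, .fwd 23, .fwd 24, .bwd 23, .bwd 15, .fwd 57, .fwd 67, .fwd 68, .fwd 70],
   .define,
   .loop (some (31, 1)) [.bwd 72, .bwd 57, .fwd 8, .bwd 41, .fwd 75],
   .define,
   .loop (some (31, 3)) [.fwd 36, .bwd 43, .bwd 71, .fwd 74, .fwd 77],
   .define,
   .loop (some (17, 1)) [.fwd 76, .bwd 72, .fwd 67, .fwd 70, .fwd 74, .fwd 77, .fwd 79],
   .loop (some (43, 11)) [.fwd 80, .fwd 76, .fwd 73, .fwd 77, .fwd 78, .fwd 37, .fwd 22, .bwd 20, .fwd 21, .fwd 59, .fwd 60, .bwd 59, .bwd 37, .bwd 78, .fwd 79],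
   .define,
   .loop (some (60, 11)) [.bwd 82, .fwd 66, .fwd 52, .bwd 38, .fwd 15, .fwd 16, .fwd 23, .fwd 48, .fwd 51, .bwd 66, .fwd 82],
   .define,
   .loop (some (11, 2)) [.bwd 42, .bwd 52, .bwd 66, .fwd 82, .fwd 84],
   .loop (some (22, 4)) [.fwd 85, .fwd 43, .fwd 33, .bwd 43, .bwd 42, .bwd 52, .bwd 66, .fwd 82, .fwd 84],
   .define,
   .loop (some (1, 1)) [.fwd 85, .bwd 47, .bwd 46, .bwd 85, .fwd 87],
   .loop (some (62, 2)) [.fwd 88, .fwd 85, .bwd 42, .bwd 40, .fwd 44],
   .define,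
   .loop (some (12, 1)) [.bwd 89, .fwd 45, .fwd 37, .fwd 59, .fwd 90],
   .loop (some (62, 3)) [.bwd 90, .fwd 60, .fwd 61, .fwd 60, .fwd 90],
   .loop (some (3, 0)) [.fwd 92, .fwd 91, .bwd 87, .bwd 88, .bwd 91],
   .define,
   .loop (some (12, 2)) [.bwd 94, .fwd 82, .fwd 83, .bwd 82, .fwd 94],
   .loop (some (23, 3)) [.fwd 91, .bwd 87, .bwd 84, .bwd 82, .bwd 64, .bwd 62, .fwd 55, .fwd 62, .fwd 63, .fwd 64, .fwd 66, .fwd 52, .fwd 42, .fwd 46, .bwd 44, .fwd 41, .bwd 8, .fwd 38, .bwd 40, .fwd 56, .bwd 53, .bwd 66, .fwd 94],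
   .loop (some (64, 2)) [.bwd 94, .bwd 64, .fwd 63, .fwd 65, .bwd 64, .fwd 64, .fwd 94],
   .define,
   .loop (some (11, 2)) [.bwd 62, .bwd 56, .fwd 44, .fwd 89, .fwd 98],
   .loop (some (23, 0)) [.bwd 98, .bwd 91, .bwd 96, .bwd 94, .bwd 65, .bwd 62, .bwd 56, .fwd 40, .fwd 42, .fwd 43, .bwd 36, .bwd 45, .bwd 46, .bwd 42, .bwd 52, .bwd 66, .bwd 64, .bwd 62, .fwd 55, .fwd 62, .fwd 63, .fwd 64, .fwd 82],
   .loop (some (23, 17)) [.bwd 98, .bwd 91, .bwd 96, .bwd 94, .bwd 64, .bwd 99, .bwd 100, .fwd 84, .fwd 86, .bwd 84, .fwd 83, .fwd 100, .bwd 98, .bwd 89, .bwd 46, .bwd 42, .bwd 38, .fwd 8, .bwd 41, .fwd 40, .fwd 42, .bwd 85, .bwd 84],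
   .define,
   .loop (some (17, 2)) [.fwd 51, .bwd 66, .fwd 94, .fwd 96, .fwd 91, .fwd 98, .fwd 102],
   .loop (some (23, 13)) [.fwd 103, .bwd 48, .fwd 24, .fwd 25, .fwd 24, .bwd 23, .fwd 16, .fwd 23, .fwd 25, .fwd 48, .fwd 50, .bwd 103, .bwd 102, .bwd 98, .bwd 91, .fwd 93, .bwd 96, .fwd 95, .fwd 97, .fwd 96, .fwd 91, .fwd 98, .fwd 102],
   .define,
   .loop (some (46, 0)) [.bwd 90, .bwd 59, .fwd 22, .bwd 37, .bwd 78, .fwd 79, .fwd 81, .bwd 79, .bwd 77, .bwd 74, .bwd 70, .fwd 68, .bwd 67, .fwd 58, .fwd 105],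
   .loop (some (53, 3)) [.bwd 105, .bwd 57, .fwd 15, .fwd 16, .fwd 23, .fwd 24, .bwd 23, .bwd 15, .fwd 57, .fwd 58, .fwd 105],
   .define,
   .loop (some (2, 3)) [.fwd 69, .bwd 67, .fwd 105, .fwd 107, .fwd 108],
   .loop (some (2, 1)) [.bwd 108, .bwd 105, .fwd 58, .fwd 67, .bwd 109],
   .loop (some (47, 14)) [.bwd 108, .fwd 106, .bwd 90, .bwd 59, .fwd 22, .bwd 37, .bwd 78, .fwd 79, .fwd 81, .fwd 80, .fwd 76, .bwd 72, .fwd 67, .fwd 69, .bwd 109],
   .define,
   .loop (some (31, 3)) [.bwd 98, .bwd 91, .bwd 106, .fwd 108, .fwd 112],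
   .define,
   .loop (some (3, 1)) [.bwd 70, .bwd 109, .fwd 110, .fwd 112, .fwd 114],
   .define,
   .loop (some (3, 0)) [.bwd 116, .bwd 112, .fwd 109, .fwd 69, .fwd 70],
   .loop (some (64, 1)) [.fwd 115, .bwd 70, .fwd 69, .fwd 70, .fwd 117, .bwd 116, .fwd 116],
   .define,
   .loop (some (63, 2)) [.bwd 74, .bwd 115, .fwd 119],
   .define,
   .loop (some (2, 3)) [.fwd 120, .bwd 74, .fwd 117, .bwd 116, .fwd 121],
   .define,
   .loop (some (31, 3)) [.bwd 103, .bwd 102, .bwd 113, .fwd 121, .fwd 123],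
   .define,
   .loop (some (36, 0)) [.bwd 125, .fwd 78, .fwd 36, .bwd 43, .bwd 71, .bwd 115, .bwd 114, .fwd 121, .fwd 123],
   .define,
   .loop (some (3, 0)) [.bwd 127, .bwd 123, .fwd 122, .fwd 120, .fwd 77],
   .define,
   .loop (some (43, 11)) [.bwd 129, .fwd 108, .fwd 111, .fwd 112, .fwd 113, .fwd 99, .bwd 62, .fwd 54, .fwd 53, .fwd 55, .fwd 62, .fwd 63, .bwd 99, .bwd 113, .fwd 121],
   .define,
   .loop (some (3, 0)) [.bwd 131, .bwd 72, .fwd 105, .fwd 107, .fwd 129],
   .loop (some (62, 4)) [.bwd 119, .fwd 115, .fwd 74, .bwd 73, .fwd 131],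
   .define,
   .loop (some (1, 0)) [.bwd 134, .bwd 130, .fwd 122, .fwd 120, .bwd 73],
   .loop (some (64, 1)) [.bwd 131, .bwd 72, .fwd 58, .fwd 72, .fwd 135, .bwd 134, .fwd 134],
   .define,
   .loop (some (1, 1)) [.fwd 130, .fwd 132, .bwd 131, .fwd 73, .fwd 137],
   .loop (some (1, 5)) [.bwd 137, .bwd 120, .bwd 133, .bwd 132, .fwd 134],
   .loop (some (2, 5)) [.bwd 137, .bwd 120, .bwd 119, .bwd 114, .fwd 116],
   .define,
   .loop (some (31, 1)) [.bwd 129, .fwd 106, .bwd 96, .bwd 94, .fwd 141],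
   .define,
   .loop (some (2, 0)) [.bwd 143, .fwd 76, .fwd 135, .bwd 134, .bwd 142],
   .loop (some (62, 1)) [.fwd 133, .fwd 120, .bwd 73, .bwd 76, .fwd 143],
   .define,
   .loop (some (2, 1)) [.fwd 142, .fwd 132, .bwd 131, .bwd 76, .fwd 146],
   .loop (some (2, 5)) [.bwd 146, .fwd 143, .fwd 145, .bwd 132, .fwd 134],
   .define]

/-- justifications -/
noncomputable def just1 : List Cert.Just :=
  [.loop (some (17, 2)) [.bwd 123, .bwd 121, .bwd 112, .bwd 108, .fwd 129, .bwd 142, .fwd 149],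
   .loop (some (43, 11)) [.bwd 149, .fwd 142, .bwd 130, .fwd 123, .fwd 124, .bwd 48, .fwd 24, .fwd 25, .fwd 26, .bwd 23, .fwd 16, .fwd 23, .fwd 48, .bwd 124, .bwd 150],
   .define,
   .loop (some (2, 0)) [.bwd 152, .bwd 79, .fwd 128, .bwd 127, .bwd 150],
   .loop (some (63, 1)) [.bwd 125, .fwd 79, .fwd 152],
   .define,
   .loop (some (2, 2)) [.bwd 128, .fwd 125, .bwd 154, .bwd 153, .fwd 155],
   .define,
   .loop (some (11, 1)) [.bwd 157, .bwd 150, .fwd 151, .fwd 150, .fwd 157],
   .define,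
   .loop (some (12, 2)) [.fwd 129, .bwd 130, .fwd 123, .fwd 157, .fwd 159],
   .loop (some (22, 3)) [.bwd 159, .bwd 157, .bwd 123, .fwd 130, .bwd 129, .fwd 108, .fwd 111, .bwd 108, .bwd 160],
   .loop (some (62, 0)) [.fwd 161, .fwd 160, .fwd 107, .bwd 160, .fwd 161],
   .define,
   .loop (some (1, 3)) [.fwd 162, .fwd 160, .bwd 105, .fwd 58, .fwd 163],
   .loop (some (1, 1)) [.bwd 163, .fwd 105, .fwd 107, .bwd 160, .bwd 164],
   .define,
   .loop (some (11, 1)) [.bwd 166, .fwd 79, .fwd 81, .bwd 79, .fwd 166],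
   .loop (some (12, 1)) [.bwd 163, .fwd 72, .fwd 73, .fwd 77, .fwd 166],
   .define,
   .loop (some (1, 0)) [.bwd 169, .bwd 166, .fwd 128, .bwd 127, .fwd 157],
   .loop (some (62, 4)) [.bwd 154, .bwd 152, .bwd 79, .fwd 166, .fwd 169],
   .loop (some (63, 1)) [.bwd 169, .fwd 167, .fwd 169],
   .define,
   .loop (some (1, 2)) [.bwd 128, .fwd 125, .bwd 171, .bwd 170, .fwd 173],
   .loop (some (1, 0)) [.bwd 173, .bwd 157, .fwd 126, .bwd 125, .fwd 166],
   .loop (some (2, 2)) [.bwd 175, .fwd 169, .fwd 172, .bwd 170, .fwd 173],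
   .loop (some (64, 1)) [.bwd 169, .fwd 168, .fwd 165, .bwd 168, .fwd 175, .bwd 173, .fwd 173],
   .define,
   .define,
   .loop (some (30, 2)) [.bwd 15, .fwd 57, .fwd 163, .fwd 178, .fwd 179],
   .define,
   .loop (some (56, 13)) [.bwd 181, .fwd 180, .bwd 15, .fwd 8, .fwd 7, .bwd 1, .bwd 2, .bwd 1, .bwd 2, .bwd 7, .bwd 8, .fwd 15, .bwd 180, .fwd 181],
   .loop (some (11, 3)) [.fwd 179, .fwd 181, .fwd 182, .bwd 181, .bwd 179],
   .loop (some (56, 0)) [.fwd 171, .bwd 154, .bwd 152, .bwd 79, .bwd 77, .bwd 74, .bwd 70, .fwd 69, .bwd 67, .fwd 163, .fwd 178, .fwd 183, .fwd 179, .fwd 181],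
   .define,
   .loop (some (31, 5)) [.bwd 185, .fwd 176, .fwd 177, .bwd 184, .bwd 181],
   .define,
   .loop (some (31, 3)) [.fwd 24, .bwd 23, .bwd 180, .fwd 181, .fwd 187],
   .loop (some (31, 1)) [.bwd 187, .fwd 184, .fwd 172, .bwd 177, .fwd 185],
   .define,
   .loop (some (12, 1)) [.bwd 190, .bwd 187, .fwd 182, .fwd 187, .fwd 190],
   .loop (some (30, 2)) [.bwd 157, .fwd 124, .bwd 48, .bwd 188, .fwd 190],
   .define,
   .loop (some (31, 0)) [.bwd 193, .fwd 191, .fwd 192, .fwd 158, .fwd 159],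
   .define,
   .loop (some (30, 2)) [.fwd 90, .bwd 106, .bwd 160, .fwd 194, .fwd 195],
   .define,
   .loop (some (11, 1)) [.bwd 195, .bwd 193, .bwd 190, .bwd 189, .fwd 197],
   .define,
   .loop (some (31, 3)) [.fwd 22, .fwd 59, .bwd 196, .bwd 198, .fwd 199],
   .define,
   .loop (some (12, 1)) [.fwd 179, .fwd 186, .fwd 197, .fwd 199, .fwd 201],
   .loop (some (30, 2)) [.bwd 166, .fwd 78, .fwd 37, .bwd 200, .fwd 201],
   .loop (some (41, 2)) [.fwd 203, .fwd 168, .fwd 178, .fwd 179, .fwd 181, .fwd 184, .bwd 177, .fwd 185, .fwd 197, .fwd 199, .fwd 200, .fwd 22, .bwd 200, .fwd 201],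
   .define,
   .loop (some (11, 2)) [.bwd 205, .fwd 201, .fwd 204, .bwd 201, .fwd 205],
   .loop (some (31, 2)) [.fwd 196, .fwd 60, .bwd 59, .bwd 200, .fwd 205],
   .define,
   .define,
   .loop (some (66, 20)) [.fwd 186, .fwd 197, .fwd 198, .bwd 207, .bwd 205, .fwd 200, .bwd 20, .bwd 17, .bwd 1, .bwd 2, .fwd 3, .bwd 7, .bwd 41, .fwd 40, .fwd 42, .bwd 85, .bwd 88, .bwd 91, .fwd 92, .bwd 90, .bwd 59, .fwd 22, .bwd 200, .fwd 208, .fwd 209],
   .define,
   .loop (some (46, 0)) [.bwd 56, .fwd 41, .bwd 8, .fwd 15, .bwd 180, .fwd 181, .fwd 182, .bwd 181, .fwd 186, .fwd 189, .bwd 187, .fwd 182, .bwd 181, .bwd 210, .fwd 211],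
   .define,
   .loop (some (51, 8)) [.fwd 200, .fwd 22, .bwd 37, .bwd 34, .fwd 35, .fwd 37, .fwd 59, .fwd 60, .bwd 59, .bwd 200, .fwd 201, .fwd 202, .fwd 183, .fwd 179, .bwd 210, .fwd 211, .fwd 213],
   .define,
   .loop (some (46, 0)) [.fwd 85, .fwd 43, .bwd 36, .fwd 37, .bwd 200, .fwd 205, .fwd 206, .bwd 205, .bwd 199, .fwd 198, .bwd 207, .fwd 206, .bwd 205, .fwd 208, .fwd 215],
   .define,
   .loop (some (0, 2)) [.bwd 210, .fwd 211, .fwd 213, .fwd 214, .fwd 208, .fwd 215, .fwd 217],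
   .define,
   .loop (some (65, 2)) [.fwd 179, .bwd 210, .fwd 219],
   .loop (some (62, 5)) [.fwd 220, .fwd 183, .fwd 179, .bwd 210, .fwd 219],
   .define,
   .loop (some (1, 3)) [.fwd 220, .fwd 179, .bwd 218, .bwd 217, .fwd 222],
   .define,
   .loop (some (1, 1)) [.bwd 222, .bwd 215, .bwd 208, .fwd 201, .fwd 224],
   .loop (some (3, 2)) [.fwd 223, .fwd 220, .bwd 202, .fwd 224, .fwd 225],
   .loop (some (1, 2)) [.fwd 218, .bwd 210, .fwd 219, .bwd 223, .bwd 225],
   .define,
   .loop (some (43, 2)) [.bwd 225, .bwd 224, .fwd 202, .fwd 183, .bwd 202, .bwd 201, .fwd 200, .fwd 22, .bwd 37, .bwd 45, .bwd 44, .fwd 56, .fwd 55, .bwd 212, .fwd 228],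
   .loop (some (43, 7)) [.bwd 228, .fwd 212, .fwd 62, .bwd 99, .fwd 102, .fwd 103, .bwd 48, .bwd 23, .bwd 180, .bwd 179, .fwd 183, .bwd 220, .bwd 223, .fwd 226, .bwd 229],
   .define,
   .loop (some (1, 1)) [.bwd 228, .bwd 211, .fwd 210, .bwd 179, .fwd 231],
   .loop (some (1, 5)) [.bwd 231, .bwd 220, .bwd 219, .fwd 211, .fwd 213],
   .loop (some (2, 5)) [.bwd 231, .bwd 220, .fwd 221, .bwd 223, .bwd 225],
   .define,
   .loop (some (0, 2)) [.bwd 232, .bwd 231, .bwd 220, .bwd 223, .bwd 225, .bwd 224, .fwd 235],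
   .loop (some (1, 2)) [.fwd 215, .fwd 217, .bwd 227, .bwd 224, .fwd 235],
   .loop (some (2, 2)) [.fwd 236, .bwd 232, .bwd 234, .bwd 224, .fwd 235],
   .define,
   .loop (some (12, 1)) [.bwd 239, .bwd 80, .fwd 81, .fwd 80, .fwd 239],
   .loop (some (30, 2)) [.bwd 228, .fwd 212, .bwd 56, .fwd 75, .fwd 239],
   .define,
   .loop (some (11, 2)) [.fwd 74, .bwd 73, .bwd 76, .fwd 239, .fwd 242],
   .loop (some (22, 4)) [.fwd 243, .bwd 70, .fwd 68, .fwd 70, .fwd 74, .bwd 73, .bwd 76, .fwd 239, .fwd 242],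
   .loop (some (31, 3)) [.bwd 229, .fwd 230, .bwd 241, .fwd 242, .fwd 244],
   .define,
   .loop (some (62, 4)) [.fwd 119, .fwd 120, .bwd 74, .bwd 243, .fwd 246],
   .define,
   .loop (some (1, 3)) [.bwd 246, .fwd 243, .fwd 117, .bwd 116, .fwd 248],
   .loop (some (12, 1)) [.bwd 248, .bwd 112, .fwd 111, .fwd 112, .fwd 248],
   .define,
   .loop (some (11, 2)) [.fwd 142, .bwd 130, .bwd 121, .fwd 248, .fwd 251],
   .define,
   .loop (some (1, 2)) [.bwd 117, .bwd 115, .bwd 247, .bwd 249, .fwd 253],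
   .loop (some (1, 0)) [.bwd 253, .bwd 248, .fwd 114, .fwd 115, .bwd 243],
   .define,
   .loop (some (1, 0)) [.bwd 256, .bwd 239, .fwd 146, .fwd 147, .bwd 252],
   .loop (some (62, 1)) [.fwd 247, .fwd 115, .bwd 243, .bwd 242, .fwd 256],
   .loop (some (62, 4)) [.fwd 145, .bwd 131, .bwd 76, .fwd 239, .fwd 256],
   .define,
   .loop (some (1, 2)) [.bwd 146, .fwd 143, .bwd 259, .bwd 257, .fwd 260],
   .loop (some (1, 0)) [.bwd 260, .fwd 252, .fwd 144, .bwd 143, .fwd 239],
   .loop (some (2, 2)) [.bwd 255, .fwd 246, .bwd 258, .bwd 257, .fwd 260],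
   .define,
   .loop (some (11, 2)) [.bwd 264, .fwd 219, .fwd 221, .bwd 219, .fwd 264],
   .loop (some (62, 3)) [.fwd 182, .bwd 181, .bwd 210, .fwd 264, .fwd 265],
   .define,
   .loop (some (2, 3)) [.fwd 266, .bwd 181, .bwd 218, .bwd 217, .fwd 267],
   .define,
   .loop (some (11, 1)) [.fwd 228, .fwd 229, .bwd 222, .fwd 267, .fwd 269],
   .define,
   .loop (some (1, 0)) [.bwd 271, .bwd 269, .fwd 268, .fwd 266, .fwd 182],
   .loop (some (62, 1)) [.fwd 233, .fwd 232, .bwd 228, .bwd 270, .fwd 271],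
   .define,
   .loop (some (2, 1)) [.bwd 267, .bwd 215, .bwd 208, .fwd 205, .fwd 274],
   .loop (some (1, 2)) [.bwd 272, .bwd 266, .fwd 265, .bwd 268, .bwd 275],
   .define,
   .loop (some (0, 1)) [.fwd 274, .fwd 275, .fwd 268, .fwd 266, .fwd 272, .bwd 271, .fwd 277],
   .loop (some (1, 5)) [.bwd 277, .fwd 271, .bwd 276, .bwd 274, .bwd 278],
   .loop (some (2, 5)) [.bwd 277, .fwd 271, .fwd 273, .fwd 214, .fwd 208],
   .define,
   .loop (some (31, 3)) [.bwd 62, .fwd 55, .bwd 212, .bwd 270, .fwd 281],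
   .define,
   .loop (some (12, 2)) [.bwd 283, .fwd 228, .fwd 230, .bwd 228, .fwd 283],
   .loop (some (23, 3)) [.bwd 281, .fwd 277, .bwd 280, .bwd 237, .bwd 235, .fwd 204, .fwd 202, .fwd 183, .bwd 202, .fwd 235, .fwd 238, .fwd 237, .fwd 280, .fwd 278, .bwd 205, .bwd 199, .fwd 198, .bwd 207, .bwd 278, .fwd 279, .bwd 277, .fwd 270, .fwd 283],
   .define,
   .loop (some (3, 0)) [.bwd 286, .fwd 199, .bwd 214, .bwd 213, .fwd 283],
   .define,
   .loop (some (3, 0)) [.bwd 288, .bwd 187, .fwd 272, .bwd 271, .fwd 281],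
   .define,
   .loop (some (1, 1)) [.fwd 284, .fwd 287, .bwd 286, .bwd 197, .fwd 290],
   .loop (some (65, 3)) [.fwd 291, .fwd 284, .bwd 291],
   .define,
   .loop (some (2, 1)) [.bwd 285, .fwd 287, .bwd 286, .fwd 198, .fwd 293],
   .loop (some (62, 5)) [.fwd 294, .bwd 285, .fwd 284, .bwd 291, .fwd 292],
   .define,
   .loop (some (31, 5)) [.bwd 296, .fwd 84, .fwd 86, .bwd 216, .fwd 267],
   .define,
   .loop (some (3, 1)) [.bwd 297, .fwd 268, .fwd 266, .fwd 187, .fwd 298]]

/-- justifications -/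
noncomputable def just2 : List Cert.Just :=
  [.define,
   .loop (some (0, 2)) [.bwd 299, .bwd 298, .fwd 288, .bwd 289, .bwd 294, .bwd 293, .fwd 300],
   .loop (some (2, 2)) [.bwd 287, .bwd 291, .fwd 295, .bwd 293, .fwd 300],
   .define,
   .loop (some (23, 4)) [.bwd 215, .fwd 280, .fwd 279, .fwd 278, .bwd 205, .bwd 199, .fwd 198, .bwd 207, .bwd 278, .bwd 280, .bwd 237, .fwd 238, .bwd 235, .fwd 204, .fwd 202, .fwd 183, .bwd 202, .fwd 235, .fwd 237, .fwd 215, .fwd 267, .fwd 297, .fwd 303],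
   .loop (some (40, 10)) [.bwd 303, .bwd 296, .fwd 84, .fwd 85, .bwd 71, .bwd 243, .bwd 242, .fwd 241, .fwd 229, .bwd 222, .fwd 216, .bwd 84, .fwd 296, .fwd 303],
   .define,
   .loop (some (2, 0)) [.bwd 306, .bwd 303, .bwd 301, .bwd 300, .bwd 198],
   .loop (some (63, 1)) [.fwd 299, .fwd 303, .fwd 306],
   .define,
   .loop (some (0, 1)) [.fwd 290, .fwd 291, .fwd 287, .bwd 286, .fwd 307, .bwd 306, .fwd 309],
   .define,
   .loop (some (30, 1)) [.bwd 296, .bwd 82, .fwd 141, .bwd 252, .fwd 311],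
   .loop (some (35, 3)) [.bwd 311, .fwd 260, .bwd 262, .fwd 241, .fwd 230, .bwd 241, .fwd 262, .bwd 260, .fwd 311],
   .define,
   .loop (some (11, 1)) [.bwd 314, .bwd 285, .fwd 284, .fwd 285, .fwd 314],
   .loop (some (12, 1)) [.fwd 312, .bwd 297, .fwd 269, .fwd 281, .fwd 314],
   .loop (some (30, 2)) [.bwd 248, .fwd 113, .fwd 99, .bwd 282, .fwd 314],
   .define,
   .loop (some (1, 0)) [.bwd 318, .fwd 195, .fwd 293, .fwd 294, .fwd 314],
   .loop (some (62, 4)) [.fwd 302, .bwd 286, .fwd 198, .bwd 195, .fwd 318],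
   .define,
   .loop (some (1, 0)) [.bwd 321, .fwd 312, .bwd 301, .bwd 300, .bwd 195],
   .loop (some (62, 4)) [.bwd 308, .bwd 306, .bwd 303, .bwd 312, .fwd 321],
   .loop (some (63, 1)) [.bwd 321, .fwd 313, .fwd 321],
   .define,
   .loop (some (1, 2)) [.bwd 293, .fwd 300, .bwd 320, .bwd 319, .fwd 325],
   .loop (some (9, 4)) [.bwd 325, .fwd 319, .bwd 318, .fwd 322, .fwd 324, .bwd 322, .fwd 318, .bwd 319, .fwd 325],
   .define,
   .define,
   .loop (some (54, 10)) [.bwd 253, .fwd 251, .fwd 252, .bwd 141, .fwd 66, .bwd 51, .bwd 48, .bwd 23, .bwd 15, .fwd 38, .fwd 42, .bwd 71, .bwd 243, .bwd 242, .fwd 256, .fwd 258, .fwd 328, .fwd 329],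
   .loop (some (60, 4)) [.fwd 329, .fwd 330, .fwd 254, .fwd 118, .fwd 119, .bwd 133, .bwd 136, .fwd 139, .bwd 140, .bwd 254, .bwd 330],
   .loop (some (64, 2)) [.bwd 328, .bwd 246, .fwd 244, .fwd 255, .bwd 253, .fwd 253, .bwd 330],
   .loop (some (64, 6)) [.fwd 332, .bwd 332, .fwd 330, .bwd 253, .fwd 250, .fwd 253, .bwd 330],
   .define,
   .define,
   .loop (some (17, 1)) [.fwd 258, .fwd 328, .fwd 329, .fwd 330, .bwd 263, .fwd 334, .fwd 335],
   .loop (some (26, 8)) [.fwd 335, .fwd 336, .fwd 258, .fwd 328, .bwd 332, .fwd 331, .bwd 328, .bwd 246, .bwd 242, .fwd 240, .fwd 242, .fwd 244, .fwd 246, .fwd 247, .bwd 118, .bwd 116, .fwd 121, .fwd 123, .bwd 150, .bwd 149, .bwd 147, .bwd 146, .fwd 143, .bwd 144, .bwd 147, .bwd 146, .fwd 143, .bwd 259, .bwd 336],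
   .loop (some (3, 0)) [.bwd 337, .fwd 336, .bwd 257, .fwd 260, .fwd 334],
   .loop (some (3, 3)) [.fwd 337, .bwd 334, .bwd 262, .fwd 256, .bwd 336],
   .define,
   .loop (some (35, 8)) [.bwd 340, .fwd 268, .fwd 266, .fwd 184, .fwd 172, .bwd 184, .bwd 266, .bwd 268, .fwd 340],
   .define,
   .loop (some (46, 2)) [.fwd 154, .bwd 171, .bwd 184, .bwd 181, .bwd 179, .fwd 183, .bwd 202, .fwd 204, .fwd 202, .fwd 179, .fwd 181, .bwd 266, .bwd 268, .fwd 340, .fwd 342],
   .define,
   .loop (some (31, 1)) [.fwd 341, .bwd 340, .bwd 267, .bwd 304, .fwd 344],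
   .loop (some (31, 5)) [.bwd 344, .bwd 303, .bwd 297, .fwd 340, .bwd 345],
   .define,
   .loop (some (30, 2)) [.bwd 347, .bwd 344, .fwd 305, .fwd 344, .fwd 347],
   .loop (some (43, 12)) [.fwd 156, .bwd 174, .fwd 177, .bwd 184, .fwd 182, .bwd 181, .bwd 210, .fwd 211, .fwd 283, .fwd 285, .bwd 281, .bwd 269, .fwd 340, .bwd 345, .fwd 347],
   .define,
   .loop (some (33, 0)) [.bwd 350, .bwd 340, .fwd 268, .fwd 266, .fwd 184, .bwd 169, .fwd 175, .fwd 185, .bwd 310, .bwd 309, .fwd 344],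
   .define,
   .loop (some (3, 0)) [.bwd 352, .fwd 346, .fwd 351, .bwd 350, .fwd 341],
   .loop (some (63, 1)) [.bwd 350, .bwd 345, .fwd 352],
   .define,
   .loop (some (27, 10)) [.fwd 343, .bwd 152, .bwd 79, .bwd 77, .bwd 74, .bwd 70, .fwd 69, .fwd 70, .fwd 74, .fwd 77, .fwd 79, .fwd 80, .fwd 239, .fwd 262, .bwd 260, .fwd 257, .bwd 256, .bwd 239, .fwd 143, .fwd 145, .bwd 136, .fwd 148, .fwd 355],
   .loop (some (64, 6)) [.fwd 356, .bwd 356, .bwd 355, .fwd 147, .fwd 149, .fwd 155, .bwd 349],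
   .loop (some (62, 2)) [.fwd 356, .bwd 342, .bwd 345, .fwd 352, .fwd 354],
   .define,
   .loop (some (3, 3)) [.bwd 356, .bwd 355, .bwd 146, .fwd 143, .fwd 359],
   .loop (some (60, 2)) [.bwd 359, .bwd 259, .fwd 258, .fwd 328, .bwd 331, .fwd 330, .bwd 263, .fwd 261, .fwd 355, .bwd 358, .bwd 354],
   .define,
   .loop (some (12, 1)) [.fwd 358, .bwd 355, .bwd 261, .fwd 334, .fwd 362],
   .define,
   .loop (some (12, 1)) [.fwd 361, .bwd 359, .bwd 259, .bwd 336, .fwd 364],
   .loop (some (62, 3)) [.bwd 362, .fwd 335, .fwd 337, .fwd 335, .fwd 364],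
   .loop (some (3, 0)) [.bwd 366, .fwd 365, .bwd 353, .fwd 350, .bwd 363],
   .define,
   .loop (some (40, 7)) [.bwd 368, .bwd 205, .fwd 201, .fwd 204, .fwd 203, .fwd 167, .bwd 166, .fwd 78, .fwd 37, .fwd 22, .bwd 200, .fwd 205, .fwd 206, .fwd 368],
   .define,
   .loop (some (31, 3)) [.fwd 198, .bwd 207, .fwd 368, .fwd 369, .fwd 370],
   .loop (some (31, 1)) [.bwd 370, .bwd 368, .bwd 205, .bwd 199, .bwd 371],
   .define,
   .loop (some (33, 0)) [.bwd 373, .bwd 368, .fwd 274, .fwd 275, .fwd 340, .fwd 350, .bwd 351, .bwd 344, .fwd 306, .bwd 307, .bwd 371],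
   .loop (some (63, 1)) [.bwd 373, .fwd 369, .fwd 373],
   .define,
   .loop (some (2, 0)) [.bwd 376, .fwd 372, .fwd 374, .bwd 373, .fwd 369],
   .define,
   .loop (some (30, 2)) [.bwd 174, .fwd 185, .fwd 197, .bwd 371, .fwd 378],
   .loop (some (66, 18)) [.fwd 379, .bwd 127, .bwd 123, .fwd 130, .bwd 142, .fwd 149, .fwd 150, .fwd 124, .fwd 49, .bwd 124, .bwd 150, .bwd 149, .bwd 252, .fwd 260, .fwd 334, .bwd 337, .bwd 335, .fwd 362, .bwd 366, .fwd 365, .bwd 352, .fwd 347, .fwd 349, .fwd 156, .bwd 379],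
   .define,
   .loop (some (31, 2)) [.fwd 379, .bwd 156, .bwd 349, .fwd 348, .fwd 381],
   .define,
   .loop (some (11, 1)) [.bwd 342, .bwd 345, .fwd 347, .fwd 381, .fwd 383],
   .define,
   .loop (some (23, 9)) [.bwd 355, .bwd 148, .fwd 136, .bwd 131, .bwd 76, .fwd 239, .fwd 242, .fwd 246, .bwd 258, .bwd 336, .bwd 335, .bwd 334, .bwd 260, .fwd 252, .fwd 144, .fwd 145, .bwd 136, .fwd 148, .fwd 355, .bwd 357, .fwd 381, .fwd 383, .fwd 385],
   .define,
   .loop (some (17, 2)) [.bwd 359, .fwd 145, .bwd 136, .fwd 148, .fwd 355, .bwd 386, .fwd 387],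
   .loop (some (59, 4)) [.fwd 387, .fwd 388, .bwd 359, .fwd 145, .bwd 136, .fwd 148, .fwd 355, .bwd 358, .bwd 354, .fwd 361, .bwd 388],
   .define,
   .loop (some (1, 3)) [.fwd 380, .bwd 378, .fwd 374, .bwd 373, .fwd 390],
   .loop (some (1, 1)) [.bwd 390, .fwd 377, .bwd 376, .fwd 378, .bwd 391],
   .loop (some (12, 1)) [.bwd 383, .fwd 382, .bwd 378, .bwd 370, .fwd 390],
   .loop (some (30, 2)) [.bwd 390, .bwd 368, .fwd 206, .fwd 368, .fwd 390],
   .loop (some (62, 2)) [.fwd 390, .fwd 392, .bwd 390, .fwd 369, .fwd 373, .fwd 375],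
   .loop none [.fwd 395],
   .loop none [.fwd 373, .bwd 396],
   .loop none [.fwd 374, .bwd 396, .fwd 377],
   .loop none [.fwd 398],
   .loop none [.fwd 377, .bwd 399],
   .define,
   .loop (some (35, 8)) [.bwd 401, .fwd 287, .bwd 286, .bwd 371, .fwd 372, .fwd 371, .fwd 286, .bwd 287, .fwd 401],
   .define,
   .loop (some (31, 0)) [.bwd 403, .fwd 402, .bwd 401, .fwd 285, .bwd 281],
   .loop (some (32, 1)) [.bwd 403, .bwd 401, .bwd 283, .bwd 270, .fwd 404],
   .define,
   .loop (some (33, 0)) [.bwd 406, .bwd 404, .fwd 277, .fwd 278, .fwd 368, .fwd 397, .bwd 400, .fwd 371, .fwd 286, .bwd 287, .fwd 401],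
   .define,
   .loop (some (3, 0)) [.bwd 408, .fwd 402, .fwd 407, .bwd 406, .fwd 405],
   .loop (some (63, 1)) [.bwd 406, .bwd 403, .fwd 408],
   .define,
   .loop (some (30, 2)) [.bwd 342, .bwd 340, .fwd 269, .fwd 404, .fwd 411],
   .define,
   .loop (some (31, 1)) [.bwd 413, .fwd 412, .bwd 384, .bwd 393, .fwd 394],
   .define,
   .loop (some (17, 2)) [.fwd 413, .bwd 414, .fwd 393, .fwd 384, .fwd 343, .fwd 154, .fwd 415],
   .define,
   .loop (some (27, 10)) [.bwd 415, .bwd 125, .fwd 79, .fwd 80, .fwd 76, .bwd 72, .fwd 58, .fwd 72, .bwd 76, .bwd 80, .bwd 79, .bwd 77, .bwd 73, .fwd 135, .bwd 134, .fwd 132, .bwd 131, .fwd 73, .bwd 120, .bwd 119, .bwd 118, .fwd 140, .fwd 417],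
   .define,
   .loop (some (12, 1)) [.bwd 174, .fwd 177, .fwd 171, .fwd 415, .fwd 419],
   .loop (some (14, 0)) [.fwd 418, .fwd 419, .fwd 420, .bwd 174, .fwd 177, .fwd 171, .bwd 126, .fwd 127, .bwd 420],
   .define,
   .loop (some (3, 1)) [.bwd 422, .bwd 122, .bwd 138, .fwd 417, .bwd 421],
   .loop (some (12, 2)) [.bwd 417, .bwd 139, .fwd 136, .fwd 133, .fwd 422],
   .define,
   .loop (some (24, 15)) [.bwd 417, .bwd 140, .fwd 118, .fwd 115, .bwd 243, .fwd 246, .bwd 258, .bwd 336, .bwd 335, .bwd 334, .bwd 262, .bwd 239, .fwd 143, .bwd 144, .fwd 142, .bwd 130, .bwd 138, .bwd 140, .fwd 118, .fwd 119, .fwd 422, .bwd 423, .bwd 419, .fwd 416, .fwd 425],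
   .loop (some (62, 4)) [.bwd 410, .bwd 408, .fwd 403, .fwd 411, .fwd 425],
   .define,
   .loop (some (11, 2)) [.fwd 410, .bwd 427, .fwd 426, .bwd 424, .fwd 428],
   .loop (some (17, 1)) [.fwd 426, .bwd 417, .bwd 140, .fwd 118, .fwd 119, .fwd 422, .fwd 428],
   .define,
   .loop (some (23, 3)) [.fwd 363, .bwd 351, .fwd 345, .fwd 342, .bwd 356, .bwd 386, .fwd 387, .fwd 388, .bwd 359, .bwd 143, .fwd 76, .fwd 73, .bwd 74, .bwd 115, .fwd 119, .fwd 422, .fwd 428, .fwd 430, .bwd 425, .bwd 411, .fwd 409, .fwd 410, .fwd 431],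
   .define,
   .loop (some (12, 2)) [.bwd 431, .bwd 427, .bwd 430, .fwd 429, .fwd 433],
   .loop (some (17, 2)) [.fwd 365, .fwd 354, .bwd 363, .bwd 432, .bwd 431, .bwd 410, .fwd 433],
   .loop (some (23, 5)) [.fwd 435, .bwd 364, .fwd 337, .fwd 335, .fwd 336, .fwd 258, .fwd 328, .bwd 332, .bwd 329, .bwd 331, .bwd 329, .bwd 332, .bwd 329, .bwd 328, .bwd 258, .bwd 336, .fwd 337, .fwd 362, .fwd 367, .bwd 432, .bwd 431, .bwd 410, .fwd 433],
   .loop (some (23, 13)) [.fwd 435, .bwd 364, .bwd 335, .bwd 337, .bwd 335, .bwd 334, .fwd 263, .bwd 330, .fwd 332, .bwd 331, .fwd 333, .bwd 329, .bwd 328, .bwd 258, .bwd 336, .fwd 339, .bwd 335, .fwd 362, .bwd 366, .bwd 435, .bwd 433, .fwd 410, .fwd 431],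
   .define,
   .define,
   .loop (some (66, 19)) [.fwd 299, .bwd 297, .fwd 269, .fwd 270, .fwd 283, .fwd 285, .fwd 282, .fwd 64, .fwd 141, .fwd 142, .bwd 129, .bwd 160, .fwd 162, .bwd 159, .fwd 173, .fwd 176, .fwd 174, .bwd 127, .bwd 123, .bwd 138, .bwd 139, .fwd 136, .bwd 145, .fwd 438, .fwd 439],
   .define,
   .define,
   .loop (some (31, 2)) [.bwd 438, .fwd 145, .bwd 136, .fwd 441, .fwd 442],
   .define,
   .define,
   .loop (some (31, 2)) [.bwd 441, .fwd 148, .fwd 355, .fwd 444, .fwd 445],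
   .loop (some (56, 13)) [.bwd 445, .bwd 444, .bwd 358, .bwd 354, .bwd 352, .fwd 345, .fwd 341, .bwd 345, .fwd 346, .fwd 352, .fwd 354, .fwd 358, .fwd 444, .fwd 445],
   .define,
   .loop (some (56, 13)) [.bwd 448, .bwd 438, .bwd 259, .fwd 258, .bwd 246, .bwd 242, .fwd 240, .fwd 242, .fwd 244, .fwd 246, .bwd 258, .fwd 259, .fwd 438, .fwd 448]]

/-- justifications -/
noncomputable def just3 : List Cert.Just :=
  [.define,
   .loop (some (31, 3)) [.fwd 388, .bwd 359, .fwd 438, .fwd 448, .fwd 450],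
   .define,
   .loop (some (48, 0)) [.fwd 364, .fwd 365, .fwd 354, .fwd 358, .fwd 444, .fwd 445, .fwd 447, .fwd 446, .fwd 442, .fwd 443, .fwd 448, .fwd 449, .bwd 448, .fwd 439, .fwd 452],
   .define,
   .loop (some (17, 2)) [.bwd 450, .bwd 448, .bwd 443, .bwd 442, .bwd 446, .bwd 445, .fwd 454],
   .define,
   .loop (some (56, 13)) [.bwd 456, .fwd 440, .bwd 323, .fwd 324, .bwd 321, .fwd 313, .bwd 316, .fwd 315, .fwd 316, .fwd 321, .fwd 324, .fwd 323, .bwd 440, .fwd 456],
   .loop (some (62, 3)) [.fwd 449, .bwd 448, .fwd 439, .fwd 456, .fwd 457],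
   .define,
   .define,
   .loop (some (43, 9)) [.bwd 460, .bwd 459, .fwd 443, .fwd 448, .fwd 449, .fwd 450, .fwd 451, .fwd 389, .fwd 386, .fwd 356, .bwd 360, .bwd 359, .fwd 145, .bwd 136, .fwd 139],
   .define,
   .loop (some (31, 3)) [.fwd 426, .bwd 417, .fwd 461, .bwd 460, .fwd 462],
   .define,
   .define,
   .loop (some (31, 0)) [.bwd 465, .bwd 464, .bwd 461, .bwd 140, .fwd 118],
   .loop (some (43, 11)) [.bwd 464, .bwd 460, .bwd 459, .fwd 443, .bwd 438, .bwd 259, .fwd 258, .bwd 246, .fwd 255, .bwd 330, .bwd 329, .bwd 328, .fwd 247, .fwd 466, .bwd 465],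
   .define,
   .loop (some (66, 19)) [.fwd 294, .bwd 281, .bwd 269, .bwd 267, .bwd 304, .bwd 303, .bwd 296, .fwd 101, .bwd 113, .fwd 121, .fwd 123, .fwd 157, .fwd 173, .fwd 177, .bwd 169, .fwd 167, .bwd 166, .fwd 125, .fwd 415, .bwd 418, .bwd 424, .bwd 422, .bwd 119, .fwd 466, .fwd 468],
   .define,
   .loop (some (43, 12)) [.bwd 465, .fwd 467, .bwd 464, .bwd 461, .bwd 139, .fwd 148, .fwd 147, .fwd 144, .fwd 359, .bwd 388, .bwd 387, .bwd 389, .bwd 451, .bwd 455, .fwd 470],
   .define,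
   .loop (some (31, 1)) [.fwd 471, .bwd 466, .fwd 119, .fwd 422, .fwd 472],
   .define,
   .loop (some (17, 1)) [.fwd 473, .fwd 471, .bwd 465, .bwd 464, .bwd 460, .fwd 462, .fwd 474],
   .loop (some (43, 11)) [.fwd 475, .fwd 473, .bwd 470, .bwd 454, .bwd 444, .bwd 358, .bwd 354, .bwd 352, .fwd 351, .bwd 363, .bwd 432, .bwd 431, .bwd 427, .bwd 463, .fwd 474],
   .define,
   .loop (some (46, 0)) [.bwd 434, .bwd 433, .fwd 410, .bwd 427, .bwd 463, .fwd 474, .fwd 476, .bwd 474, .bwd 462, .fwd 460, .fwd 464, .fwd 467, .fwd 465, .fwd 468, .fwd 477],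
   .define,
   .loop (some (56, 13)) [.bwd 479, .fwd 469, .bwd 326, .fwd 327, .bwd 325, .fwd 315, .fwd 316, .fwd 313, .bwd 316, .fwd 325, .fwd 327, .fwd 326, .bwd 469, .fwd 479],
   .loop (some (62, 3)) [.fwd 467, .fwd 465, .fwd 468, .fwd 479, .fwd 480],
   .define,
   .define,
   .loop (some (62, 4)) [.fwd 456, .fwd 458, .bwd 448, .fwd 482, .fwd 483],
   .define,
   .define,
   .loop (some (30, 2)) [.fwd 259, .fwd 438, .fwd 482, .fwd 485, .fwd 486],
   .define,
   .define,
   .loop (some (2, 2)) [.bwd 477, .bwd 468, .bwd 465, .fwd 488, .fwd 489],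
   .define,
   .loop (some (31, 3)) [.fwd 410, .fwd 431, .bwd 478, .bwd 490, .fwd 491],
   .define,
   .loop (some (1, 5)) [.bwd 493, .fwd 481, .fwd 467, .fwd 488, .fwd 489],
   .define,
   .loop (some (51, 10)) [.bwd 494, .bwd 489, .bwd 488, .fwd 467, .bwd 464, .bwd 460, .fwd 462, .fwd 463, .fwd 427, .fwd 431, .fwd 432, .bwd 362, .bwd 337, .fwd 339, .fwd 337, .fwd 338, .fwd 495],
   .define,
   .loop (some (2, 1)) [.fwd 496, .bwd 493, .fwd 481, .fwd 465, .fwd 497],
   .define,
   .loop (some (31, 2)) [.bwd 495, .fwd 335, .fwd 336, .bwd 487, .fwd 499],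
   .define,
   .loop (some (36, 7)) [.fwd 473, .fwd 471, .fwd 497, .fwd 498, .bwd 495, .fwd 335, .fwd 336, .bwd 487, .fwd 501],
   .define,
   .loop (some (2, 1)) [.bwd 473, .bwd 502, .bwd 501, .fwd 499, .fwd 503],
   .define,
   .define,
   .loop (some (62, 0)) [.bwd 506, .bwd 505, .fwd 504, .bwd 470, .fwd 455],
   .define,
   .loop (some (46, 0)) [.fwd 247, .bwd 118, .fwd 140, .bwd 139, .fwd 441, .fwd 442, .fwd 459, .fwd 460, .fwd 464, .fwd 465, .bwd 471, .bwd 470, .fwd 455, .fwd 507, .fwd 508],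
   .define,
   .loop (some (43, 10)) [.bwd 510, .fwd 500, .fwd 496, .bwd 494, .fwd 491, .fwd 492, .bwd 429, .bwd 428, .bwd 423, .fwd 421, .bwd 417, .bwd 140, .fwd 118, .bwd 247, .bwd 509],
   .define,
   .loop (some (31, 2)) [.fwd 509, .bwd 258, .bwd 336, .bwd 453, .fwd 512],
   .define,
   .loop (some (47, 14)) [.bwd 512, .fwd 453, .fwd 364, .fwd 365, .fwd 354, .fwd 358, .fwd 444, .fwd 445, .fwd 447, .fwd 446, .fwd 442, .fwd 443, .fwd 448, .bwd 458, .fwd 514],
   .define,
   .loop (some (43, 10)) [.fwd 515, .fwd 513, .fwd 511, .bwd 510, .fwd 500, .bwd 495, .fwd 362, .bwd 432, .fwd 437, .fwd 436, .bwd 433, .fwd 410, .fwd 431, .bwd 434, .fwd 516],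
   .define,
   .define,
   .loop (some (11, 2)) [.fwd 512, .bwd 515, .bwd 517, .fwd 518, .fwd 519],
   .define,
   .loop (some (1, 0)) [.bwd 521, .fwd 520, .bwd 452, .bwd 439, .fwd 482],
   .define,
   .loop (some (1, 1)) [.bwd 523, .bwd 522, .fwd 483, .fwd 484, .fwd 452],
   .define,
   .loop (some (33, 11)) [.bwd 525, .bwd 524, .fwd 453, .fwd 339, .fwd 337, .fwd 495, .bwd 498, .bwd 497, .bwd 466, .fwd 115, .fwd 117],
   .loop (some (66, 0)) [.bwd 526, .bwd 116, .fwd 113, .bwd 98, .bwd 91, .bwd 90, .fwd 61, .bwd 59, .bwd 20, .fwd 18, .fwd 27, .fwd 34, .bwd 45, .bwd 46, .bwd 85, .fwd 86, .bwd 84, .fwd 296, .bwd 299, .bwd 440, .bwd 439, .bwd 443, .fwd 459, .fwd 460, .fwd 464, .fwd 465],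
   .loop none [.bwd 527],
   .loop none [.fwd 526, .bwd 528, .bwd 466],
   .loop none [.bwd 529],
   .loop none [.fwd 116, .bwd 530, .fwd 115],
   .loop none [.bwd 531],
   .loop none [.bwd 121, .bwd 532, .fwd 74],
   .loop none [.bwd 248, .bwd 532, .bwd 243],
   .loop none [.fwd 112, .bwd 532, .bwd 70],
   .loop none [.bwd 113, .bwd 532, .fwd 71],
   .loop none [.bwd 533],
   .loop none [.bwd 130, .bwd 537, .bwd 73],
   .loop none [.bwd 123, .bwd 537, .fwd 77],
   .loop none [.bwd 534],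
   .loop none [.bwd 251, .bwd 540, .bwd 242],
   .loop none [.fwd 317, .bwd 540, .fwd 245],
   .loop none [.bwd 535],
   .loop none [.fwd 108, .bwd 543, .bwd 67],
   .loop none [.bwd 536],
   .loop none [.fwd 101, .bwd 545, .fwd 46],
   .loop none [.fwd 98, .bwd 545, .bwd 42],
   .loop none [.bwd 99, .bwd 545, .bwd 85],
   .loop none [.bwd 102, .bwd 545, .fwd 43],
   .loop none [.bwd 538],
   .loop none [.fwd 142, .bwd 550, .bwd 76],
   .loop none [.bwd 539],
   .loop none [.bwd 124, .bwd 552, .fwd 78],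
   .loop none [.bwd 541],
   .loop none [.bwd 311, .bwd 554, .fwd 241],
   .loop none [.bwd 542],
   .loop none [.fwd 556, .bwd 315, .bwd 556, .bwd 229],
   .loop none [.fwd 314, .bwd 556, .bwd 222],
   .loop none [.bwd 544],
   .loop none [.bwd 106, .bwd 559, .bwd 57],
   .loop none [.bwd 546],
   .loop none [.bwd 84, .bwd 561, .bwd 44],
   .loop none [.fwd 82, .bwd 561, .fwd 89],
   .loop none [.fwd 561, .bwd 83, .bwd 561, .fwd 45],
   .loop none [.bwd 296, .bwd 561],
   .loop none [.bwd 547],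
   .loop none [.fwd 548],
   .loop none [.bwd 549],
   .loop none [.fwd 568, .bwd 104, .bwd 568, .bwd 32],
   .loop none [.bwd 551],
   .loop none [.fwd 141, .bwd 570, .bwd 75],
   .loop none [.bwd 553],
   .loop none [.fwd 572, .bwd 49, .bwd 572, .bwd 34],
   .loop none [.bwd 555],
   .loop none [.bwd 312, .bwd 574, .bwd 228],
   .loop none [.fwd 557],
   .loop none [.fwd 228, .bwd 576, .bwd 222],
   .loop none [.bwd 558],
   .loop none [.bwd 282, .bwd 578],
   .loop none [.bwd 560],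
   .loop none [.fwd 580, .bwd 92, .bwd 580, .bwd 4],
   .loop none [.fwd 96, .bwd 580, .fwd 8],
   .loop none [.fwd 567, .bwd 562],
   .loop none [.fwd 583, .bwd 63, .bwd 583, .fwd 41],
   .loop none [.fwd 579, .bwd 583, .fwd 75],
   .loop none [.bwd 563, .bwd 566],
   .loop none [.bwd 94, .bwd 586, .bwd 38],
   .loop none [.bwd 564],
   .loop none [.fwd 44, .bwd 588, .fwd 36],
   .loop none [.bwd 45, .bwd 588],
   .loop none [.bwd 565, .bwd 588, .bwd 78],
   .loop none [.bwd 569],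
   .loop none [.fwd 571, .bwd 586],
   .loop none [.bwd 75, .bwd 593],
   .loop none [.bwd 573],
   .loop none [.fwd 595, .bwd 590, .bwd 595, .fwd 29],
   .loop none [.fwd 78, .bwd 595, .fwd 28],
   .loop none [.bwd 575],
   .loop none [.fwd 577]]

/-- justifications -/
noncomputable def just4 : List Cert.Just :=
  [.loop none [.bwd 581],
   .loop none [.bwd 582],
   .loop none [.fwd 593, .bwd 584],
   .loop none [.bwd 594, .bwd 602],
   .loop none [.fwd 599, .bwd 585],
   .loop none [.fwd 601, .bwd 587, .bwd 600],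
   .loop none [.bwd 603, .bwd 605, .bwd 0],
   .loop none [.fwd 592, .fwd 589, .bwd 593, .bwd 602, .bwd 605],
   .loop none [.fwd 591, .bwd 598, .bwd 604],
   .loop none [.bwd 596, .bwd 607],
   .loop none [.fwd 608, .bwd 597, .bwd 609],
   .loop none [.fwd 610, .bwd 606],
   .loop none [.fwd 0, .bwd 611]]

/-- justifications -/
noncomputable def justs : List Cert.Just := just0 ++ just1 ++ just2 ++ just3 ++ just4

end CfsgLib.Spor.HSLocal.TcBad5
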