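import Cfsg.Agent.Lib.PresCert.Check

/-!
Coset table certificate (generated data).
-/

namespace CfsgLib.Spor.HSLocal.TcBad6

open CfsgLib.PresCert

noncomputable def tab : BTree := (.leaf 0x16ac005e0000000000880002800000000068000200000000004800018000000000280001000000000008000080000)

noncomputable def par : BTree := (.node (.leaf 0x500003000000000040001d000000000020001a00000000004000170000000000300015000000000010001900000000002000180000000000300017000000000000001600000000002000140000000000400008000000000010001300000000004000120000000000300009000000000020000f000000000020000e000000000010000e0000000000400003000000000000000a000000000000000b000000000040000a00000000003000070000000000400006000000000000000700000000005000020000000000100005000000000030000100000000001000020000000000000001000000000020000100000000005000000000000000000000) (.leaf 0x100027000000000010002d000000000040002e0000000000200024000000000030002c0000000000200029000000000000002400000000002000280000000000100024000000000040002700000000002000220000000000200025000000000050000f000000000040002300000000002000200000000000400021000000000020001f000000000000001f))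

noncomputable def fact : BTree := (.node (.node (.node (.leaf 0x250000a20000b000240000b30000b000230000b40000a000220000a50000a000210000a30000700020000091000090001f000090000090001e000092000090001d000094000060001c000082000080001b000081000070001a0000800000700019000074000070001800007200007000170000750000200016000062000060001500006300003000140000500000600013000061000050001200005500005000110000540000500010000052000050000f000053000010000e000042000030000d000020000040000c000041000020000b000011000030000a000030000010000900002300002000080000140000200007000022000010000600001500000) (.leaf 0xa50001b600003000a400019600016000a30001a60000e000a20001160000d000a10001760001a000a00001960000f0009f000186000110009e000136000110009d0000d60000a0009c0001260000d0009b0001b6000030009a0002060001f0009900016600019000980001a60000e0009700018600011000960001d600010000950001260000d000940002f600028000930002060001f0009200030600026000910001d60001000090000246000220008f0002f6000280008e000306000260008d000246000220008c0002e6000270008b0002e6000270008a0003160002c000890003160002c000880002e0000310008700031100027000860002e300030))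 (.node (.leaf 0x6500023200020000640001050002200063000224000210006200021300021000610002120001f000600001b5000200005f0002000001f0005e0001f5000030005d0001e00001e0005c0001220001e0005b0001e40001d0005a0001d000018000590001d100018000580001630001d000570001d20001a000560001c00001c000550001b20001c000540001c30001c000530001c400017000520001b10001b000510001b00001b000500001a40001b0004f0001b3000150004e0001a3000110004d0001900001a0004c0001a1000190004b000194000190004a000103000190004900019200018000480001840001800047000183000170004600013200017) (.leaf 0x0))) (.node (.node (.leaf 0x4500017100016000440001700001600043000164000160004200016200014000410001500001500040000152000150003f000154000080003e0001430000f0003d000144000140003c000130000140003b000141000130003a0000e300013000390001340001200038000121000120003700012000012000360001230000900035000101000110003400011000010000330000d400011000320001120000f000310000c400010000300001020000e0002f0000440000f0002e0000e00000f0002d0000f10000e0002c0000e4000030002b0000830000d0002a0000c20000d000290000d10000a000280000d00000a000270000c30000c000260000c00000b)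 (.leaf 0xbb00000500000000ba00001600000000b900001600000000b80000a600001000b700004600001000b60000e600004000b50000f60000e000b40000b60000a000b30001c600004000b200003600001000b10000f60000b000b00001160000a000af0001c600003000ae0001760000e000ad0000f600004000ac0001660000f000ab0001760000f000aa00013600011000a90001160000b000a80000d60000a000a70001c600004000a600003600001)) (.node (.leaf 0x8500030400020000840003010002d000830001250002f000820002f40002e000810002c10002e000800002e2000240007f0002d40002d0007e0002600002d0007d0002d30002c0007c0002700002c0007b0002c2000290007a0002b100022000790002b000024000780002540002a000770002a20002800076000220000290007500029100024000740001f10001f000730002010002000072000231000230007100021100021000700000d5000280006f000284000270006e000263000270006d000272000220006c0001f4000260006b000262000250006a0002550000f000690001d500024000680002440002300067000210000230006600023300023) (.leaf 0x0))))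

/-- the certificate -/
noncomputable def cert : Cert where
  n := 1
  v := 49
  g := 6
  inv := [0, 1, 2, 3, 4, 5]
  rels := [[1, 0, 1, 0, 1, 0, 1, 0], [1, 0, 3, 1, 0, 3], [1, 0, 2, 1, 0, 2], [1, 0, 4, 1, 0, 4], [0, 1, 0, 1, 0, 1, 0, 1], [0, 1, 3, 0, 1, 3], [0, 1, 2, 0, 1, 2], [0, 1, 4, 0, 1, 4], [1, 0, 1, 0, 3, 0, 1, 0, 1, 3], [1, 0, 1, 0, 2, 0, 1, 0, 1, 2], [1, 0, 1, 0, 4, 0, 1, 0, 1, 4], [3, 2, 3, 2, 3, 2], [3, 4, 3, 4, 3, 4], [1, 0, 3, 1, 0, 2, 3, 2, 3, 2], [1, 0, 3, 4, 3, 4, 3, 1, 0, 4], [0, 1, 3, 0, 1, 2, 3, 2, 3, 2], [0, 1, 3, 4, 3, 4, 3, 0, 1, 4], [2, 4, 2, 4, 2, 4, 2, 4], [1, 0, 1, 0, 3, 4, 3, 4, 3, 0, 1, 0, 1, 4], [1, 0, 1, 0, 2, 3, 2, 3, 2, 0, 1, 0, 1, 3], [1, 0, 2, 1, 0, 4, 2, 4, 2, 4, 2, 4], [0, 1, 2, 0, 1, 4, 2, 4, 2, 4, 2, 4], [3, 2, 3, 2, 4, 3, 4, 3, 4, 2], [1, 2, 4, 2, 4, 1, 2, 3, 0, 2, 4, 2, 4, 0, 2, 3, 2, 0, 2, 4, 2, 4, 0, 3], [1, 3, 0, 1, 2, 3, 0, 2, 4, 2, 4, 0, 3, 2, 0, 2,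 4, 2, 4, 0, 3, 0, 2, 4, 2, 4], [0, 1, 2, 0, 1, 0, 2, 4, 2, 4, 0, 3, 0, 2, 4, 2, 4, 0, 2, 3, 2, 0, 2, 4, 2, 4, 0, 3], [1, 0, 1, 0, 1, 0, 3, 4, 0, 2, 4, 2, 4, 0, 3, 4, 0, 2, 4, 2, 4, 0, 3, 4, 0, 2, 4, 2, 4, 0], [1, 0, 1, 0, 3, 0, 2, 4, 2, 4, 0, 4, 0, 2, 4, 2, 4, 0, 4, 2, 4, 2, 4, 3], [1, 0, 1, 0, 3, 4, 3, 0, 2, 4, 2, 4, 0, 2, 4, 2, 0, 2, 4, 2, 4, 0, 3, 4], [1, 0, 1, 0, 3, 4, 2, 4, 2, 4, 0, 2, 4, 2, 4, 0, 4, 0, 2, 4, 2, 4, 0, 3], [5, 3, 5, 3, 5, 3], [5, 2, 4, 5, 2, 4], [5, 4, 2, 5, 4, 2], [1, 0, 5, 1, 0, 5, 0, 1, 5, 0, 1, 5], [1, 0, 5, 3, 5, 3, 5, 1, 0, 3], [1, 0, 5, 2, 5, 0, 1, 5, 4, 5], [1, 0, 5, 2, 4, 5, 0, 1, 2, 4], [1, 0, 5, 4, 2, 5, 0, 1, 4, 2], [1, 0, 5, 4, 2, 5, 4, 1, 0, 2], [1, 0, 2, 1, 0, 4, 5, 2, 4, 5], [5, 3, 2, 5, 2, 3, 5, 2, 5, 2, 3, 2, 5, 2, 3], [5, 3, 2, 5, 4, 5, 3, 2, 5, 4, 5, 3, 4, 5, 2], [5, 3, 2, 5, 4, 5, 3, 4, 5, 2, 5, 3, 4, 5, 2], [5, 3, 2, 0, 1, 4, 2, 4, 3, 5, 2, 3, 4, 2, 3,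 4], [5, 3, 2, 4, 0, 1, 2, 4, 3, 5, 4, 3, 2, 4, 3, 2], [5, 3, 4, 2, 0, 1, 4, 2, 3, 5, 4, 3, 2, 4, 3, 2], [5, 3, 4, 2, 3, 5, 2, 3, 2, 4, 2, 4, 3, 2, 0, 1], [5, 3, 4, 2, 3, 5, 2, 3, 4, 2, 4, 2, 0, 1, 3, 2], [5, 3, 4, 2, 3, 5, 2, 3, 4, 2, 4, 2, 3, 2, 0, 1], [5, 3, 4, 2, 3, 5, 4, 3, 2, 4, 2, 3, 4, 3, 0, 1], [5, 3, 4, 2, 3, 5, 4, 3, 2, 4, 2, 4, 0, 1, 3, 4], [5, 3, 4, 2, 3, 0, 1, 0, 1, 5, 2, 3, 0, 1, 3, 4, 2, 4], [5, 3, 4, 2, 3, 2, 5, 2, 5, 2, 0, 1, 0, 1, 5, 2, 0, 1], [5, 0, 1, 0, 1, 5, 3, 2, 4, 2, 4, 3], [3, 4, 2, 5, 3, 2, 0, 2, 4, 2, 4, 0, 2, 3, 5, 2, 4, 3, 4], [5, 2, 4, 3, 0, 1, 0, 1, 3, 4, 2, 5, 3, 2, 4, 2, 4, 3], [5, 3, 2, 0, 2, 4, 2, 4, 0, 2, 3, 5, 2, 3, 2], [0, 1, 0, 1, 4, 0, 1, 0, 1, 4], [0, 1, 0, 1, 3, 0, 1, 0, 1, 3], [3, 2, 3, 2, 3, 4, 2, 4, 2, 4, 2, 4], [3, 2, 3, 4, 3, 2, 4, 3, 4, 2, 3, 4], [3, 2, 3, 4, 2, 3, 2, 4, 2, 3, 2, 4], [0, 2, 3, 0, 3, 2], [0, 2, 0, 2], [0, 4, 0, 4, 0, 4, 1, 0], [0,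 3, 0, 3], [5, 0, 5, 2, 4, 3, 0, 4, 0, 2, 3, 0, 4, 0, 3, 4, 2, 5, 0, 5, 1, 4, 3, 2, 0, 4, 2, 3, 0, 4]]
  subs := [[0], [1], [2], [3], [4]]
  tab := tab
  par := par
  fact := fact
  nfact := 182

/-- justifications -/
noncomputable def just0 : List Cert.Just :=
  [.define,
   .define,
   .loop (some (31, 2)) [.bwd 0, .edge 2, .edge 4, .fwd 0, .fwd 1],
   .loop (some (56, 13)) [.bwd 1, .bwd 0, .edge 3, .edge 2, .edge 0, .edge 2, .edge 4, .edge 2, .edge 4, .edge 0, .edge 2, .edge 3, .fwd 0, .fwd 1],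
   .define,
   .loop (some (46, 15)) [.bwd 0, .edge 3, .edge 4, .edge 2, .edge 3, .fwd 0, .fwd 1, .fwd 3, .bwd 1, .bwd 2, .bwd 1, .bwd 2, .fwd 3, .bwd 1, .fwd 4],
   .define,
   .loop (some (2, 1)) [.bwd 1, .bwd 5, .bwd 4, .fwd 1, .fwd 6],
   .loop (some (63, 3)) [.fwd 7, .bwd 1, .fwd 4],
   .define,
   .loop (some (11, 1)) [.bwd 9, .fwd 1, .fwd 3, .bwd 1, .fwd 9],
   .loop (some (12, 1)) [.bwd 9, .bwd 2, .fwd 3, .fwd 2, .fwd 9],
   .loop (some (30, 2)) [.bwd 9, .bwd 0, .edge 3, .fwd 0, .fwd 9],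
   .define,
   .loop (some (1, 1)) [.bwd 9, .bwd 5, .bwd 4, .fwd 9, .fwd 13],
   .loop (some (62, 2)) [.fwd 14, .bwd 9, .fwd 1, .bwd 7, .bwd 8],
   .loop (some (63, 3)) [.fwd 14, .fwd 10, .bwd 14],
   .define,
   .loop (some (40, 7)) [.bwd 17, .bwd 1, .fwd 9, .fwd 10, .fwd 12, .fwd 10, .bwd 9, .bwd 0, .edge 3, .edge 2, .fwd 0, .fwd 1, .fwd 3, .fwd 17],
   .loop (some (41, 4)) [.bwd 17, .fwd 3, .bwd 1, .bwd 0, .edge 4, .fwd 0, .fwd 9, .fwd 11, .fwd 12, .fwd 10, .fwd 12, .bwd 9, .fwd 1, .fwd 17],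
   .define,
   .loop (some (35, 0)) [.bwd 20, .bwd 17, .bwd 1, .bwd 0, .edge 0, .edge 1, .fwd 0, .bwd 2, .fwd 17],
   .loop (some (63, 1)) [.bwd 20, .fwd 18, .fwd 20],
   .define,
   .loop (some (54, 9)) [.bwd 23, .fwd 14, .fwd 10, .bwd 9, .bwd 0, .edge 2, .edge 4, .edge 3, .edge 4, .edge 3, .edge 4, .edge 2, .fwd 0, .fwd 9, .fwd 10, .bwd 14, .fwd 16, .fwd 23],
   .loop (some (64, 2)) [.bwd 23, .fwd 14, .fwd 11, .fwd 13, .fwd 14, .bwd 14, .fwd 23],
   .loop (some (64, 6)) [.fwd 25, .fwd 25, .bwd 23, .fwd 14, .fwd 11, .bwd 14, .fwd 23],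
   .define,
   .loop (some (30, 2)) [.bwd 27, .bwd 17, .fwd 3, .fwd 17, .fwd 27],
   .define,
   .loop (some (12, 2)) [.bwd 29, .bwd 27, .fwd 19, .fwd 27, .fwd 29],
   .loop (some (43, 13)) [.bwd 27, .fwd 19, .bwd 17, .fwd 3, .bwd 1, .fwd 4, .fwd 5, .bwd 2, .bwd 1, .bwd 2, .fwd 3, .fwd 17, .fwd 18, .fwd 27, .fwd 29],
   .define,
   .loop (some (65, 1)) [.bwd 32, .fwd 30, .fwd 32],
   .define,
   .loop (some (1, 0)) [.bwd 34, .bwd 27, .fwd 21, .bwd 20, .fwd 27],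
   .loop (some (62, 1)) [.fwd 33, .bwd 32, .fwd 30, .fwd 31, .fwd 34],
   .loop (some (62, 4)) [.fwd 22, .bwd 20, .fwd 18, .fwd 27, .fwd 34],
   .define,
   .define,
   .loop (some (3, 1)) [.bwd 38, .fwd 5, .fwd 4, .fwd 38, .fwd 39],
   .loop (some (64, 1)) [.fwd 7, .fwd 2, .fwd 4, .fwd 38, .fwd 39, .fwd 40, .bwd 40],
   .define,
   .loop (some (54, 10)) [.bwd 32, .fwd 31, .bwd 27, .bwd 17, .bwd 1, .bwd 2, .fwd 3, .fwd 2, .fwd 9, .fwd 11, .fwd 10, .fwd 12, .bwd 9, .fwd 1, .bwd 7, .bwd 8, .fwd 38, .fwd 42],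
   .define,
   .loop (some (17, 1)) [.fwd 36, .bwd 43, .bwd 42, .bwd 38, .fwd 8, .bwd 41, .fwd 44],
   .loop (some (27, 17)) [.fwd 45, .fwd 36, .bwd 43, .bwd 42, .bwd 38, .fwd 15, .bwd 13, .bwd 14, .bwd 13, .bwd 14, .bwd 15, .bwd 4, .fwd 1, .fwd 2, .fwd 1, .fwd 2, .fwd 4, .fwd 38, .bwd 40, .fwd 44, .fwd 45, .fwd 36, .bwd 43],
   .loop (some (3, 0)) [.fwd 46, .fwd 45, .bwd 35, .fwd 34, .bwd 45],
   .define,
   .loop (some (62, 3)) [.bwd 48, .fwd 24, .fwd 25, .fwd 24, .fwd 48],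
   .loop (some (1, 0)) [.fwd 49, .bwd 48, .fwd 26, .fwd 25, .fwd 48],
   .define,
   .loop (some (12, 2)) [.bwd 38, .fwd 15, .fwd 23, .fwd 48, .fwd 51],
   .define,
   .loop (some (1, 1)) [.fwd 52, .fwd 39, .fwd 40, .bwd 52, .fwd 53],
   .loop (some (64, 1)) [.fwd 54, .bwd 51, .fwd 49, .fwd 51, .fwd 53, .fwd 54, .bwd 54],
   .loop (some (62, 2)) [.fwd 54, .fwd 52, .fwd 42, .fwd 46, .bwd 44],
   .define,
   .loop (some (23, 3)) [.bwd 57, .bwd 21, .fwd 18, .fwd 27, .fwd 34, .fwd 36, .bwd 43, .bwd 42, .bwd 38, .bwd 4, .fwd 1, .fwd 3, .bwd 1, .fwd 4, .fwd 8, .bwd 41, .fwd 44, .fwd 45, .bwd 34, .bwd 27, .fwd 21, .fwd 22, .fwd 57],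
   .loop (some (64, 2)) [.bwd 57, .bwd 20, .fwd 19, .fwd 21, .bwd 20, .fwd 20, .fwd 57],
   .define,
   .loop (some (26, 10)) [.bwd 60, .fwd 55, .fwd 54, .fwd 52, .bwd 38, .bwd 4, .fwd 1, .fwd 2, .fwd 1, .fwd 2, .fwd 4, .fwd 15, .fwd 23, .fwd 25, .fwd 24, .bwd 23, .fwd 16, .fwd 23, .fwd 25, .fwd 26, .fwd 25, .fwd 26, .fwd 25, .fwd 26, .fwd 25, .fwd 48, .fwd 51, .bwd 54, .fwd 60],
   .define,
   .loop (some (2, 0)) [.bwd 62, .bwd 60, .bwd 53, .bwd 54, .fwd 60],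
   .loop (some (62, 1)) [.fwd 52, .bwd 40, .fwd 56, .fwd 60, .fwd 62],
   .define,
   .loop (some (60, 11)) [.bwd 65, .fwd 64, .fwd 52, .bwd 38, .fwd 15, .fwd 16, .fwd 23, .fwd 48, .fwd 51, .bwd 64, .fwd 65],
   .define,
   .loop (some (11, 2)) [.bwd 42, .bwd 52, .bwd 64, .fwd 65, .fwd 67],
   .loop (some (22, 4)) [.fwd 68, .fwd 43, .fwd 33, .bwd 43, .bwd 42, .bwd 52, .bwd 64, .fwd 65, .fwd 67],
   .define,
   .loop (some (1, 1)) [.fwd 68, .bwd 47, .bwd 46, .bwd 68, .fwd 70],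
   .loop (some (62, 2)) [.fwd 71, .fwd 68, .bwd 42, .bwd 40, .fwd 44],
   .define,
   .loop (some (12, 1)) [.bwd 72, .fwd 45, .fwd 37, .fwd 57, .fwd 73],
   .loop (some (62, 3)) [.bwd 73, .fwd 58, .fwd 59, .fwd 58, .fwd 73],
   .loop (some (3, 0)) [.fwd 75, .fwd 74, .bwd 70, .bwd 71, .bwd 74],
   .define,
   .loop (some (12, 2)) [.bwd 77, .fwd 65, .fwd 66, .bwd 65, .fwd 77],
   .loop (some (23, 3)) [.fwd 74, .bwd 70, .bwd 67, .bwd 65, .bwd 62, .bwd 60, .fwd 55, .fwd 60, .fwd 61, .fwd 62, .fwd 64, .fwd 52, .fwd 42, .fwd 46, .bwd 44, .fwd 41, .bwd 8, .fwd 38, .bwd 40, .fwd 56, .bwd 53, .bwd 64, .fwd 77],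
   .loop (some (64, 2)) [.bwd 77, .bwd 62, .fwd 61, .fwd 63, .bwd 62, .fwd 62, .fwd 77],
   .define,
   .loop (some (11, 2)) [.bwd 60, .bwd 56, .fwd 44, .fwd 72, .fwd 81],
   .loop (some (23, 0)) [.bwd 81, .bwd 74, .bwd 79, .bwd 77, .bwd 63, .bwd 60, .bwd 56, .fwd 40, .fwd 42, .fwd 43, .bwd 36, .bwd 45, .bwd 46, .bwd 42, .bwd 52, .bwd 64, .bwd 62, .bwd 60, .fwd 55, .fwd 60, .fwd 61, .fwd 62, .fwd 65],
   .loop (some (23, 17)) [.bwd 81, .bwd 74, .bwd 79, .bwd 77, .bwd 62, .bwd 82, .bwd 83, .fwd 67, .fwd 69, .bwd 67, .fwd 66, .fwd 83, .bwd 81, .bwd 72, .bwd 46, .bwd 42, .bwd 38, .fwd 8, .bwd 41, .fwd 40, .fwd 42, .bwd 68, .bwd 67],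
   .define,
   .loop (some (17, 2)) [.fwd 51, .bwd 64, .fwd 77, .fwd 79, .fwd 74, .fwd 81, .fwd 85],
   .loop (some (23, 13)) [.fwd 86, .bwd 48, .fwd 24, .fwd 25, .fwd 24, .bwd 23, .fwd 16, .fwd 23, .fwd 25, .fwd 48, .fwd 50, .bwd 86, .bwd 85, .bwd 81, .bwd 74, .fwd 76, .bwd 79, .fwd 78, .fwd 80, .fwd 79, .fwd 74, .fwd 81, .fwd 85],
   .define,
   .define,
   .loop (some (66, 2)) [.bwd 79, .bwd 77, .fwd 65, .fwd 84, .fwd 85, .fwd 87, .fwd 86, .bwd 48, .fwd 25, .bwd 23, .fwd 14, .bwd 9, .bwd 2, .bwd 1, .bwd 0, .edge 0, .fwd 0, .bwd 5, .fwd 38, .bwd 52, .bwd 64, .bwd 62, .fwd 61, .bwd 60, .bwd 56, .fwd 40, .bwd 38, .fwd 88, .fwd 89],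
   .define,
   .loop (some (56, 13)) [.bwd 91, .bwd 88, .fwd 15, .fwd 16, .fwd 14, .fwd 10, .fwd 11, .fwd 10, .fwd 11, .bwd 14, .fwd 16, .bwd 15, .fwd 88, .fwd 91],
   .define,
   .loop (some (31, 3)) [.bwd 42, .bwd 38, .fwd 88, .fwd 91, .fwd 93],
   .define,
   .loop (some (56, 13)) [.bwd 95, .fwd 90, .bwd 73, .fwd 58, .fwd 59, .fwd 58, .bwd 57, .fwd 22, .fwd 57, .fwd 59, .fwd 58, .fwd 73, .bwd 90, .fwd 95],
   .loop (some (62, 3)) [.fwd 92, .bwd 91, .fwd 89, .fwd 95, .fwd 96],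
   .define,
   .loop (some (31, 3)) [.bwd 81, .bwd 74, .bwd 90, .fwd 95, .fwd 98],
   .define,
   .define,
   .loop (some (31, 2)) [.bwd 88, .fwd 8, .bwd 41, .fwd 100, .fwd 101],
   .define,
   .loop (some (43, 11)) [.fwd 102, .fwd 91, .fwd 92, .fwd 93, .fwd 94, .bwd 68, .bwd 67, .fwd 84, .bwd 83, .fwd 66, .fwd 67, .fwd 69, .fwd 68, .bwd 94, .fwd 103],
   .define,
   .loop (some (31, 3)) [.fwd 36, .bwd 43, .bwd 94, .fwd 103, .fwd 105],
   .loop (some (51, 13)) [.fwd 92, .fwd 93, .fwd 103, .fwd 105, .fwd 106, .fwd 37, .fwd 57, .fwd 58, .fwd 73, .fwd 75, .fwd 76, .fwd 75, .fwd 76, .bwd 90, .fwd 95, .fwd 96, .fwd 97],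
   .loop (some (1, 3)) [.fwd 97, .fwd 92, .fwd 107, .bwd 97, .fwd 96],
   .loop (some (2, 3)) [.bwd 89, .fwd 91, .fwd 107, .bwd 97, .bwd 95],
   .loop (some (9, 8)) [.fwd 91, .fwd 107, .bwd 97, .fwd 108, .fwd 97, .bwd 91, .fwd 89, .fwd 109, .bwd 89],
   .define,
   .loop (some (3, 1)) [.bwd 93, .fwd 107, .bwd 97, .fwd 98, .fwd 111],
   .define,
   .loop (some (17, 1)) [.fwd 101, .fwd 102, .fwd 91, .fwd 93, .fwd 103, .fwd 105, .fwd 113],
   .define,
   .loop (some (3, 0)) [.bwd 115, .bwd 98, .fwd 108, .fwd 97, .fwd 93],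
   .define,
   .loop (some (63, 2)) [.bwd 103, .bwd 112, .fwd 117],
   .define,
   .loop (some (62, 3)) [.bwd 104, .bwd 103, .bwd 112, .fwd 117, .fwd 119],
   .loop (some (64, 3)) [.fwd 120, .fwd 102, .fwd 110, .fwd 89, .bwd 89, .bwd 102, .bwd 120],
   .define,
   .loop (some (2, 3)) [.fwd 118, .bwd 103, .fwd 116, .bwd 115, .fwd 122],
   .define,
   .loop (some (31, 3)) [.bwd 86, .bwd 85, .bwd 99, .fwd 122, .fwd 124],
   .define,
   .loop (some (3, 5)) [.bwd 126, .fwd 120, .fwd 102, .fwd 110, .fwd 89],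
   .loop (some (47, 14)) [.bwd 122, .fwd 99, .fwd 82, .fwd 61, .bwd 60, .bwd 56, .fwd 100, .fwd 101, .bwd 104, .fwd 105, .fwd 113, .fwd 114, .fwd 101, .bwd 120, .fwd 126],
   .define,
   .loop (some (1, 1)) [.bwd 128, .bwd 126, .fwd 120, .bwd 104, .fwd 129],
   .loop (some (26, 0)) [.bwd 129, .bwd 118, .bwd 123, .bwd 130, .bwd 129, .bwd 118, .fwd 119, .fwd 121, .fwd 120, .bwd 101, .bwd 114, .bwd 113, .bwd 105, .bwd 118, .fwd 119, .fwd 121, .fwd 120, .bwd 101, .bwd 114, .bwd 113, .bwd 105, .bwd 118, .fwd 119, .fwd 121, .fwd 120, .bwd 101, .bwd 114, .bwd 113, .bwd 105, .bwd 118],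
   .loop none [.bwd 131],
   .loop none [.bwd 130, .bwd 132, .fwd 118],
   .loop none [.bwd 133],
   .loop none [.fwd 122, .bwd 134, .bwd 103],
   .loop none [.fwd 128, .bwd 134, .fwd 104],
   .loop none [.bwd 124, .bwd 134, .fwd 105],
   .loop none [.bwd 135],
   .loop none [.bwd 99, .bwd 138, .fwd 94],
   .loop none [.bwd 136],
   .loop none [.fwd 127, .bwd 140, .fwd 102],
   .loop none [.bwd 137],
   .loop none [.bwd 125, .bwd 142, .fwd 106],
   .loop none [.bwd 139],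
   .loop none [.fwd 84, .bwd 144, .fwd 46],
   .loop none [.fwd 81, .bwd 144, .bwd 42],
   .loop none [.bwd 82, .bwd 144, .bwd 68],
   .loop none [.bwd 141],
   .loop none [.bwd 90, .bwd 148, .bwd 88]]

/-- justifications -/
noncomputable def just1 : List Cert.Just :=
  [.loop none [.bwd 143],
   .loop none [.fwd 150, .bwd 49, .bwd 150, .bwd 34],
   .loop none [.bwd 51, .bwd 150, .bwd 45],
   .loop none [.bwd 145],
   .loop none [.bwd 67, .bwd 153, .bwd 44],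
   .loop none [.fwd 65, .bwd 153, .fwd 72],
   .loop none [.fwd 153, .bwd 66, .bwd 153, .fwd 45],
   .loop none [.bwd 146],
   .loop none [.fwd 147],
   .loop none [.bwd 149],
   .loop none [.fwd 159, .bwd 75, .bwd 159, .bwd 4],
   .loop none [.fwd 79, .bwd 159, .fwd 8],
   .loop none [.bwd 151],
   .loop none [.fwd 45, .bwd 162, .fwd 29],
   .loop none [.bwd 152],
   .loop none [.fwd 64, .bwd 164, .bwd 44],
   .loop none [.fwd 158, .bwd 154],
   .loop none [.fwd 166, .bwd 61, .bwd 166, .fwd 41],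
   .loop none [.bwd 155, .bwd 157],
   .loop none [.bwd 77, .bwd 168, .bwd 38],
   .loop none [.bwd 156, .bwd 162],
   .loop none [.fwd 44, .bwd 170, .bwd 31],
   .loop none [.bwd 160],
   .loop none [.bwd 161],
   .loop none [.fwd 163, .bwd 170],
   .loop none [.fwd 165, .bwd 168],
   .loop none [.fwd 175, .bwd 167],
   .loop none [.fwd 173, .bwd 169, .bwd 172],
   .loop none [.fwd 174, .fwd 171, .bwd 175, .bwd 176, .bwd 177],
   .loop none [.fwd 178, .bwd 28, .bwd 178, .bwd 0],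
   .loop none [.bwd 179],
   .loop none [.fwd 0, .bwd 180]]

/-- justifications -/
noncomputable def justs : List Cert.Just := just0 ++ just1

end CfsgLib.Spor.HSLocal.TcBad6
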