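import Cfsg.Agent.Lib.PresCert.Check

/-!
Coset table certificate (generated data).
-/

namespace CfsgLib.Spor.HSLocal.TcBad7

open CfsgLib.PresCert

noncomputable def tab : BTree := (.leaf 0x4bcc01328000000000880002800000000068000200000000004800018000000000280001000000000008000080000)

noncomputable def par : BTree := (.node (.node (.node (.leaf 0x20001e000000000040001b000000000050000f000000000030001b000000000020001a000000000040001900000000002000150000000000000017000000000020001400000000004000080000000000500003000000000010001300000000004000120000000000300009000000000020000f000000000020000e000000000010000e0000000000400003000000000000000a000000000000000b000000000040000a00000000003000070000000000400006000000000000000700000000005000020000000000100005000000000030000100000000001000020000000000000001000000000020000100000000005000000000000000000000) (.leaf 0x500033000000000000009d00000000005000360000000000400092000000000040009100000000002000980000000000000093000000000040002c00000000003000950000000000400034000000000040002f00000000004000930000000000300090000000000000008f0000000000000090000000000020008f00000000005000670000000000300085000000000040008c000000000000008b000000000020007c000000000020007e0000000000300086000000000000008600000000000000850000000000400085000000000050004c000000000030007a000000000030007900000000004000360000000000400037000000000000007d))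 (.node (.leaf 0x5c0000000000000058000000000000005b000000000020005b000000000030002900000000000000590000000000200058000000000030001d000000000000004a00000000001000420000000000500021000000000010005000000000001000520000000000000051000000000030004f000000000030004d000000000000004e000000000010004d0000000000000042000000000020004a000000000030004a000000000040004900000000003000440000000000300047000000000020004600000000003000450000000000400043000000000050004000000000002000420000000000300041000000000050003d000000000000003b) (.leaf 0x1000ca00000000003000c900000000000000c800000000002000c700000000003000c6000000000050009c00000000001000a700000000002000a500000000003000bd00000000001000c100000000002000c000000000003000bf))) (.node (.node (.leaf 0x3e000000000030001e0000000000300015000000000040003b000000000030002e0000000000000038000000000000001f0000000000400035000000000010001d000000000000001d0000000000500018000000000010001b0000000000000031000000000000001c0000000000400027000000000000002e000000000000001e000000000040002d0000000000200029000000000020002a000000000000002900000000001000290000000000400028000000000020002700000000001000150000000000400025000000000020002200000000004000180000000000300016000000000010002100000000002000200000000000300018)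 (.leaf 0x1000bd00000000000000b600000000002000b600000000001000a9000000000050007900000000001000b200000000004000b800000000000000b700000000001000ac00000000003000b500000000005000b300000000000000b3000000000030009d00000000002000ab00000000001000ab00000000002000af00000000004000ae00000000003000a000000000004000ac00000000002000a900000000000000a9000000000050009800000000004000a800000000003000a6000000000020009e00000000004000a1000000000010009e00000000004000a3000000000020009d00000000002000a10000000000500081000000000020009f)) (.node (.leaf 0x7b000000000030007d000000000050006f000000000030007b00000000005000610000000000200079000000000040005f0000000000200077000000000040005a0000000000000073000000000000007200000000000000470000000000300066000000000050005c000000000010006f000000000000006f000000000020006c0000000000000048000000000010004500000000005000200000000000100048000000000010004400000000000000450000000000000049000000000040004e00000000004000620000000000100062000000000010004c000000000000006200000000003000610000000000200055000000000020004d)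 (.leaf 0x0))))

noncomputable def fact : BTree := (.node (.node (.node (.node (.node (.leaf 0x250000a20000b000240000b30000b000230000b40000a000220000a50000a000210000a30000700020000091000090001f000090000090001e000092000090001d000094000060001c000082000080001b000081000070001a0000800000700019000074000070001800007200007000170000750000200016000062000060001500006300003000140000500000600013000061000050001200005500005000110000540000500010000052000050000f000053000010000e000042000030000d000020000040000c000041000020000b000011000030000a000030000010000900002300002000080000140000200007000022000010000600001500000) (.leaf 0x2250002660000c0022400017600021002230002260000e0022200020600011002210002560001000220000276000150021f000286000190021e000736000540021d0005c6000580021c0005b6000590021b0002e60001e0021a0003160001c002190002d60001b00218000256000100021700028600019002160005b600059002150002d60001b002140002960001a002130002960001a002120002b60002a002110002b60002a00210000cb6000a90020f000cb6000a90020e000cb50002b0020d000cb1000ca0020c000ca0000a50020b000ca3000c90020a000c91000b300209000c90000c800208000a53000c800207000c82000c700206000c73000c6))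 (.node (.leaf 0x1250006b100048001240006a30006a001230006700006a001220006a100044001210006910006600120000690000450011f000681000670011e000680000490011d000662000670011c000673000670011b0006740004e0011a00017500066001190006640006200118000652000570011700065300065001160004c000065001150006510006200114000633000640011300061000064001120006410004c001110004f20006300110000631000430010f000630000620010e0004e2000620010d000623000610010c000601000610010b000612000550010a000430000600010900060300060001080006020004d001070005d20005f001060005f100058) (.leaf 0x0))) (.node (.node (.leaf 0xa50003c40003b000a40003b20003b000a30003b30002e000a20003020003a000a10003a000038000a00002f2000390009f000391000380009e0003900001f0009d000383000380009c0002e2000380009b000384000350009a000372000330009900035000037000980003710001d00097000322000360009600036100035000950003600001d00094000312000350009300035500018000920003420002b0009100034300033000900002d0000340008f0003410001b0008e000324000330008d0003310001c0008c000330000310008b0002c3000320008a00032100031000890003200001c000880003130002d0008700031400027000860003010001e)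 (.leaf 0x0)) (.node (.leaf 0x1a500096100097001a400030400097001a300097300095001a200095000096001a100096400034001a0000932000950019f0009540002f0019e0009420008e0019d000944000930019c0007c5000930019b000933000900019a000912000920019900092100090001980009200008f001970009110008f001960009100009000195000904000900019400090500062001930009020008f001920008f40008f001910008f50006700190000851000860018f000886000860018e000866000880018d000850000850018c000876000850018b000856000870018a0008e50008e001890008b40008e001880008e00008e001870008910008e001860008e300085) (.leaf 0x0)))) (.node (.node (.node (.leaf 0x6500024300024000640002440001800063000231000230006200023000023000610002240002300060000233000160005f000223000110005e000210000220005d000221000210005c000214000210005b000103000210005a0002120002000059000204000200005800020300018000570001f30001f000560001d40001f000550001f20001e000540000d50001e000530001e40001b000520001c20001d000510001d50000f000500001540001c0004f0001c30001b0004e0001b20001a0004d0001050001a0004c0001a4000190004b000190000190004a000193000190004900019200015000480001320001800047000181000170004600018000017)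 (.leaf 0x264000005000000026300001600000002620001d600001002610000a600001002600001e60001d0025f0000b6000010025e0001d6000000025d000046000010025c0004e60001d0025b0001d5000040025a0000e60000400259000246000040025800003600001002570005560004e002560006c60004e002550001e60000a002540000a60000b002530000d60000a002520001d50000e002510000f60000e002500000c60000b0024f0006c60001e0024e0000d40000d0024d0000f60000c0024c0001160000d0024b000246000030024a0001860000e002490005560001d002480000f600004002470001760000f0024600024600004)) (.node (.leaf 0x1650008110007e001640007c0000810016300081400037001620007f200080001610008010007b001600008000007d0015f0007f10007d0015e0007f00007b0015d0003a40007e0015c0007e50007e0015b0007e30007d0015a0007d40007d001590007b20007d001580007d50006f001570003940007c001560007c30007b001550007b40007b001540007b500061001530007a10007a0015200079100079001510007900007a001500005e40007a0014f0007a2000790014e0007940005f0014d000781000780014c000770000780014b000773000780014a0005d4000780014900078200077001480007740005a0014700076200076001460006b300076)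 (.leaf 0x0))) (.node (.node (.leaf 0xe500053200053000e400052400052000e30004b000053000e200053100052000e10004e300052000e000052000051000df00041100051000de0005130004f000dd00050200050000dc00041000050000db0005030004d000da0004a10004f000d90004f00004e000d80001450004e000d70004e10004d000d60004d000042000d50004840004c000d40004c30004c000d30004c20004a000d20004b20004b000d10003e50004b000d00004140004b000cf0004b30004a000ce0000850004a000cd0004a400049000cc00048200049000cb00049300044000ca00016500048000c900048300047000c80004750003c000c700047200046000c60003b500046) (.leaf 0x0)) (.node (.leaf 0x1e5000b55000b3001e40009e3000b4001e3000b40000b3001e2000b330009d001e1000ac0000b2001e0000b23000b2001df000b22000ab001de0009b5000b1001dd000b11000ab001dc000b03000b0001db000aa4000b0001da000b02000af001d9000995000af001d8000af4000ae001d7000ae2000ad001d6000ae3000a0001d5000345000ad001d4000ad4000ac001d3000ac3000ac001d2000ac2000a9001d10006b5000ab001d0000ab0000a9001cf000a82000aa001ce000aa500098001cd0002a5000a9001cc000a94000a8001cb000a83000a6001ca000a30000a7001c9000a73000a7001c8000a720009e001c7000a42000a6001c6000a64000a1)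 (.leaf 0x0))))) (.node (.node (.node (.node (.leaf 0x4500017400017000440001720001400043000160000160004200016200016000410001640000800040000150000150003f000155000030003e0001430000f0003d000144000140003c000130000140003b000141000130003a0000e300013000390001340001200038000121000120003700012000012000360001230000900035000101000110003400011000010000330000d400011000320001120000f000310000c400010000300001020000e0002f0000440000f0002e0000e00000f0002d0000f10000e0002c0000e4000030002b0000830000d0002a0000c20000d000290000d10000a000280000d00000a000270000c30000c000260000c00000b) (.leaf 0x24500003600001002440002360000300243000175000550024200066600055002410005560004e00240000546000520023f0006c60004e0023e000726000520023d0000d60000a0023c0001260000d0023b0001860000f0023a0003560001d002390000c60000b002380002660000c0023700021600017002360002260000e002350006c500011002340001160000d0023300018600022002320002160000f002310002060001100230000236000030022f000276000150022e000666000550022d000546000520022c000736000540022b000726000520022a0005c600058002290001260000d002280002e60001e002270003560001d002260003160001c))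 (.node (.leaf 0x145000760000730014400075200075001430006d30007500142000751000470014100075000072001400006e3000740013f000741000730013e000740000470013d0005b5000730013c000724000730013b000732000730013a000733000660013900072200072001380006c300072001370007250005c0013600044000071001350007110006f001340006d2000700013300070100049001320007000006f001310006f30006f001300005540006f0012f0006f20006c0012e0006820006e0012d0006c10006e0012c0006e0000480012b0006c00006d0012a0006d100045001290006c400061001280006c500020001270006b20006a001260006600006b) (.leaf 0x0))) (.node (.node (.leaf 0xc500046400046000c400046300045000c300045200044000c200009500045000c100045400043000c000044400042000bf00044500040000be0003f500043000bd00041200041000bc00043300043000bb00043200042000ba00006500042000b900042300041000b80004150003d000b70003f400040000b600040200040000b50004010003e000b400030300040000b30004000003b000b20003f20003f000b10002f30003f000b00003f10003b000af0003f00003e000ae0003d40003e000ad0003e20003e000ac0003e30001e000ab0003d00003d000aa0003c10003d000a90003d300015000a80003c00003c000a70003c20003c000a60002730003c)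 (.leaf 0x0)) (.node (.leaf 0x1c50007a5000a5001c4000a510009e001c30008d5000a4001c2000a44000a3001c1000a33000a3001c0000a320009d001bf000a23000a2001be0009f4000a2001bd000a22000a1001bc000a1500081001bb0009d4000a0001ba000a020009f001b90009f500033001b80006d50009e001b70009e00009d001b60009d500036001b50009c00009b001b40009c10009c001b30008420009c001b20009b30009c001b10009c400092001b00008320009b001af0009b400091001ae0009940009a001ad0009230009a001ac0009a200098001ab00091300099001aa00096200099001a900099000093001a800096300098001a700098000097001a60009840002c) (.leaf 0x0)))) (.node (.node (.node (.leaf 0x850003000002e000840002f10002e000830002f00001e000820001250002e000810002e40002d000800002c10002d0007f0002d2000290007e0001b00002c0007d0002c20002a0007c0002a40002b0007b0002b10001a0007a0002b000029000790001a00002a000780002a100029000770002550002900076000294000280007500028300028000740002800002800073000191000280007200028200027000710002700002700070000235000270006f000271000150006e000260000260006d000122000260006c000264000250006b000250000200006a000251000200006900017300025000680002520002200067000240000240006600023200024)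 (.leaf 0x0)) (.node (.leaf 0x1850008c30008d001840008220008d001830008d40008c001820008120008c001810008c00008b001800008a30008b0017f0008b20007c0017e0008940008a0017d0008a20007e0017c000890000890017b000305000890017a00089300086001790008810008500178000880000860017700087200087001760008710008600175000870000850017400086200086001730004950008600172000864000850017100085200085001700008550004c0016f000831000830016e000830000840016d000804000840016c0008430007a0016b0007f4000830016a000833000790016900082300080001680007c1000820016700082400036001660008130007f) (.leaf 0x0))) (.node (.node (.leaf 0x1050003730005f001040005f00005c001030003630005e001020005a20005e001010005e10005c001000005e000058000ff0005d100059000fe0002b30005d000fd0005d00005b000fc0003530005c000fb0005c20005b000fa0005b40005b000f90005a10005b000f80005b300029000f70002a30005a000f60005a000059000f500054500059000f400059400059000f30001a300059000f200059200058000f100052500058000f000058400058000ef0005830001d000ee00053300057000ed00055100057000ec0005700004a000eb00055000056000ea00056100042000e900054300055000e800055500021000e700054200052000e600054100050)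 (.leaf 0x0)) (.node (.leaf 0x205000c52000c600204000c650009c00203000c43000c500202000c51000a700201000c24000c400200000c42000a5001ff000c32000c2001fe000c33000bd001fd0005a5000c2001fc000c21000c1001fb000c10000a4001fa000c12000c0001f9000c03000bf001f8000a80000bf001f7000bf1000bd001f6000aa1000be001f5000be0000b6001f4000bb4000bd001f3000bd2000b6001f2000bb0000bc001f1000bc1000a9001f0000ba2000bb001ef000bb500079001ee000ba3000b8001ed000ba1000b2001ec000925000b9001eb000b94000b8001ea000b12000b8001e9000b80000b7001e8000b71000ac001e70005e5000b6001e6000b63000b5) (.leaf 0x0))))))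

/-- the certificate -/
noncomputable def cert : Cert where
  n := 1
  v := 203
  g := 6
  inv := [0, 1, 2, 3, 4, 5]
  rels := [[1, 0, 1, 0, 1, 0, 1, 0], [1, 0, 3, 1, 0, 3], [1, 0, 2, 1, 0, 2], [1, 0, 4, 1, 0, 4], [0, 1, 0, 1, 0, 1, 0, 1], [0, 1, 3, 0, 1, 3], [0, 1, 2, 0, 1, 2], [0, 1, 4, 0, 1, 4], [1, 0, 1, 0, 3, 0, 1, 0, 1, 3], [1, 0, 1, 0, 2, 0, 1, 0, 1, 2], [1, 0, 1, 0, 4, 0, 1, 0, 1, 4], [3, 2, 3, 2, 3, 2], [3, 4, 3, 4, 3, 4], [1, 0, 3, 1, 0, 2, 3, 2, 3, 2], [1, 0, 3, 4, 3, 4, 3, 1, 0, 4], [0, 1, 3, 0, 1, 2, 3, 2, 3, 2], [0, 1, 3, 4, 3, 4, 3, 0, 1, 4], [2, 4, 2, 4, 2, 4, 2, 4], [1, 0, 1, 0, 3, 4, 3, 4, 3, 0, 1, 0, 1, 4], [1, 0, 1, 0, 2, 3, 2, 3, 2, 0, 1, 0, 1, 3], [1, 0, 2, 1, 0, 4, 2, 4, 2, 4, 2, 4], [0, 1, 2, 0, 1, 4, 2, 4, 2, 4, 2, 4], [3, 2, 3, 2, 4, 3, 4, 3, 4, 2], [1, 2, 4, 2, 4, 1, 2, 3, 0, 2, 4, 2, 4, 0, 2, 3, 2, 0, 2, 4, 2, 4, 0, 3], [1, 3, 0, 1, 2, 3, 0, 2, 4, 2, 4, 0, 3, 2, 0, 2, 4, 2, 4, 0, 3, 0, 2, 4, 2, 4], [0, 1, 2, 0, 1, 0, 2, 4, 2, 4, 0,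 3, 0, 2, 4, 2, 4, 0, 2, 3, 2, 0, 2, 4, 2, 4, 0, 3], [1, 0, 1, 0, 1, 0, 3, 4, 0, 2, 4, 2, 4, 0, 3, 4, 0, 2, 4, 2, 4, 0, 3, 4, 0, 2, 4, 2, 4, 0], [1, 0, 1, 0, 3, 0, 2, 4, 2, 4, 0, 4, 0, 2, 4, 2, 4, 0, 4, 2, 4, 2, 4, 3], [1, 0, 1, 0, 3, 4, 3, 0, 2, 4, 2, 4, 0, 2, 4, 2, 0, 2, 4, 2, 4, 0, 3, 4], [1, 0, 1, 0, 3, 4, 2, 4, 2, 4, 0, 2, 4, 2, 4, 0, 4, 0, 2, 4, 2, 4, 0, 3], [5, 3, 5, 3, 5, 3], [5, 2, 4, 5, 2, 4], [5, 4, 2, 5, 4, 2], [1, 0, 5, 1, 0, 5, 0, 1, 5, 0, 1, 5], [1, 0, 5, 3, 5, 3, 5, 1, 0, 3], [1, 0, 5, 2, 5, 0, 1, 5, 4, 5], [1, 0, 5, 2, 4, 5, 0, 1, 2, 4], [1, 0, 5, 4, 2, 5, 0, 1, 4, 2], [1, 0, 5, 4, 2, 5, 4, 1, 0, 2], [1, 0, 2, 1, 0, 4, 5, 2, 4, 5], [5, 3, 2, 5, 2, 3, 5, 2, 5, 2, 3, 2, 5, 2, 3], [5, 3, 2, 5, 4, 5, 3, 2, 5, 4, 5, 3, 4, 5, 2], [5, 3, 2, 5, 4, 5, 3, 4, 5, 2, 5, 3, 4, 5, 2], [5, 3, 2, 0, 1, 4, 2, 4, 3, 5, 2, 3, 4, 2, 3, 4], [5, 3, 2, 4, 0, 1, 2, 4, 3, 5, 4, 3, 2, 4, 3, 2], [5, 3, 4, 2, 0, 1, 4, 2, 3, 5, 4, 3, 2, 4, 3, 2], [5, 3, 4, 2, 3, 5, 2, 3,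 2, 4, 2, 4, 3, 2, 0, 1], [5, 3, 4, 2, 3, 5, 2, 3, 4, 2, 4, 2, 0, 1, 3, 2], [5, 3, 4, 2, 3, 5, 2, 3, 4, 2, 4, 2, 3, 2, 0, 1], [5, 3, 4, 2, 3, 5, 4, 3, 2, 4, 2, 3, 4, 3, 0, 1], [5, 3, 4, 2, 3, 5, 4, 3, 2, 4, 2, 4, 0, 1, 3, 4], [5, 3, 4, 2, 3, 0, 1, 0, 1, 5, 2, 3, 0, 1, 3, 4, 2, 4], [5, 3, 4, 2, 3, 2, 5, 2, 5, 2, 0, 1, 0, 1, 5, 2, 0, 1], [5, 0, 1, 0, 1, 5, 3, 2, 4, 2, 4, 3], [3, 4, 2, 5, 3, 2, 0, 2, 4, 2, 4, 0, 2, 3, 5, 2, 4, 3, 4], [5, 2, 4, 3, 0, 1, 0, 1, 3, 4, 2, 5, 3, 2, 4, 2, 4, 3], [5, 3, 2, 0, 2, 4, 2, 4, 0, 2, 3, 5, 2, 3, 2], [0, 1, 0, 1, 4, 0, 1, 0, 1, 4], [0, 1, 0, 1, 3, 0, 1, 0, 1, 3], [3, 2, 3, 2, 3, 4, 2, 4, 2, 4, 2, 4], [3, 2, 3, 4, 3, 2, 4, 3, 4, 2, 3, 4], [3, 2, 3, 4, 2, 3, 2, 4, 2, 3, 2, 4], [0, 2, 3, 0, 3, 2], [0, 2, 0, 2], [0, 4, 0, 4, 0, 4, 1, 0], [0, 3, 0, 3], [5, 0, 5, 2, 4, 3, 0, 4, 0, 2, 3, 0, 4, 0, 3, 4, 2, 5, 0, 5, 2, 0, 4, 2, 3, 4]]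
  subs := [[0], [1], [2], [3], [4]]
  tab := tab
  par := par
  fact := fact
  nfact := 607

/-- justifications -/
noncomputable def just0 : List Cert.Just :=
  [.define,
   .define,
   .loop (some (31, 2)) [.bwd 0, .edge 2, .edge 4, .fwd 0, .fwd 1],
   .loop (some (56, 13)) [.bwd 1, .bwd 0, .edge 3, .edge 2, .edge 0, .edge 2, .edge 4, .edge 2, .edge 4, .edge 0, .edge 2, .edge 3, .fwd 0, .fwd 1],
   .define,
   .loop (some (46, 15)) [.bwd 0, .edge 3, .edge 4, .edge 2, .edge 3, .fwd 0, .fwd 1, .fwd 3, .bwd 1, .bwd 2, .bwd 1, .bwd 2, .fwd 3, .bwd 1, .fwd 4],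
   .define,
   .loop (some (2, 1)) [.bwd 1, .bwd 5, .bwd 4, .fwd 1, .fwd 6],
   .loop (some (63, 3)) [.fwd 7, .bwd 1, .fwd 4],
   .define,
   .loop (some (11, 1)) [.bwd 9, .fwd 1, .fwd 3, .bwd 1, .fwd 9],
   .loop (some (12, 1)) [.bwd 9, .bwd 2, .fwd 3, .fwd 2, .fwd 9],
   .loop (some (30, 2)) [.bwd 9, .bwd 0, .edge 3, .fwd 0, .fwd 9],
   .define,
   .loop (some (1, 1)) [.bwd 9, .bwd 5, .bwd 4, .fwd 9, .fwd 13],
   .loop (some (62, 2)) [.fwd 14, .bwd 9, .fwd 1, .bwd 7, .bwd 8],
   .loop (some (63, 3)) [.fwd 14, .fwd 10, .bwd 14],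
   .define,
   .loop (some (40, 7)) [.bwd 17, .bwd 1, .fwd 9, .fwd 10, .fwd 12, .fwd 10, .bwd 9, .bwd 0, .edge 3, .edge 2, .fwd 0, .fwd 1, .fwd 3, .fwd 17],
   .loop (some (41, 4)) [.bwd 17, .fwd 3, .bwd 1, .bwd 0, .edge 4, .fwd 0, .fwd 9, .fwd 11, .fwd 12, .fwd 10, .fwd 12, .bwd 9, .fwd 1, .fwd 17],
   .define,
   .loop (some (35, 0)) [.bwd 20, .bwd 17, .bwd 1, .bwd 0, .edge 0, .edge 1, .fwd 0, .bwd 2, .fwd 17],
   .loop (some (63, 1)) [.bwd 20, .fwd 18, .fwd 20],
   .define,
   .loop (some (54, 9)) [.bwd 23, .fwd 14, .fwd 10, .bwd 9, .bwd 0, .edge 2, .edge 4, .edge 3, .edge 4, .edge 3, .edge 4, .edge 2, .fwd 0, .fwd 9, .fwd 10, .bwd 14, .fwd 16, .fwd 23],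
   .loop (some (64, 2)) [.bwd 23, .fwd 14, .fwd 11, .fwd 13, .fwd 14, .bwd 14, .fwd 23],
   .loop (some (64, 6)) [.fwd 25, .fwd 25, .bwd 23, .fwd 14, .fwd 11, .bwd 14, .fwd 23],
   .define,
   .loop (some (30, 2)) [.bwd 27, .bwd 17, .fwd 3, .fwd 17, .fwd 27],
   .define,
   .loop (some (12, 2)) [.bwd 29, .bwd 27, .fwd 19, .fwd 27, .fwd 29],
   .loop (some (43, 13)) [.bwd 27, .fwd 19, .bwd 17, .fwd 3, .bwd 1, .fwd 4, .fwd 5, .bwd 2, .bwd 1, .bwd 2, .fwd 3, .fwd 17, .fwd 18, .fwd 27, .fwd 29],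
   .define,
   .loop (some (65, 1)) [.bwd 32, .fwd 30, .fwd 32],
   .define,
   .loop (some (1, 0)) [.bwd 34, .bwd 27, .fwd 21, .bwd 20, .fwd 27],
   .loop (some (62, 1)) [.fwd 33, .bwd 32, .fwd 30, .fwd 31, .fwd 34],
   .loop (some (62, 4)) [.fwd 22, .bwd 20, .fwd 18, .fwd 27, .fwd 34],
   .define,
   .define,
   .loop (some (3, 1)) [.bwd 38, .fwd 5, .fwd 4, .fwd 38, .fwd 39],
   .loop (some (64, 1)) [.fwd 7, .fwd 2, .fwd 4, .fwd 38, .fwd 39, .fwd 40, .bwd 40],
   .define,
   .loop (some (54, 10)) [.bwd 32, .fwd 31, .bwd 27, .bwd 17, .bwd 1, .bwd 2, .fwd 3, .fwd 2, .fwd 9, .fwd 11, .fwd 10, .fwd 12, .bwd 9, .fwd 1, .bwd 7, .bwd 8, .fwd 38, .fwd 42],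
   .define,
   .loop (some (17, 1)) [.fwd 36, .bwd 43, .bwd 42, .bwd 38, .fwd 8, .bwd 41, .fwd 44],
   .loop (some (27, 17)) [.fwd 45, .fwd 36, .bwd 43, .bwd 42, .bwd 38, .fwd 15, .bwd 13, .bwd 14, .bwd 13, .bwd 14, .bwd 15, .bwd 4, .fwd 1, .fwd 2, .fwd 1, .fwd 2, .fwd 4, .fwd 38, .bwd 40, .fwd 44, .fwd 45, .fwd 36, .bwd 43],
   .loop (some (3, 0)) [.fwd 46, .fwd 45, .bwd 35, .fwd 34, .bwd 45],
   .define,
   .loop (some (62, 3)) [.bwd 48, .fwd 24, .fwd 25, .fwd 24, .fwd 48],
   .loop (some (1, 0)) [.fwd 49, .bwd 48, .fwd 26, .fwd 25, .fwd 48],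
   .define,
   .loop (some (12, 2)) [.bwd 38, .fwd 15, .fwd 23, .fwd 48, .fwd 51],
   .define,
   .loop (some (1, 1)) [.fwd 52, .fwd 39, .fwd 40, .bwd 52, .fwd 53],
   .loop (some (64, 1)) [.fwd 54, .bwd 51, .fwd 49, .fwd 51, .fwd 53, .fwd 54, .bwd 54],
   .loop (some (62, 2)) [.fwd 54, .fwd 52, .fwd 42, .fwd 46, .bwd 44],
   .define,
   .loop (some (66, 18)) [.bwd 57, .fwd 8, .fwd 7, .fwd 2, .fwd 1, .fwd 3, .fwd 2, .bwd 0, .edge 0, .fwd 0, .fwd 1, .fwd 2, .fwd 9, .bwd 14, .fwd 23, .fwd 25, .fwd 24, .fwd 48, .fwd 49, .fwd 51, .bwd 54, .bwd 56, .fwd 41, .bwd 8, .fwd 57],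
   .define,
   .loop (some (23, 3)) [.bwd 59, .bwd 21, .fwd 18, .fwd 27, .fwd 34, .fwd 36, .bwd 43, .bwd 42, .bwd 38, .bwd 4, .fwd 1, .fwd 3, .bwd 1, .fwd 4, .fwd 8, .bwd 41, .fwd 44, .fwd 45, .bwd 34, .bwd 27, .fwd 21, .fwd 22, .fwd 59],
   .loop (some (64, 2)) [.bwd 59, .bwd 20, .fwd 19, .fwd 21, .bwd 20, .fwd 20, .fwd 59],
   .define,
   .loop (some (26, 10)) [.bwd 62, .fwd 55, .fwd 54, .fwd 52, .bwd 38, .bwd 4, .fwd 1, .fwd 2, .fwd 1, .fwd 2, .fwd 4, .fwd 15, .fwd 23, .fwd 25, .fwd 24, .bwd 23, .fwd 16, .fwd 23, .fwd 25, .fwd 26, .fwd 25, .fwd 26, .fwd 25, .fwd 26, .fwd 25, .fwd 48, .fwd 51, .bwd 54, .fwd 62],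
   .define,
   .loop (some (2, 0)) [.bwd 64, .bwd 62, .bwd 53, .bwd 54, .fwd 62],
   .loop (some (62, 1)) [.fwd 52, .bwd 40, .fwd 56, .fwd 62, .fwd 64],
   .define,
   .loop (some (56, 13)) [.bwd 67, .bwd 57, .fwd 15, .fwd 16, .fwd 14, .fwd 10, .fwd 11, .fwd 10, .fwd 11, .bwd 14, .fwd 16, .bwd 15, .fwd 57, .fwd 67],
   .loop (some (62, 3)) [.fwd 68, .bwd 67, .fwd 58, .fwd 67, .fwd 68],
   .define,
   .loop (some (31, 3)) [.bwd 42, .bwd 38, .fwd 57, .fwd 67, .fwd 70],
   .define,
   .define,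
   .loop (some (43, 15)) [.bwd 57, .fwd 15, .fwd 16, .fwd 14, .fwd 13, .fwd 23, .fwd 24, .bwd 23, .bwd 15, .fwd 57, .fwd 67, .fwd 68, .fwd 70, .fwd 72, .fwd 73],
   .define,
   .loop (some (31, 1)) [.fwd 74, .bwd 57, .fwd 8, .bwd 41, .fwd 75],
   .define,
   .loop (some (31, 3)) [.fwd 36, .bwd 43, .bwd 71, .fwd 72, .fwd 77],
   .define,
   .loop (some (17, 1)) [.fwd 76, .fwd 74, .fwd 67, .fwd 70, .fwd 72, .fwd 77, .fwd 79],
   .loop (some (43, 11)) [.fwd 80, .fwd 76, .bwd 73, .fwd 77, .fwd 78, .fwd 37, .fwd 22, .bwd 20, .fwd 21, .fwd 59, .fwd 60, .bwd 59, .bwd 37, .bwd 78, .fwd 79],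
   .define,
   .loop (some (60, 11)) [.bwd 82, .fwd 66, .fwd 52, .bwd 38, .fwd 15, .fwd 16, .fwd 23, .fwd 48, .fwd 51, .bwd 66, .fwd 82],
   .define,
   .loop (some (11, 2)) [.bwd 42, .bwd 52, .bwd 66, .fwd 82, .fwd 84],
   .loop (some (22, 4)) [.fwd 85, .fwd 43, .fwd 33, .bwd 43, .bwd 42, .bwd 52, .bwd 66, .fwd 82, .fwd 84],
   .define,
   .loop (some (1, 1)) [.fwd 85, .bwd 47, .bwd 46, .bwd 85, .fwd 87],
   .loop (some (62, 2)) [.fwd 88, .fwd 85, .bwd 42, .bwd 40, .fwd 44],
   .define,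
   .loop (some (12, 1)) [.bwd 89, .fwd 45, .fwd 37, .fwd 59, .fwd 90],
   .loop (some (62, 3)) [.bwd 90, .fwd 60, .fwd 61, .fwd 60, .fwd 90],
   .loop (some (3, 0)) [.fwd 92, .fwd 91, .bwd 87, .bwd 88, .bwd 91],
   .define,
   .loop (some (12, 2)) [.bwd 94, .fwd 82, .fwd 83, .bwd 82, .fwd 94],
   .loop (some (23, 3)) [.fwd 91, .bwd 87, .bwd 84, .bwd 82, .bwd 64, .bwd 62, .fwd 55, .fwd 62, .fwd 63, .fwd 64, .fwd 66, .fwd 52, .fwd 42, .fwd 46, .bwd 44, .fwd 41, .bwd 8, .fwd 38, .bwd 40, .fwd 56, .bwd 53, .bwd 66, .fwd 94],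
   .loop (some (64, 2)) [.bwd 94, .bwd 64, .fwd 63, .fwd 65, .bwd 64, .fwd 64, .fwd 94],
   .define,
   .loop (some (11, 2)) [.bwd 62, .bwd 56, .fwd 44, .fwd 89, .fwd 98],
   .loop (some (23, 0)) [.bwd 98, .bwd 91, .bwd 96, .bwd 94, .bwd 65, .bwd 62, .bwd 56, .fwd 40, .fwd 42, .fwd 43, .bwd 36, .bwd 45, .bwd 46, .bwd 42, .bwd 52, .bwd 66, .bwd 64, .bwd 62, .fwd 55, .fwd 62, .fwd 63, .fwd 64, .fwd 82],
   .loop (some (23, 17)) [.bwd 98, .bwd 91, .bwd 96, .bwd 94, .bwd 64, .bwd 99, .bwd 100, .fwd 84, .fwd 86, .bwd 84, .fwd 83, .fwd 100, .bwd 98, .bwd 89, .bwd 46, .bwd 42, .bwd 38, .fwd 8, .bwd 41, .fwd 40, .fwd 42, .bwd 85, .bwd 84],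
   .define,
   .loop (some (17, 2)) [.fwd 51, .bwd 66, .fwd 94, .fwd 96, .fwd 91, .fwd 98, .fwd 102],
   .loop (some (23, 13)) [.fwd 103, .bwd 48, .fwd 24, .fwd 25, .fwd 24, .bwd 23, .fwd 16, .fwd 23, .fwd 25, .fwd 48, .fwd 50, .bwd 103, .bwd 102, .bwd 98, .bwd 91, .fwd 93, .bwd 96, .fwd 95, .fwd 97, .fwd 96, .fwd 91, .fwd 98, .fwd 102],
   .define,
   .loop (some (46, 0)) [.bwd 90, .bwd 59, .fwd 22, .bwd 37, .bwd 78, .fwd 79, .fwd 81, .bwd 79, .bwd 77, .bwd 72, .bwd 70, .fwd 68, .bwd 67, .fwd 58, .fwd 105],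
   .loop (some (53, 3)) [.bwd 105, .bwd 57, .fwd 15, .fwd 16, .fwd 23, .fwd 24, .bwd 23, .bwd 15, .fwd 57, .fwd 58, .fwd 105],
   .define,
   .loop (some (2, 3)) [.fwd 69, .bwd 67, .fwd 105, .fwd 107, .fwd 108],
   .loop (some (2, 1)) [.bwd 108, .bwd 105, .fwd 58, .fwd 67, .bwd 109],
   .loop (some (47, 14)) [.bwd 108, .fwd 106, .bwd 90, .bwd 59, .fwd 22, .bwd 37, .bwd 78, .fwd 79, .fwd 81, .fwd 80, .fwd 76, .fwd 74, .fwd 67, .fwd 69, .bwd 109],
   .define,
   .loop (some (31, 3)) [.bwd 98, .bwd 91, .bwd 106, .fwd 108, .fwd 112],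
   .define,
   .loop (some (3, 1)) [.bwd 70, .bwd 109, .fwd 110, .fwd 112, .fwd 114],
   .define,
   .loop (some (3, 0)) [.bwd 116, .bwd 112, .fwd 109, .fwd 69, .fwd 70],
   .loop (some (64, 1)) [.fwd 115, .bwd 70, .fwd 69, .fwd 70, .fwd 117, .bwd 116, .fwd 116],
   .define,
   .loop (some (63, 2)) [.bwd 72, .bwd 115, .fwd 119],
   .define,
   .loop (some (2, 3)) [.fwd 120, .bwd 72, .fwd 117, .bwd 116, .fwd 121],
   .define,
   .loop (some (31, 3)) [.bwd 103, .bwd 102, .bwd 113, .fwd 121, .fwd 123],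
   .define,
   .loop (some (36, 0)) [.bwd 125, .fwd 78, .fwd 36, .bwd 43, .bwd 71, .bwd 115, .bwd 114, .fwd 121, .fwd 123],
   .define,
   .loop (some (3, 0)) [.bwd 127, .bwd 123, .fwd 122, .fwd 120, .fwd 77],
   .define,
   .loop (some (43, 11)) [.bwd 129, .fwd 108, .fwd 111, .fwd 112, .fwd 113, .fwd 99, .bwd 62, .fwd 54, .fwd 53, .fwd 55, .fwd 62, .fwd 63, .bwd 99, .bwd 113, .fwd 121],
   .define,
   .loop (some (3, 0)) [.bwd 131, .fwd 74, .fwd 105, .fwd 107, .fwd 129],
   .loop (some (62, 4)) [.bwd 119, .fwd 115, .fwd 72, .fwd 73, .fwd 131],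
   .define,
   .loop (some (1, 0)) [.bwd 134, .bwd 130, .fwd 122, .fwd 120, .fwd 73],
   .loop (some (64, 1)) [.bwd 131, .fwd 74, .fwd 58, .bwd 74, .fwd 135, .bwd 134, .fwd 134],
   .define,
   .loop (some (1, 1)) [.fwd 130, .fwd 132, .bwd 131, .bwd 73, .fwd 137],
   .loop (some (1, 5)) [.bwd 137, .bwd 120, .bwd 133, .bwd 132, .fwd 134],
   .loop (some (2, 5)) [.bwd 137, .bwd 120, .bwd 119, .bwd 114, .fwd 116],
   .define,
   .loop (some (31, 1)) [.bwd 129, .fwd 106, .bwd 96, .bwd 94, .fwd 141],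
   .define,
   .loop (some (2, 0)) [.bwd 143, .fwd 76, .fwd 135, .bwd 134, .bwd 142],
   .loop (some (62, 1)) [.fwd 133, .fwd 120, .fwd 73, .bwd 76, .fwd 143],
   .define,
   .loop (some (2, 1)) [.fwd 142, .fwd 132, .bwd 131, .bwd 76, .fwd 146],
   .loop (some (2, 5)) [.bwd 146, .fwd 143, .fwd 145, .bwd 132, .fwd 134],
   .define]

/-- justifications -/
noncomputable def just1 : List Cert.Just :=
  [.loop (some (17, 2)) [.bwd 123, .bwd 121, .bwd 112, .bwd 108, .fwd 129, .bwd 142, .fwd 149],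
   .loop (some (43, 11)) [.bwd 149, .fwd 142, .bwd 130, .fwd 123, .fwd 124, .bwd 48, .fwd 24, .fwd 25, .fwd 26, .bwd 23, .fwd 16, .fwd 23, .fwd 48, .bwd 124, .bwd 150],
   .define,
   .loop (some (2, 0)) [.bwd 152, .bwd 79, .fwd 128, .bwd 127, .bwd 150],
   .loop (some (63, 1)) [.bwd 125, .fwd 79, .fwd 152],
   .define,
   .loop (some (2, 2)) [.bwd 128, .fwd 125, .bwd 154, .bwd 153, .fwd 155],
   .define,
   .loop (some (11, 1)) [.bwd 157, .bwd 150, .fwd 151, .fwd 150, .fwd 157],
   .define,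
   .loop (some (12, 2)) [.fwd 129, .bwd 130, .fwd 123, .fwd 157, .fwd 159],
   .loop (some (22, 3)) [.bwd 159, .bwd 157, .bwd 123, .fwd 130, .bwd 129, .fwd 108, .fwd 111, .bwd 108, .bwd 160],
   .loop (some (62, 0)) [.fwd 161, .fwd 160, .fwd 107, .bwd 160, .fwd 161],
   .define,
   .loop (some (1, 3)) [.fwd 162, .fwd 160, .bwd 105, .fwd 58, .fwd 163],
   .loop (some (1, 1)) [.bwd 163, .fwd 105, .fwd 107, .bwd 160, .bwd 164],
   .define,
   .loop (some (11, 1)) [.bwd 166, .fwd 79, .fwd 81, .bwd 79, .fwd 166],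
   .loop (some (12, 1)) [.bwd 163, .bwd 74, .bwd 73, .fwd 77, .fwd 166],
   .define,
   .loop (some (1, 0)) [.bwd 169, .bwd 166, .fwd 128, .bwd 127, .fwd 157],
   .loop (some (62, 4)) [.bwd 154, .bwd 152, .bwd 79, .fwd 166, .fwd 169],
   .loop (some (63, 1)) [.bwd 169, .fwd 167, .fwd 169],
   .define,
   .loop (some (1, 2)) [.bwd 128, .fwd 125, .bwd 171, .bwd 170, .fwd 173],
   .loop (some (1, 0)) [.bwd 173, .bwd 157, .fwd 126, .bwd 125, .fwd 166],
   .loop (some (2, 2)) [.bwd 175, .fwd 169, .fwd 172, .bwd 170, .fwd 173],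
   .loop (some (64, 1)) [.bwd 169, .fwd 168, .fwd 165, .bwd 168, .fwd 175, .bwd 173, .fwd 173],
   .define,
   .define,
   .loop (some (30, 2)) [.bwd 15, .fwd 57, .fwd 163, .fwd 178, .fwd 179],
   .define,
   .loop (some (56, 13)) [.bwd 181, .fwd 180, .bwd 15, .fwd 8, .fwd 7, .bwd 1, .bwd 2, .bwd 1, .bwd 2, .bwd 7, .bwd 8, .fwd 15, .bwd 180, .fwd 181],
   .loop (some (11, 3)) [.fwd 179, .fwd 181, .fwd 182, .bwd 181, .bwd 179],
   .loop (some (56, 0)) [.fwd 171, .bwd 154, .bwd 152, .bwd 79, .bwd 77, .bwd 72, .bwd 70, .fwd 69, .bwd 67, .fwd 163, .fwd 178, .fwd 183, .fwd 179, .fwd 181],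
   .define,
   .loop (some (31, 5)) [.bwd 185, .fwd 176, .fwd 177, .bwd 184, .bwd 181],
   .define,
   .loop (some (31, 3)) [.fwd 24, .bwd 23, .bwd 180, .fwd 181, .fwd 187],
   .loop (some (31, 1)) [.bwd 187, .fwd 184, .fwd 172, .bwd 177, .fwd 185],
   .define,
   .loop (some (12, 1)) [.bwd 190, .bwd 187, .fwd 182, .fwd 187, .fwd 190],
   .loop (some (30, 2)) [.bwd 157, .fwd 124, .bwd 48, .bwd 188, .fwd 190],
   .define,
   .loop (some (31, 0)) [.bwd 193, .fwd 191, .fwd 192, .fwd 158, .fwd 159],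
   .define,
   .loop (some (30, 2)) [.fwd 90, .bwd 106, .bwd 160, .fwd 194, .fwd 195],
   .define,
   .loop (some (11, 1)) [.bwd 195, .bwd 193, .bwd 190, .bwd 189, .fwd 197],
   .define,
   .loop (some (31, 3)) [.fwd 22, .fwd 59, .bwd 196, .bwd 198, .fwd 199],
   .define,
   .loop (some (12, 1)) [.fwd 179, .fwd 186, .fwd 197, .fwd 199, .fwd 201],
   .loop (some (30, 2)) [.bwd 166, .fwd 78, .fwd 37, .bwd 200, .fwd 201],
   .loop (some (41, 2)) [.fwd 203, .fwd 168, .fwd 178, .fwd 179, .fwd 181, .fwd 184, .bwd 177, .fwd 185, .fwd 197, .fwd 199, .fwd 200, .fwd 22, .bwd 200, .fwd 201],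
   .define,
   .loop (some (11, 2)) [.bwd 205, .fwd 201, .fwd 204, .bwd 201, .fwd 205],
   .loop (some (31, 2)) [.fwd 196, .fwd 60, .bwd 59, .bwd 200, .fwd 205],
   .define,
   .define,
   .loop (some (46, 0)) [.bwd 56, .fwd 41, .bwd 8, .fwd 15, .bwd 180, .fwd 181, .fwd 182, .bwd 181, .fwd 186, .fwd 189, .bwd 187, .fwd 182, .bwd 181, .fwd 208, .fwd 209],
   .define,
   .loop (some (51, 8)) [.fwd 200, .fwd 22, .bwd 37, .bwd 34, .fwd 35, .fwd 37, .fwd 59, .fwd 60, .bwd 59, .bwd 200, .fwd 201, .fwd 202, .fwd 183, .fwd 179, .fwd 208, .fwd 209, .fwd 211],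
   .define,
   .loop (some (65, 2)) [.fwd 179, .fwd 208, .fwd 213],
   .loop (some (62, 5)) [.fwd 214, .fwd 183, .fwd 179, .fwd 208, .fwd 213],
   .define,
   .loop (some (1, 3)) [.bwd 214, .bwd 213, .fwd 209, .fwd 211, .fwd 216],
   .define,
   .loop (some (1, 2)) [.bwd 209, .bwd 208, .bwd 179, .bwd 217, .fwd 218],
   .define,
   .loop (some (1, 1)) [.bwd 201, .bwd 212, .bwd 211, .bwd 219, .fwd 220],
   .loop (some (3, 5)) [.fwd 220, .fwd 221, .fwd 202, .bwd 217, .fwd 218],
   .loop (some (9, 9)) [.bwd 220, .bwd 218, .fwd 217, .bwd 214, .fwd 215, .fwd 214, .bwd 217, .fwd 218, .fwd 220],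
   .define,
   .loop (some (2, 5)) [.bwd 224, .fwd 214, .fwd 183, .bwd 217, .fwd 218],
   .define,
   .loop (some (43, 1)) [.bwd 225, .bwd 218, .fwd 217, .bwd 202, .fwd 204, .fwd 202, .fwd 179, .fwd 180, .fwd 16, .bwd 15, .fwd 38, .fwd 42, .bwd 85, .fwd 86, .fwd 226],
   .define,
   .loop (some (1, 1)) [.fwd 227, .bwd 224, .fwd 214, .fwd 179, .fwd 228],
   .define,
   .loop (some (0, 2)) [.bwd 229, .bwd 228, .fwd 208, .fwd 209, .fwd 211, .fwd 212, .fwd 230],
   .loop (some (1, 2)) [.bwd 220, .bwd 218, .bwd 216, .fwd 212, .fwd 230],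
   .define,
   .loop (some (12, 1)) [.bwd 233, .bwd 80, .fwd 81, .fwd 80, .fwd 233],
   .loop (some (30, 2)) [.fwd 219, .fwd 210, .bwd 56, .fwd 75, .fwd 233],
   .define,
   .loop (some (11, 2)) [.fwd 72, .fwd 73, .bwd 76, .fwd 233, .fwd 236],
   .loop (some (22, 4)) [.fwd 237, .bwd 70, .fwd 68, .fwd 70, .fwd 72, .fwd 73, .bwd 76, .fwd 233, .fwd 236],
   .loop (some (31, 3)) [.bwd 225, .fwd 222, .bwd 235, .fwd 236, .fwd 238],
   .define,
   .loop (some (62, 4)) [.fwd 119, .fwd 120, .bwd 72, .bwd 237, .fwd 240],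
   .define,
   .loop (some (1, 3)) [.bwd 240, .fwd 237, .fwd 117, .bwd 116, .fwd 242],
   .loop (some (12, 1)) [.bwd 242, .bwd 112, .fwd 111, .fwd 112, .fwd 242],
   .define,
   .loop (some (11, 2)) [.fwd 142, .bwd 130, .bwd 121, .fwd 242, .fwd 245],
   .define,
   .loop (some (1, 2)) [.bwd 117, .bwd 115, .bwd 241, .bwd 243, .fwd 247],
   .loop (some (1, 0)) [.bwd 247, .bwd 242, .fwd 114, .fwd 115, .bwd 237],
   .define,
   .loop (some (1, 0)) [.bwd 250, .bwd 233, .fwd 146, .fwd 147, .bwd 246],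
   .loop (some (62, 1)) [.fwd 241, .fwd 115, .bwd 237, .bwd 236, .fwd 250],
   .loop (some (62, 4)) [.fwd 145, .bwd 131, .bwd 76, .fwd 233, .fwd 250],
   .define,
   .loop (some (1, 2)) [.bwd 146, .fwd 143, .bwd 253, .bwd 251, .fwd 254],
   .loop (some (1, 0)) [.bwd 254, .fwd 246, .fwd 144, .bwd 143, .fwd 233],
   .loop (some (2, 2)) [.bwd 249, .fwd 240, .bwd 252, .bwd 251, .fwd 254],
   .define,
   .loop (some (11, 2)) [.bwd 258, .fwd 213, .fwd 215, .bwd 213, .fwd 258],
   .loop (some (62, 3)) [.fwd 182, .bwd 181, .fwd 208, .fwd 258, .fwd 259],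
   .define,
   .loop (some (2, 3)) [.fwd 260, .bwd 181, .fwd 228, .fwd 229, .fwd 261],
   .define,
   .loop (some (11, 1)) [.bwd 219, .fwd 225, .bwd 227, .fwd 261, .fwd 263],
   .define,
   .loop (some (1, 0)) [.bwd 265, .bwd 263, .fwd 262, .fwd 260, .fwd 182],
   .loop (some (62, 1)) [.fwd 216, .fwd 218, .fwd 219, .bwd 264, .fwd 265],
   .define,
   .loop (some (2, 1)) [.bwd 261, .bwd 231, .bwd 230, .fwd 205, .fwd 268],
   .loop (some (1, 2)) [.bwd 266, .bwd 260, .fwd 259, .bwd 262, .bwd 269],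
   .define,
   .loop (some (0, 1)) [.fwd 268, .fwd 269, .fwd 262, .fwd 260, .fwd 266, .bwd 265, .fwd 271],
   .loop (some (1, 5)) [.bwd 271, .fwd 265, .bwd 270, .bwd 268, .bwd 272],
   .loop (some (2, 5)) [.bwd 271, .fwd 265, .fwd 267, .fwd 212, .fwd 230],
   .define,
   .loop (some (31, 3)) [.bwd 62, .fwd 55, .bwd 210, .bwd 264, .fwd 275],
   .define,
   .loop (some (12, 2)) [.bwd 277, .bwd 219, .fwd 222, .fwd 219, .fwd 277],
   .loop (some (23, 3)) [.bwd 275, .fwd 271, .bwd 274, .fwd 232, .fwd 221, .fwd 204, .fwd 202, .fwd 183, .bwd 202, .bwd 221, .fwd 223, .bwd 232, .fwd 274, .fwd 272, .bwd 205, .bwd 199, .fwd 198, .bwd 207, .bwd 272, .fwd 273, .bwd 271, .fwd 264, .fwd 277],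
   .define,
   .loop (some (3, 0)) [.bwd 280, .fwd 199, .bwd 212, .bwd 211, .fwd 277],
   .define,
   .loop (some (3, 0)) [.bwd 282, .bwd 187, .fwd 266, .bwd 265, .fwd 275],
   .define,
   .loop (some (1, 1)) [.fwd 278, .fwd 281, .bwd 280, .bwd 197, .fwd 284],
   .loop (some (65, 3)) [.fwd 285, .fwd 278, .bwd 285],
   .define,
   .loop (some (2, 1)) [.bwd 279, .fwd 281, .bwd 280, .fwd 198, .fwd 287],
   .loop (some (62, 5)) [.fwd 288, .bwd 279, .fwd 278, .bwd 285, .fwd 286],
   .define,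
   .loop (some (31, 5)) [.bwd 290, .fwd 84, .fwd 86, .fwd 226, .fwd 261],
   .define,
   .loop (some (3, 1)) [.bwd 291, .fwd 262, .fwd 260, .fwd 187, .fwd 292],
   .define,
   .loop (some (0, 2)) [.bwd 293, .bwd 292, .fwd 282, .bwd 283, .bwd 288, .bwd 287, .fwd 294],
   .loop (some (2, 2)) [.bwd 281, .bwd 285, .fwd 289, .bwd 287, .fwd 294],
   .define,
   .loop (some (23, 4)) [.bwd 231, .fwd 274, .fwd 273, .fwd 272, .bwd 205, .bwd 199, .fwd 198, .bwd 207, .bwd 272, .bwd 274, .fwd 232, .fwd 223, .fwd 221, .fwd 204, .fwd 202, .fwd 183, .bwd 202, .bwd 221, .bwd 232, .fwd 231, .fwd 261, .fwd 291, .fwd 297],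
   .loop (some (40, 10)) [.bwd 297, .bwd 290, .fwd 84, .fwd 85, .bwd 71, .bwd 237, .bwd 236, .fwd 235, .fwd 225, .bwd 227, .bwd 226, .bwd 84, .fwd 290, .fwd 297]]

/-- justifications -/
noncomputable def just2 : List Cert.Just :=
  [.define,
   .loop (some (2, 0)) [.bwd 300, .bwd 297, .bwd 295, .bwd 294, .bwd 198],
   .loop (some (63, 1)) [.fwd 293, .fwd 297, .fwd 300],
   .define,
   .loop (some (0, 1)) [.fwd 284, .fwd 285, .fwd 281, .bwd 280, .fwd 301, .bwd 300, .fwd 303],
   .define,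
   .loop (some (30, 1)) [.bwd 290, .bwd 82, .fwd 141, .bwd 246, .fwd 305],
   .loop (some (35, 3)) [.bwd 305, .fwd 254, .bwd 256, .fwd 235, .fwd 222, .bwd 235, .fwd 256, .bwd 254, .fwd 305],
   .define,
   .loop (some (11, 1)) [.bwd 308, .bwd 279, .fwd 278, .fwd 279, .fwd 308],
   .loop (some (12, 1)) [.fwd 306, .bwd 291, .fwd 263, .fwd 275, .fwd 308],
   .loop (some (30, 2)) [.bwd 242, .fwd 113, .fwd 99, .bwd 276, .fwd 308],
   .define,
   .loop (some (1, 0)) [.bwd 312, .fwd 195, .fwd 287, .fwd 288, .fwd 308],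
   .loop (some (62, 4)) [.fwd 296, .bwd 280, .fwd 198, .bwd 195, .fwd 312],
   .define,
   .loop (some (1, 0)) [.bwd 315, .fwd 306, .bwd 295, .bwd 294, .bwd 195],
   .loop (some (62, 4)) [.bwd 302, .bwd 300, .bwd 297, .bwd 306, .fwd 315],
   .loop (some (63, 1)) [.bwd 315, .fwd 307, .fwd 315],
   .define,
   .loop (some (1, 2)) [.bwd 287, .fwd 294, .bwd 314, .bwd 313, .fwd 319],
   .loop (some (9, 4)) [.bwd 319, .fwd 313, .bwd 312, .fwd 316, .fwd 318, .bwd 316, .fwd 312, .bwd 313, .fwd 319],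
   .define,
   .define,
   .loop (some (54, 10)) [.bwd 247, .fwd 245, .fwd 246, .bwd 141, .fwd 66, .bwd 51, .bwd 48, .bwd 23, .bwd 15, .fwd 38, .fwd 42, .bwd 71, .bwd 237, .bwd 236, .fwd 250, .fwd 252, .fwd 322, .fwd 323],
   .loop (some (60, 4)) [.fwd 323, .fwd 324, .fwd 248, .fwd 118, .fwd 119, .bwd 133, .bwd 136, .fwd 139, .bwd 140, .bwd 248, .bwd 324],
   .loop (some (64, 2)) [.bwd 322, .bwd 240, .fwd 238, .fwd 249, .bwd 247, .fwd 247, .bwd 324],
   .loop (some (64, 6)) [.fwd 326, .bwd 326, .fwd 324, .bwd 247, .fwd 244, .fwd 247, .bwd 324],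
   .define,
   .define,
   .loop (some (17, 1)) [.fwd 252, .fwd 322, .fwd 323, .fwd 324, .bwd 257, .fwd 328, .fwd 329],
   .loop (some (26, 8)) [.fwd 329, .fwd 330, .fwd 252, .fwd 322, .bwd 326, .fwd 325, .bwd 322, .bwd 240, .bwd 236, .fwd 234, .fwd 236, .fwd 238, .fwd 240, .fwd 241, .bwd 118, .bwd 116, .fwd 121, .fwd 123, .bwd 150, .bwd 149, .bwd 147, .bwd 146, .fwd 143, .bwd 144, .bwd 147, .bwd 146, .fwd 143, .bwd 253, .bwd 330],
   .loop (some (3, 0)) [.bwd 331, .fwd 330, .bwd 251, .fwd 254, .fwd 328],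
   .loop (some (3, 3)) [.fwd 331, .bwd 328, .bwd 256, .fwd 250, .bwd 330],
   .define,
   .loop (some (35, 8)) [.bwd 334, .fwd 262, .fwd 260, .fwd 184, .fwd 172, .bwd 184, .bwd 260, .bwd 262, .fwd 334],
   .define,
   .loop (some (46, 2)) [.fwd 154, .bwd 171, .bwd 184, .bwd 181, .bwd 179, .fwd 183, .bwd 202, .fwd 204, .fwd 202, .fwd 179, .fwd 181, .bwd 260, .bwd 262, .fwd 334, .fwd 336],
   .define,
   .loop (some (31, 1)) [.fwd 335, .bwd 334, .bwd 261, .bwd 298, .fwd 338],
   .loop (some (31, 5)) [.bwd 338, .bwd 297, .bwd 291, .fwd 334, .bwd 339],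
   .define,
   .loop (some (30, 2)) [.bwd 341, .bwd 338, .fwd 299, .fwd 338, .fwd 341],
   .loop (some (43, 12)) [.fwd 156, .bwd 174, .fwd 177, .bwd 184, .fwd 182, .bwd 181, .fwd 208, .fwd 209, .fwd 277, .fwd 279, .bwd 275, .bwd 263, .fwd 334, .bwd 339, .fwd 341],
   .define,
   .loop (some (33, 0)) [.bwd 344, .bwd 334, .fwd 262, .fwd 260, .fwd 184, .bwd 169, .fwd 175, .fwd 185, .bwd 304, .bwd 303, .fwd 338],
   .define,
   .loop (some (3, 0)) [.bwd 346, .fwd 340, .fwd 345, .bwd 344, .fwd 335],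
   .loop (some (63, 1)) [.bwd 344, .bwd 339, .fwd 346],
   .define,
   .loop (some (27, 10)) [.fwd 337, .bwd 152, .bwd 79, .bwd 77, .bwd 72, .bwd 70, .fwd 69, .fwd 70, .fwd 72, .fwd 77, .fwd 79, .fwd 80, .fwd 233, .fwd 256, .bwd 254, .fwd 251, .bwd 250, .bwd 233, .fwd 143, .fwd 145, .bwd 136, .fwd 148, .fwd 349],
   .loop (some (64, 6)) [.fwd 350, .bwd 350, .bwd 349, .fwd 147, .fwd 149, .fwd 155, .bwd 343],
   .loop (some (62, 2)) [.fwd 350, .bwd 336, .bwd 339, .fwd 346, .fwd 348],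
   .define,
   .loop (some (3, 3)) [.bwd 350, .bwd 349, .bwd 146, .fwd 143, .fwd 353],
   .loop (some (60, 2)) [.bwd 353, .bwd 253, .fwd 252, .fwd 322, .bwd 325, .fwd 324, .bwd 257, .fwd 255, .fwd 349, .bwd 352, .bwd 348],
   .define,
   .loop (some (12, 1)) [.fwd 352, .bwd 349, .bwd 255, .fwd 328, .fwd 356],
   .define,
   .loop (some (12, 1)) [.fwd 355, .bwd 353, .bwd 253, .bwd 330, .fwd 358],
   .loop (some (62, 3)) [.bwd 356, .fwd 329, .fwd 331, .fwd 329, .fwd 358],
   .loop (some (3, 0)) [.bwd 360, .fwd 359, .bwd 347, .fwd 344, .bwd 357],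
   .define,
   .loop (some (40, 7)) [.bwd 362, .bwd 205, .fwd 201, .fwd 204, .fwd 203, .fwd 167, .bwd 166, .fwd 78, .fwd 37, .fwd 22, .bwd 200, .fwd 205, .fwd 206, .fwd 362],
   .define,
   .loop (some (31, 3)) [.fwd 198, .bwd 207, .fwd 362, .fwd 363, .fwd 364],
   .loop (some (31, 1)) [.bwd 364, .bwd 362, .bwd 205, .bwd 199, .bwd 365],
   .define,
   .loop (some (33, 0)) [.bwd 367, .bwd 362, .fwd 268, .fwd 269, .fwd 334, .fwd 344, .bwd 345, .bwd 338, .fwd 300, .bwd 301, .bwd 365],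
   .loop (some (63, 1)) [.bwd 367, .fwd 363, .fwd 367],
   .define,
   .loop (some (2, 0)) [.bwd 370, .fwd 366, .fwd 368, .bwd 367, .fwd 363],
   .define,
   .loop (some (30, 2)) [.bwd 174, .fwd 185, .fwd 197, .bwd 365, .fwd 372],
   .loop (some (66, 18)) [.fwd 373, .bwd 156, .bwd 155, .bwd 149, .fwd 142, .bwd 130, .fwd 123, .fwd 124, .fwd 49, .bwd 124, .bwd 150, .bwd 149, .bwd 246, .fwd 254, .fwd 328, .bwd 331, .bwd 329, .fwd 356, .bwd 360, .fwd 359, .bwd 346, .fwd 341, .fwd 343, .fwd 156, .bwd 373],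
   .define,
   .loop (some (31, 2)) [.fwd 373, .bwd 156, .bwd 343, .fwd 342, .fwd 375],
   .define,
   .loop (some (11, 2)) [.bwd 375, .bwd 341, .fwd 339, .fwd 336, .fwd 377],
   .define,
   .loop (some (23, 9)) [.bwd 349, .bwd 148, .fwd 136, .bwd 131, .bwd 76, .fwd 233, .fwd 236, .fwd 240, .bwd 252, .bwd 330, .bwd 329, .bwd 328, .bwd 254, .fwd 246, .fwd 144, .fwd 145, .bwd 136, .fwd 148, .fwd 349, .bwd 351, .fwd 375, .bwd 378, .fwd 379],
   .define,
   .loop (some (17, 2)) [.bwd 353, .fwd 145, .bwd 136, .fwd 148, .fwd 349, .bwd 380, .fwd 381],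
   .loop (some (59, 4)) [.fwd 381, .fwd 382, .bwd 353, .fwd 145, .bwd 136, .fwd 148, .fwd 349, .bwd 352, .bwd 348, .fwd 355, .bwd 382],
   .define,
   .loop (some (1, 3)) [.fwd 374, .bwd 372, .fwd 368, .bwd 367, .fwd 384],
   .loop (some (1, 1)) [.bwd 384, .fwd 371, .bwd 370, .fwd 372, .bwd 385],
   .loop (some (12, 1)) [.fwd 378, .fwd 376, .bwd 372, .bwd 364, .fwd 384],
   .loop (some (30, 2)) [.bwd 384, .bwd 362, .fwd 206, .fwd 362, .fwd 384],
   .loop (some (62, 2)) [.fwd 384, .fwd 386, .bwd 384, .fwd 363, .fwd 367, .fwd 369],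
   .loop none [.fwd 389],
   .loop none [.fwd 367, .bwd 390],
   .loop none [.fwd 368, .bwd 390, .fwd 371],
   .loop none [.fwd 392],
   .loop none [.fwd 371, .bwd 393],
   .define,
   .loop (some (35, 8)) [.bwd 395, .fwd 281, .bwd 280, .bwd 365, .fwd 366, .fwd 365, .fwd 280, .bwd 281, .fwd 395],
   .define,
   .loop (some (31, 0)) [.bwd 397, .fwd 396, .bwd 395, .fwd 279, .bwd 275],
   .loop (some (32, 1)) [.bwd 397, .bwd 395, .bwd 277, .bwd 264, .fwd 398],
   .define,
   .loop (some (33, 0)) [.bwd 400, .bwd 398, .fwd 271, .fwd 272, .fwd 362, .fwd 391, .bwd 394, .fwd 365, .fwd 280, .bwd 281, .fwd 395],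
   .define,
   .loop (some (3, 0)) [.bwd 402, .fwd 396, .fwd 401, .bwd 400, .fwd 399],
   .loop (some (63, 1)) [.bwd 400, .bwd 397, .fwd 402],
   .define,
   .loop (some (30, 2)) [.bwd 336, .bwd 334, .fwd 263, .fwd 398, .fwd 405],
   .define,
   .loop (some (31, 1)) [.bwd 407, .fwd 406, .fwd 377, .bwd 387, .fwd 388],
   .define,
   .loop (some (17, 2)) [.fwd 407, .bwd 408, .fwd 387, .bwd 377, .fwd 337, .fwd 154, .fwd 409],
   .define,
   .loop (some (27, 10)) [.bwd 409, .bwd 125, .fwd 79, .fwd 80, .fwd 76, .fwd 74, .fwd 58, .bwd 74, .bwd 76, .bwd 80, .bwd 79, .bwd 77, .fwd 73, .fwd 135, .bwd 134, .fwd 132, .bwd 131, .bwd 73, .bwd 120, .bwd 119, .bwd 118, .fwd 140, .fwd 411],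
   .define,
   .loop (some (12, 1)) [.bwd 174, .fwd 177, .fwd 171, .fwd 409, .fwd 413],
   .loop (some (14, 0)) [.fwd 412, .fwd 413, .fwd 414, .bwd 174, .fwd 177, .fwd 171, .bwd 126, .fwd 127, .bwd 414],
   .define,
   .loop (some (3, 1)) [.bwd 416, .bwd 122, .bwd 138, .fwd 411, .bwd 415],
   .loop (some (12, 2)) [.bwd 411, .bwd 139, .fwd 136, .fwd 133, .fwd 416],
   .define,
   .loop (some (24, 15)) [.bwd 411, .bwd 140, .fwd 118, .fwd 115, .bwd 237, .fwd 240, .bwd 252, .bwd 330, .bwd 329, .bwd 328, .bwd 256, .bwd 233, .fwd 143, .bwd 144, .fwd 142, .bwd 130, .bwd 138, .bwd 140, .fwd 118, .fwd 119, .fwd 416, .bwd 417, .bwd 413, .fwd 410, .fwd 419],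
   .loop (some (62, 4)) [.bwd 404, .bwd 402, .fwd 397, .fwd 405, .fwd 419],
   .define,
   .loop (some (11, 2)) [.fwd 404, .bwd 421, .fwd 420, .bwd 418, .fwd 422],
   .loop (some (17, 1)) [.fwd 420, .bwd 411, .bwd 140, .fwd 118, .fwd 119, .fwd 416, .fwd 422],
   .define,
   .loop (some (23, 3)) [.fwd 357, .bwd 345, .fwd 339, .fwd 336, .bwd 350, .bwd 380, .fwd 381, .fwd 382, .bwd 353, .bwd 143, .fwd 76, .bwd 73, .bwd 72, .bwd 115, .fwd 119, .fwd 416, .fwd 422, .fwd 424, .bwd 419, .bwd 405, .fwd 403, .fwd 404, .fwd 425],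
   .define,
   .loop (some (12, 2)) [.bwd 425, .bwd 421, .bwd 424, .fwd 423, .fwd 427],
   .loop (some (17, 2)) [.fwd 359, .fwd 348, .bwd 357, .bwd 426, .bwd 425, .bwd 404, .fwd 427],
   .loop (some (23, 5)) [.fwd 429, .bwd 358, .fwd 331, .fwd 329, .fwd 330, .fwd 252, .fwd 322, .bwd 326, .bwd 323, .bwd 325, .bwd 323, .bwd 326, .bwd 323, .bwd 322, .bwd 252, .bwd 330, .fwd 331, .fwd 356, .fwd 361, .bwd 426, .bwd 425, .bwd 404, .fwd 427],
   .loop (some (23, 13)) [.fwd 429, .bwd 358, .bwd 329, .bwd 331, .bwd 329, .bwd 328, .fwd 257, .bwd 324, .fwd 326, .bwd 325, .fwd 327, .bwd 323, .bwd 322, .bwd 252, .bwd 330, .fwd 333, .bwd 329, .fwd 356, .bwd 360, .bwd 429, .bwd 427, .fwd 404, .fwd 425],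
   .define,
   .define,
   .loop (some (66, 19)) [.bwd 302, .bwd 300, .fwd 298, .fwd 261, .fwd 263, .fwd 275, .fwd 276, .fwd 64, .fwd 141, .fwd 142, .bwd 129, .bwd 160, .fwd 162, .bwd 159, .fwd 173, .fwd 176, .fwd 174, .bwd 127, .bwd 123, .bwd 138, .bwd 139, .fwd 136, .bwd 145, .fwd 432, .fwd 433],
   .define,
   .define,
   .loop (some (31, 2)) [.bwd 432, .fwd 145, .bwd 136, .fwd 435, .fwd 436],
   .define,
   .define,
   .loop (some (31, 2)) [.bwd 435, .fwd 148, .fwd 349, .fwd 438, .fwd 439],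
   .loop (some (56, 13)) [.bwd 439, .bwd 438, .bwd 352, .bwd 348, .bwd 346, .fwd 339, .fwd 335, .bwd 339, .fwd 340, .fwd 346, .fwd 348, .fwd 352, .fwd 438, .fwd 439],
   .define,
   .loop (some (56, 13)) [.bwd 442, .bwd 432, .bwd 253, .fwd 252, .bwd 240, .bwd 236, .fwd 234, .fwd 236, .fwd 238, .fwd 240, .bwd 252, .fwd 253, .fwd 432, .fwd 442],
   .define,
   .loop (some (31, 3)) [.fwd 382, .bwd 353, .fwd 432, .fwd 442, .fwd 444],
   .define,
   .loop (some (48, 0)) [.fwd 358, .fwd 359, .fwd 348, .fwd 352, .fwd 438, .fwd 439, .fwd 441, .fwd 440, .fwd 436, .fwd 437, .fwd 442, .fwd 443, .bwd 442, .fwd 433, .fwd 446],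
   .define,
   .loop (some (17, 2)) [.bwd 444, .bwd 442, .bwd 437, .bwd 436, .bwd 440, .bwd 439, .fwd 448]]

/-- justifications -/
noncomputable def just3 : List Cert.Just :=
  [.define,
   .loop (some (56, 13)) [.bwd 450, .fwd 434, .bwd 317, .fwd 318, .bwd 315, .fwd 307, .bwd 310, .fwd 309, .fwd 310, .fwd 315, .fwd 318, .fwd 317, .bwd 434, .fwd 450],
   .loop (some (62, 3)) [.fwd 443, .bwd 442, .fwd 433, .fwd 450, .fwd 451],
   .define,
   .define,
   .loop (some (43, 0)) [.bwd 241, .bwd 252, .bwd 250, .fwd 256, .fwd 328, .fwd 329, .fwd 330, .fwd 253, .fwd 432, .fwd 442, .fwd 443, .fwd 444, .bwd 449, .fwd 453, .fwd 454],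
   .define,
   .loop (some (31, 1)) [.fwd 454, .fwd 455, .fwd 119, .fwd 416, .fwd 456],
   .define,
   .loop (some (66, 19)) [.bwd 289, .fwd 285, .bwd 277, .bwd 264, .bwd 263, .fwd 291, .bwd 290, .fwd 101, .bwd 113, .fwd 121, .fwd 123, .fwd 157, .fwd 173, .fwd 177, .bwd 169, .fwd 167, .bwd 166, .fwd 125, .fwd 409, .bwd 412, .bwd 418, .bwd 416, .bwd 119, .bwd 455, .fwd 458],
   .define,
   .loop (some (56, 13)) [.bwd 460, .fwd 455, .bwd 241, .bwd 252, .bwd 250, .fwd 236, .fwd 238, .bwd 236, .fwd 234, .fwd 250, .fwd 252, .fwd 241, .bwd 455, .fwd 460],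
   .define,
   .loop (some (31, 3)) [.bwd 140, .fwd 118, .bwd 455, .fwd 460, .fwd 462],
   .define,
   .loop (some (43, 10)) [.bwd 464, .fwd 437, .fwd 442, .fwd 443, .fwd 444, .fwd 445, .fwd 383, .fwd 380, .fwd 350, .bwd 354, .bwd 353, .fwd 145, .bwd 136, .fwd 139, .bwd 463],
   .define,
   .loop (some (31, 3)) [.fwd 420, .bwd 411, .bwd 463, .fwd 465, .fwd 466],
   .define,
   .loop (some (17, 1)) [.fwd 457, .fwd 454, .fwd 460, .fwd 462, .fwd 465, .fwd 466, .fwd 468],
   .loop (some (43, 11)) [.fwd 469, .fwd 457, .bwd 453, .bwd 448, .bwd 438, .bwd 352, .bwd 348, .bwd 346, .fwd 345, .bwd 357, .bwd 426, .bwd 425, .bwd 421, .bwd 467, .fwd 468],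
   .define,
   .loop (some (46, 0)) [.bwd 428, .bwd 427, .fwd 404, .bwd 421, .bwd 467, .fwd 468, .fwd 470, .bwd 468, .bwd 466, .bwd 465, .bwd 462, .fwd 461, .bwd 460, .fwd 458, .fwd 471],
   .define,
   .loop (some (56, 13)) [.bwd 473, .fwd 459, .bwd 320, .fwd 321, .bwd 319, .fwd 309, .fwd 310, .fwd 307, .bwd 310, .fwd 319, .fwd 321, .fwd 320, .bwd 459, .fwd 473],
   .loop (some (62, 3)) [.fwd 461, .bwd 460, .fwd 458, .fwd 473, .fwd 474],
   .define,
   .define,
   .loop (some (62, 4)) [.fwd 450, .fwd 452, .bwd 442, .fwd 476, .fwd 477],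
   .define,
   .define,
   .loop (some (30, 2)) [.fwd 253, .fwd 432, .fwd 476, .fwd 479, .fwd 480],
   .define,
   .define,
   .loop (some (2, 2)) [.bwd 471, .bwd 458, .fwd 460, .fwd 482, .fwd 483],
   .define,
   .loop (some (31, 3)) [.fwd 404, .fwd 425, .bwd 472, .bwd 484, .fwd 485],
   .define,
   .loop (some (1, 5)) [.bwd 487, .fwd 475, .fwd 461, .fwd 482, .fwd 483],
   .define,
   .loop (some (51, 10)) [.bwd 488, .bwd 483, .bwd 482, .fwd 461, .fwd 462, .fwd 465, .fwd 466, .fwd 467, .fwd 421, .fwd 425, .fwd 426, .bwd 356, .bwd 331, .fwd 333, .fwd 331, .fwd 332, .fwd 489],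
   .define,
   .loop (some (2, 1)) [.fwd 490, .bwd 487, .fwd 475, .bwd 460, .fwd 491],
   .define,
   .loop (some (31, 2)) [.bwd 489, .fwd 329, .fwd 330, .bwd 481, .fwd 493],
   .define,
   .loop (some (36, 7)) [.fwd 457, .fwd 454, .fwd 491, .fwd 492, .bwd 489, .fwd 329, .fwd 330, .bwd 481, .fwd 495],
   .define,
   .loop (some (2, 1)) [.bwd 457, .bwd 496, .bwd 495, .fwd 493, .fwd 497],
   .define,
   .define,
   .loop (some (62, 0)) [.bwd 500, .bwd 499, .fwd 498, .bwd 453, .fwd 449],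
   .define,
   .loop (some (46, 0)) [.fwd 241, .bwd 118, .fwd 140, .bwd 139, .fwd 435, .fwd 436, .fwd 464, .bwd 465, .bwd 462, .bwd 460, .bwd 454, .bwd 453, .fwd 449, .fwd 501, .fwd 502],
   .define,
   .loop (some (43, 10)) [.bwd 504, .fwd 494, .fwd 490, .bwd 488, .fwd 485, .fwd 486, .bwd 423, .bwd 422, .bwd 417, .fwd 415, .bwd 411, .bwd 140, .fwd 118, .bwd 241, .bwd 503],
   .define,
   .loop (some (31, 2)) [.fwd 503, .bwd 252, .bwd 330, .bwd 447, .fwd 506],
   .define,
   .loop (some (47, 14)) [.bwd 506, .fwd 447, .fwd 358, .fwd 359, .fwd 348, .fwd 352, .fwd 438, .fwd 439, .fwd 441, .fwd 440, .fwd 436, .fwd 437, .fwd 442, .bwd 452, .fwd 508],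
   .define,
   .loop (some (43, 10)) [.fwd 509, .fwd 507, .fwd 505, .bwd 504, .fwd 494, .bwd 489, .fwd 356, .bwd 426, .fwd 431, .fwd 430, .bwd 427, .fwd 404, .fwd 425, .bwd 428, .fwd 510],
   .define,
   .define,
   .loop (some (11, 2)) [.fwd 506, .bwd 509, .bwd 511, .fwd 512, .fwd 513],
   .define,
   .loop (some (1, 0)) [.bwd 515, .fwd 514, .bwd 446, .bwd 433, .fwd 476],
   .define,
   .loop (some (1, 1)) [.bwd 517, .bwd 516, .fwd 477, .fwd 478, .fwd 446],
   .define,
   .loop (some (33, 11)) [.bwd 519, .bwd 518, .fwd 447, .fwd 333, .fwd 331, .fwd 489, .bwd 492, .bwd 491, .fwd 455, .fwd 115, .fwd 117],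
   .loop (some (66, 0)) [.bwd 520, .bwd 116, .fwd 113, .bwd 98, .bwd 91, .bwd 90, .fwd 61, .bwd 59, .bwd 20, .fwd 18, .fwd 27, .fwd 34, .bwd 45, .bwd 46, .bwd 85, .fwd 86, .bwd 84, .fwd 290, .bwd 293, .bwd 434, .fwd 450, .fwd 452, .fwd 444, .bwd 449, .fwd 453, .fwd 454],
   .loop none [.bwd 521],
   .loop none [.fwd 520, .bwd 522, .fwd 455],
   .loop none [.bwd 523],
   .loop none [.fwd 116, .bwd 524, .fwd 115],
   .loop none [.bwd 525],
   .loop none [.bwd 121, .bwd 526, .fwd 72],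
   .loop none [.bwd 242, .bwd 526, .bwd 237],
   .loop none [.fwd 112, .bwd 526, .bwd 70],
   .loop none [.bwd 113, .bwd 526, .fwd 71],
   .loop none [.bwd 527],
   .loop none [.bwd 130, .bwd 531, .fwd 73],
   .loop none [.bwd 123, .bwd 531, .fwd 77],
   .loop none [.bwd 528],
   .loop none [.bwd 245, .bwd 534, .bwd 236],
   .loop none [.fwd 311, .bwd 534, .fwd 239],
   .loop none [.bwd 529],
   .loop none [.fwd 108, .bwd 537, .bwd 67],
   .loop none [.bwd 530],
   .loop none [.fwd 101, .bwd 539, .fwd 46],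
   .loop none [.fwd 98, .bwd 539, .bwd 42],
   .loop none [.bwd 99, .bwd 539, .bwd 85],
   .loop none [.bwd 102, .bwd 539, .fwd 43],
   .loop none [.bwd 532],
   .loop none [.fwd 142, .bwd 544, .bwd 76],
   .loop none [.bwd 533],
   .loop none [.bwd 124, .bwd 546, .fwd 78],
   .loop none [.bwd 535],
   .loop none [.bwd 305, .bwd 548, .fwd 235],
   .loop none [.bwd 536],
   .loop none [.fwd 550, .bwd 309, .bwd 550, .bwd 225],
   .loop none [.fwd 308, .bwd 550, .bwd 227],
   .loop none [.bwd 538],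
   .loop none [.bwd 106, .bwd 553, .bwd 57],
   .loop none [.bwd 540],
   .loop none [.bwd 84, .bwd 555, .bwd 44],
   .loop none [.fwd 82, .bwd 555, .fwd 89],
   .loop none [.fwd 555, .bwd 83, .bwd 555, .fwd 45],
   .loop none [.bwd 290, .bwd 555],
   .loop none [.bwd 541],
   .loop none [.fwd 542],
   .loop none [.bwd 543],
   .loop none [.fwd 562, .bwd 104, .bwd 562, .bwd 32],
   .loop none [.bwd 545],
   .loop none [.fwd 141, .bwd 564, .bwd 75],
   .loop none [.bwd 547],
   .loop none [.fwd 566, .bwd 49, .bwd 566, .bwd 34],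
   .loop none [.bwd 549],
   .loop none [.bwd 306, .bwd 568, .fwd 219],
   .loop none [.bwd 551],
   .loop none [.fwd 227, .bwd 570, .fwd 219],
   .loop none [.bwd 552],
   .loop none [.bwd 276, .bwd 572],
   .loop none [.bwd 554],
   .loop none [.fwd 574, .bwd 92, .bwd 574, .bwd 4],
   .loop none [.fwd 96, .bwd 574, .fwd 8],
   .loop none [.fwd 561, .bwd 556],
   .loop none [.fwd 577, .bwd 63, .bwd 577, .fwd 41],
   .loop none [.fwd 573, .bwd 577, .fwd 75],
   .loop none [.bwd 557, .bwd 560],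
   .loop none [.bwd 94, .bwd 580, .bwd 38],
   .loop none [.bwd 558],
   .loop none [.fwd 44, .bwd 582, .fwd 36],
   .loop none [.bwd 45, .bwd 582],
   .loop none [.bwd 559, .bwd 582, .bwd 78],
   .loop none [.bwd 563],
   .loop none [.fwd 565, .bwd 580],
   .loop none [.bwd 75, .bwd 587],
   .loop none [.bwd 567],
   .loop none [.fwd 589, .bwd 584, .bwd 589, .fwd 29],
   .loop none [.fwd 78, .bwd 589, .fwd 28],
   .loop none [.bwd 569],
   .loop none [.bwd 571],
   .loop none [.bwd 575],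
   .loop none [.bwd 576],
   .loop none [.fwd 587, .bwd 578],
   .loop none [.bwd 588, .bwd 596],
   .loop none [.fwd 593, .bwd 579],
   .loop none [.fwd 595, .bwd 581, .bwd 594]]

/-- justifications -/
noncomputable def just4 : List Cert.Just :=
  [.loop none [.bwd 597, .bwd 599, .bwd 0],
   .loop none [.fwd 586, .fwd 583, .bwd 587, .bwd 596, .bwd 599],
   .loop none [.fwd 585, .bwd 592, .bwd 598],
   .loop none [.bwd 590, .bwd 601],
   .loop none [.fwd 602, .bwd 591, .bwd 603],
   .loop none [.fwd 604, .bwd 600],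
   .loop none [.fwd 0, .bwd 605]]

/-- justifications -/
noncomputable def justs : List Cert.Just := just0 ++ just1 ++ just2 ++ just3 ++ just4

end CfsgLib.Spor.HSLocal.TcBad7
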